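import Groth.Agent.Lib.DR.DComp.Seq
import Mathlib.RingTheory.AdicCompletion.Basic
import Mathlib.RingTheory.AdicCompletion.Algebra
import Mathlib.RingTheory.AdicCompletion.Noetherian
import Mathlib.RingTheory.Henselian
import Mathlib.RingTheory.Jacobson.Ideal

/-!
# Modules on which an ideal acts derived-completely
-/

open scoped Pointwise

universe u v

namespace Groth.Agent.Lib.DR.DComp

variable {A : Type u} [CommRing A] {I : Ideal A}

/-- Derived Nakayama. -/
theorem subsingleton_of_smul_top (s : Finset A) : ∀ (M : Type v) [AddCommGroup M] [Module A M],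
    (∀ f ∈ s, DC f M) → Ideal.span (s : Set A) • (⊤ : Submodule A M) = ⊤ → Subsingleton M := by
  classical
  induction s using Finset.induction_on with
  | empty =>
    intro M _ _ _ h
    rw [Finset.coe_empty, Ideal.span_empty, Submodule.bot_smul] at h
    exact subsingleton_of_forall_eq 0 fun m => (Submodule.mem_bot A).1 (h ▸ Submodule.mem_top)
  | @insert a s ha ih =>
    intro M _ _ hd h
    let R := LinearMap.range (LinearMap.lsmul A M a)
    have hda := hd a (Finset.mem_insert_self _ _)
    have : Subsingleton (M ⧸ R) := ih (M ⧸ R)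
      (fun f hf => (hd f (Finset.mem_insert_of_mem hf)).coker _ (hd f (Finset.mem_insert_of_mem hf)).2)
      (by
        have e := congrArg (Submodule.map R.mkQ) h
        rw [Submodule.map_smul'', Submodule.map_top, Submodule.range_mkQ, Finset.coe_insert, Ideal.span_insert,
          Submodule.sup_smul] at e
        have h0 : Ideal.span {a} • (⊤ : Submodule A (M ⧸ R)) = ⊥ := by
          rw [Submodule.ideal_span_singleton_smul, eq_bot_iff]
          rintro x ⟨y, -, rfl⟩
          obtain ⟨y, rfl⟩ := Submodule.Quotient.mk_surjective _ y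
          exact (Submodule.mem_bot A).2 ((Submodule.Quotient.mk_eq_zero R).2 ⟨y, rfl⟩)
        rwa [h0, bot_sup_eq] at e)
    exact subsingleton_of_surjective hda.1
      (LinearMap.range_eq_top.1 (Submodule.Quotient.subsingleton_iff.1 this))

/-- The ideal of `j`-th powers. -/
def powSpan (s : Finset A) (j : ℕ) : Ideal A := Ideal.span ((· ^ j) '' (s : Set A))

theorem powSpan_le (s : Finset A) (j : ℕ) : powSpan s j ≤ Ideal.span (s : Set A) ^ j :=
  Ideal.span_le.2 (by rintro _ ⟨f, hf, rfl⟩; exact Ideal.pow_mem_pow (Ideal.subset_span hf) j)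

theorem powSpan_insert [DecidableEq A] (a : A) (s : Finset A) (j : ℕ) :
    powSpan (insert a s) j = Ideal.span {a ^ j} ⊔ powSpan s j := by
  rw [powSpan, Finset.coe_insert, Set.image_insert_eq, Ideal.span_insert, powSpan]

theorem pow_le_powSpan (s : Finset A) (j : ℕ) :
    Ideal.span (s : Set A) ^ (s.card * j + 1) ≤ powSpan s j := by
  classical
  induction s using Finset.induction_on with
  | empty => simp
  | @insert a s ha ih =>
    rw [powSpan_insert, Finset.coe_insert, Ideal.span_insert, Finset.card_insert_of_notMem ha,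
      show (s.card + 1) * j + 1 = j + (s.card * j + 1) by ring, ← Ideal.span_singleton_pow]
    exact Ideal.sup_pow_add_le_pow_sup_pow.trans (sup_le_sup le_rfl ih)

variable {M : Type v} [AddCommGroup M] [Module A M]

theorem exists_tail (s : Finset A) (hd : ∀ f ∈ s, DC f M) (d : ℕ → M)
    (h : ∀ j, d j ∈ powSpan s j • (⊤ : Submodule A M)) :
    ∃ t : ℕ → M, (∀ j, t j ∈ powSpan s j • (⊤ : Submodule A M)) ∧ ∀ j, t j - t (j + 1) = d j := by
  classical
  induction s using Finset.induction_on generalizing d with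
  | empty =>
    refine ⟨0, fun j => zero_mem _, fun j => ?_⟩
    have := h j
    simp only [powSpan, Finset.coe_empty, Set.image_empty, Ideal.span_empty, Submodule.bot_smul,
      Submodule.mem_bot] at this
    simp [this]
  | @insert a s ha ih =>
    have : ∀ j, ∃ m : M, ∃ d' ∈ powSpan s j • (⊤ : Submodule A M), a ^ j • m + d' = d j := fun j => by
      have hj := h j
      rw [powSpan_insert, Submodule.sup_smul, Submodule.ideal_span_singleton_smul, Submodule.mem_sup] at hj
      obtain ⟨_, ⟨m, -, rfl⟩, d', hd', e⟩ := hj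
      exact ⟨m, d', hd', e⟩
    choose m d' hd' e using this
    obtain ⟨x, hx⟩ := (hd a (Finset.mem_insert_self _ _)).2 m
    obtain ⟨t, ht, ht'⟩ := ih (fun f hf => hd f (Finset.mem_insert_of_mem hf)) d' hd'
    refine ⟨fun j => a ^ j • x j + t j, fun j => ?_, fun j => ?_⟩
    · rw [powSpan_insert, Submodule.sup_smul]
      exact Submodule.add_mem_sup (Submodule.smul_mem_smul (Ideal.mem_span_singleton_self _) trivial) (ht j)
    · show a ^ j • x j + t j - (a ^ (j + 1) • x (j + 1) + t (j + 1)) = d j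
      rw [← e j, ← ht' j, ← congrFun hx j, phi_apply, LinearMap.lsmul_apply, smul_sub, smul_smul, pow_succ]
      abel

/-- Derived completeness gives surjectivity onto the completion. -/
theorem isPrecomplete_of_dc (hI : I.FG) (hd : ∀ f ∈ I, DC f M) : IsPrecomplete I M := by
  obtain ⟨s, rfl⟩ := hI
  refine isPrecomplete_iff.2 fun x hx => ?_
  let g : ℕ → ℕ := fun j => s.card * j + j + 1
  have hg : ∀ j, g j ≤ g (j + 1) ∧ j ≤ g j ∧ s.card * j + 1 ≤ g j := fun j => by
    simp only [g]
    rw [mul_add, mul_one]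
    omega
  obtain ⟨t, ht, ht'⟩ := exists_tail s (fun f hf => hd f (Ideal.subset_span hf))
    (fun j => x (g (j + 1)) - x (g j)) fun j => by
      refine Submodule.smul_mono_left (Ideal.pow_le_pow_right (hg j).2.2 |>.trans (pow_le_powSpan s j)) ?_
      rw [← SModEq.sub_mem]
      exact (hx (hg j).1).symm
  refine ⟨x (g 0) + t 0, fun j => ?_⟩
  have hj : x (g j) + t j = x (g 0) + t 0 := by
    induction j with
    | zero => rfl
    | succ k ih =>
      rw [← ih, ← sub_eq_zero]
      have := ht' k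
      rw [eq_comm, ← sub_eq_zero] at this
      rw [← this]
      abel
  have h2 : x (g 0) + t 0 ≡ x (g j) [SMOD Ideal.span (s : Set A) ^ j • (⊤ : Submodule A M)] := by
    rw [SModEq.sub_mem, ← hj, add_sub_cancel_left]
    exact Submodule.smul_mono_left (powSpan_le s j) (ht j)
  exact (hx (hg j).2.1).trans h2.symm

theorem dc_of_isAdicComplete [IsAdicComplete I M] {f : A} (hf : f ∈ I) : DC f M := by
  have key : ∀ y : ℕ → M, (∀ n, y n = f • y (n + 1)) → y = 0 := fun y hy => by
    funext n
    refine IsHausdorff.haus inferInstance (I := I) _ fun k => ?_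
    rw [SModEq.sub_mem, sub_zero]
    have : ∀ k n, y n = f ^ k • y (n + k) := fun k => by
      induction k with
      | zero => intro n; simp
      | succ k ih =>
        intro n
        rw [pow_succ, mul_smul, ← add_assoc, ← hy, ← ih]
    rw [this k n]
    exact Submodule.smul_mem_smul (Ideal.pow_mem_pow hf k) trivial
  refine ⟨(injective_iff_map_eq_zero _).2 fun x hx => key x ((phi_eq_zero_iff _ _).1 hx), fun b => ?_⟩
  let S : ℕ → ℕ → M := fun n k => ∑ i ∈ Finset.range k, f ^ i • b (n + i)
  have hS : ∀ n k, S n (k + 1) = b n + f • S (n + 1) k := fun n k => by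
    simp only [S]
    rw [Finset.sum_range_succ', Finset.smul_sum, add_comm, pow_zero, one_smul, add_zero]
    refine congrArg (b n + ·) (Finset.sum_congr rfl fun i _ => ?_)
    rw [pow_succ', mul_smul, show n + 1 + i = n + (i + 1) by omega]
  have hc : ∀ n, ∃ L, ∀ k, S n k ≡ L [SMOD I ^ k • (⊤ : Submodule A M)] := fun n => by
    refine IsPrecomplete.prec inferInstance fun {p q} hpq => ?_
    rw [SModEq.sub_mem, ← neg_mem_iff, neg_sub]
    simp only [S]
    rw [← Finset.sum_Ico_eq_sub _ hpq]
    exact Submodule.sum_mem _ fun i hi =>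
      Submodule.smul_mono_left (Ideal.pow_le_pow_right (Finset.mem_Ico.1 hi).1)
        (Submodule.smul_mem_smul (Ideal.pow_mem_pow hf i) trivial)
  choose L hL using hc
  refine ⟨L, (phi_eq_iff _ _ _).2 fun n => sub_eq_zero.1 (IsHausdorff.haus inferInstance (I := I) _ fun k => ?_)⟩
  rw [SModEq.sub_mem, sub_zero]
  show L n - (b n + f • L (n + 1)) ∈ _
  have e : L n - (b n + f • L (n + 1)) =
      (L n - S n (k + 1)) + f • (S (n + 1) k - L (n + 1)) := by
    rw [hS, smul_sub]
    abel
  rw [e]
  refine add_mem (Submodule.smul_mono_left (Ideal.pow_le_pow_right k.le_succ) (SModEq.sub_mem.1 (hL n (k + 1)).symm))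
    (Submodule.smul_mem _ _ (SModEq.sub_mem.1 (hL (n + 1) k)))

theorem exists_pow_smul_eq_zero {f : A} (hf : DC f M) (ht : ∀ m : M, ∃ n : ℕ, f ^ n • m = 0) :
    ∃ N : ℕ, ∀ m : M, f ^ N • m = 0 := by
  classical
  by_contra hne
  push Not at hne
  let P : ℕ → Submodule A M := fun n => LinearMap.range (LinearMap.lsmul A M (f ^ n))
  have hP : ∀ n, ∃ m : M, f ^ n • m ∉ P (n + 1) := fun n => by
    by_contra h
    push Not at h
    choose g hg using h
    have hbot : LinearMap.range (LinearMap.lsmul A M (f ^ n)) = ⊥ := by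
      have hsub : Subsingleton (P n) := subsingleton_of_surjective
          (e := LinearMap.lsmul A (P n) f) ((injective_iff_map_eq_zero _).2 fun x hx => ?_) fun y => ?_
      · exact Submodule.subsingleton_iff_eq_bot.1 hsub
      · funext i
        exact Subtype.ext (congrFun (eq_zero_of_chain hf.1 (fun i => (x i : M)) fun i =>
          congrArg Subtype.val ((phi_eq_zero_iff _ _).1 hx i)) i)
      · obtain ⟨m, hm⟩ := y.2
        refine ⟨⟨f ^ n • g m, g m, rfl⟩, Subtype.ext ?_⟩
        show f • f ^ n • g m = y.1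
        rw [smul_smul, ← pow_succ', ← hm]
        exact hg m
    obtain ⟨m, hm⟩ := hne n
    exact hm ((LinearMap.congr_fun (LinearMap.range_eq_bot.1 hbot) m))
  choose w hw using hP
  let s : ℕ → M := Nat.rec 0 fun N sN => if f ^ N • sN ∈ P (2 * N + 1) then sN + f ^ N • w (2 * N) else sN
  have hs : ∀ N, ∃ c : M, s (N + 1) = s N + f ^ N • c ∧ f ^ N • s (N + 1) ∉ P (2 * N + 1) := fun N => by
    by_cases h : f ^ N • s N ∈ P (2 * N + 1)
    · have e : s (N + 1) = s N + f ^ N • w (2 * N) := if_pos h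
      refine ⟨_, e, fun h' => hw (2 * N) ?_⟩
      rw [e, smul_add, add_mem_cancel_left h, smul_smul, ← pow_add, ← two_mul] at h'
      exact h'
    · have e : s (N + 1) = s N := if_neg h
      exact ⟨0, by rw [e, smul_zero, add_zero], by rwa [e]⟩
  choose b hb hbP using hs
  obtain ⟨x, hx⟩ := hf.2 b
  have hk : ∀ k, x 0 = s k + f ^ k • x k := fun k => by
    induction k with
    | zero => simp [s]
    | succ k ih =>
      have h0 := (phi_eq_iff _ _ _).1 hx k
      rw [ih, h0, smul_add, hb, LinearMap.lsmul_apply, smul_smul, ← pow_succ]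
      abel
  obtain ⟨N, hN⟩ := ht (x 0)
  apply hbP N
  rw [hk (N + 1), smul_add, add_eq_zero_iff_eq_neg, smul_smul, ← pow_add] at hN
  rw [hN]
  exact neg_mem ⟨x (N + 1), by rw [LinearMap.lsmul_apply, show N + (N + 1) = 2 * N + 1 by omega]⟩

theorem smul_eq_zero_of_mem_iInf {f a : A} (hf : DC f M) (ha : ∀ n : ℕ, ∃ c, f ^ n * c = a) {m : M}
    (hm : ∀ n : ℕ, ∃ y, f ^ n • y = m) : a • m = 0 := by
  choose c hc using ha
  choose y hy using hm
  have h : (fun n => c n • m) = 0 := eq_zero_of_chain hf.1 _ fun n => by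
    show c n • m = f • c (n + 1) • m
    have e1 : c n • m = a • y n := by rw [← hy n, smul_smul, ← hc n, mul_comm]
    conv_lhs => rw [e1, ← hc (n + 1), pow_succ', mul_assoc, mul_smul, mul_comm, mul_smul, hy n]
  have h0 := congrFun h 0
  have h1 := hc 0
  rw [pow_zero, one_mul] at h1
  rw [← h1]
  exact h0

/-- An element whose powers compose derived-completely lies in the Jacobson radical. -/
theorem isUnit_one_add {f : A} (hf : DC f A) (a : A) : IsUnit (1 + f * a) := by
  have h := hf.mul_left (-a)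
  obtain ⟨y, hy⟩ := h.2 fun _ => 1
  have h1 : y 1 = y 0 := congrFun (@h.1 (fun n => y (n + 1)) y (funext fun n =>
    (congrFun hy (n + 1)).trans (congrFun hy n).symm)) 0
  have h0 := congrFun hy 0
  rw [phi_apply, zero_add, h1, LinearMap.lsmul_apply, smul_eq_mul] at h0
  exact IsUnit.of_mul_eq_one (b := y 0) (by linear_combination h0)

theorem le_jacobson (h : ∀ f ∈ I, DC f A) : I ≤ Ideal.jacobson ⊥ := fun f hf =>
  Ideal.mem_jacobson_bot.2 fun y => by rw [add_comm]; exact isUnit_one_add (h f hf) y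

theorem iInf_pow_pow_eq_bot (n : ℕ) : ∀ {B : Type u} [CommRing B] (t : Finset B), t.card ≤ n →
    (∀ f ∈ t, DC f B) → (⨅ k : ℕ, Ideal.span (t : Set B) ^ k) ^ 2 ^ n = ⊥ := by
  classical
  induction n with
  | zero =>
    intro B _ t ht _
    rw [Finset.card_eq_zero.1 (Nat.le_zero.1 ht), pow_zero, pow_one, eq_bot_iff]
    exact (iInf_le _ 1).trans (by simp)
  | succ n ih =>
    intro B _ t ht hd
    rcases t.eq_empty_or_nonempty with rfl | ⟨a, ha⟩
    · rw [eq_bot_iff]
      exact (Ideal.pow_le_self (by positivity)).trans ((iInf_le _ 1).trans (by simp))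
    let J : Ideal B := ⨅ k : ℕ, Ideal.span (t : Set B) ^ k
    let r := t.erase a
    have hr : r.card ≤ n := by
      rw [Finset.card_erase_of_mem ha]; omega
    have hJ : J ^ 2 ^ n ≤ ⨅ k : ℕ, Ideal.span {a ^ k} := le_iInf fun k => by
      let Q := Ideal.span {a ^ k}
      let π := Ideal.Quotient.mk Q
      have hQ : ∀ f ∈ r.image π, DC f (B ⧸ Q) := fun f hf => by
        obtain ⟨g, hg, rfl⟩ := Finset.mem_image.1 hf
        have hg' := hd g (Finset.mem_of_mem_erase hg)
        have hR : LinearMap.range (LinearMap.lsmul B B (a ^ k)) = Q := by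
          refine Submodule.ext fun x => ?_
          rw [Ideal.mem_span_singleton']
          exact ⟨fun ⟨y, hy⟩ => ⟨y, by rw [← hy]; exact mul_comm _ _⟩,
            fun ⟨y, hy⟩ => ⟨y, by rw [← hy]; exact mul_comm _ _⟩⟩
        have h1 : DC g (B ⧸ Q) := (hg'.coker (LinearMap.lsmul B B (a ^ k)) hg'.2).congr
          (Submodule.quotEquivOfEq _ _ hR)
        exact h1
      have h2 := ih (r.image π) (Finset.card_image_le.trans hr) hQ
      have h3 : J.map π ≤ ⨅ m : ℕ, Ideal.span ((r.image π : Finset _) : Set (B ⧸ Q)) ^ m := le_iInf fun m => by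
        refine (Ideal.map_mono (iInf_le _ (k + m))).trans ?_
        rw [← Finset.insert_erase ha, Finset.coe_insert, Ideal.span_insert]
        refine (Ideal.map_mono Ideal.sup_pow_add_le_pow_sup_pow).trans ?_
        rw [Ideal.map_sup, Ideal.span_singleton_pow, Ideal.map_quotient_self, bot_sup_eq, Ideal.map_pow,
          Ideal.map_span, Finset.coe_image]
      have h4 : (J ^ 2 ^ n).map π = ⊥ := by
        rw [Ideal.map_pow, eq_bot_iff, ← h2]
        exact Ideal.pow_right_mono h3 _
      rwa [Ideal.map_eq_bot_iff_le_ker, Ideal.mk_ker] at h4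
    rw [pow_succ, pow_mul, pow_two, eq_bot_iff]
    refine (Ideal.mul_mono hJ hJ).trans (Ideal.mul_le.2 fun x hx y hy => ?_)
    have hmem : ∀ z ∈ ⨅ k : ℕ, Ideal.span {a ^ k}, ∀ k : ℕ, ∃ c, a ^ k * c = z := fun z hz k => by
      obtain ⟨c, hc⟩ := Ideal.mem_span_singleton'.1 ((Submodule.mem_iInf _).1 hz k)
      exact ⟨c, by rw [mul_comm, hc]⟩
    exact (Submodule.mem_bot B).2 (smul_eq_zero_of_mem_iInf (hd a ha) (hmem x hx) (hmem y hy))

theorem isHausdorff_self (hI : I.FG) (hd : ∀ f ∈ I, DC f A) [IsReduced A] : IsHausdorff I A := by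
  obtain ⟨s, rfl⟩ := hI
  refine ⟨fun x hx => ?_⟩
  have hJ : x ∈ ⨅ k : ℕ, Ideal.span (s : Set A) ^ k := (Submodule.mem_iInf _).2 fun k => by
    have := hx k
    rw [SModEq.sub_mem, sub_zero, smul_eq_mul, Ideal.mul_top] at this
    exact this
  refine eq_zero_of_pow_eq_zero (n := 2 ^ s.card) ((Submodule.mem_bot A).1 ?_)
  rw [← iInf_pow_pow_eq_bot s.card s le_rfl fun f hf => hd f (Ideal.subset_span hf)]
  exact Ideal.pow_mem_pow hJ _

theorem henselianRing_of_dc (hd : ∀ f ∈ I, DC f A) : HenselianRing A I := by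
  refine ⟨le_jacobson hd, fun P hP a₀ ha₀ hu => ?_⟩
  let e := P.eval a₀
  let S : Finset A := {e}
  let J : Ideal A := ⨅ k : ℕ, Ideal.span {e} ^ k
  have hde : DC e A := hd e ha₀
  have hSs : ((S : Set A)) = {e} := Finset.coe_singleton e
  have hJ2 : J ^ 2 = ⊥ := by
    have := iInf_pow_pow_eq_bot 1 S (le_of_eq (Finset.card_singleton e)) (by simp [S, hde])
    rwa [hSs, pow_one] at this
  have hJe : J ≤ Ideal.span {e} := (iInf_le _ 1).trans (le_of_eq (pow_one _))
  let π := Ideal.Quotient.mk J
  let E : Ideal (A ⧸ J) := (Ideal.span {e}).map π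
  have hde' : ∀ f ∈ Ideal.span {e}, DC f A := forall_dc_of_span rfl (by simpa using hde)
  have hP0 : IsPrecomplete (Ideal.span {e}) A := isPrecomplete_of_dc ⟨{e}, by simp⟩ hde'
  have hEk : ∀ k : ℕ, E ^ k • (⊤ : Submodule (A ⧸ J) (A ⧸ J)) = (Ideal.span {e} ^ k).map π := fun k => by
    rw [smul_eq_mul, Ideal.mul_top, Ideal.map_pow]
  have hc : IsAdicComplete E (A ⧸ J) :=
    { haus' := fun x hx => by
        obtain ⟨x, rfl⟩ := Ideal.Quotient.mk_surjective x
        refine Ideal.Quotient.eq_zero_iff_mem.2 ((Submodule.mem_iInf _).2 fun k => ?_)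
        have h0 := hx k
        rw [SModEq.sub_mem, sub_zero, hEk] at h0
        obtain ⟨y, hy, hyx⟩ := (Ideal.mem_map_iff_of_surjective π Ideal.Quotient.mk_surjective).1 h0
        have h1 : y - x ∈ Ideal.span {e} ^ k :=
          (iInf_le (fun k : ℕ => Ideal.span {e} ^ k) k) (Ideal.Quotient.eq.1 hyx)
        simpa using sub_mem hy h1
      prec' := fun x hx => by
        choose y hy using fun n => Ideal.Quotient.mk_surjective (x n)
        obtain ⟨L, hL⟩ := IsPrecomplete.prec hP0 (f := y) fun {m n} hmn => by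
          have h0 := hx hmn
          rw [← hy m, ← hy n, SModEq.sub_mem, hEk, ← map_sub] at h0
          obtain ⟨z, hz, hzx⟩ := (Ideal.mem_map_iff_of_surjective π Ideal.Quotient.mk_surjective).1 h0
          have h1 : z - (y m - y n) ∈ Ideal.span {e} ^ m :=
            (iInf_le (fun k : ℕ => Ideal.span {e} ^ k) m) (Ideal.Quotient.eq.1 hzx)
          rw [SModEq.sub_mem, smul_eq_mul, Ideal.mul_top]
          simpa using sub_mem hz h1
        refine ⟨π L, fun n => ?_⟩
        have h0 := hL n
        rw [SModEq.sub_mem, smul_eq_mul, Ideal.mul_top] at h0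
        rw [← hy n, SModEq.sub_mem, hEk, ← map_sub]
        exact Ideal.mem_map_of_mem _ h0 }
  have hH : HenselianRing (A ⧸ J) E := inferInstance
  obtain ⟨r, hr, hr'⟩ := hH.is_henselian (P.map π) (hP.map π) (π a₀)
    (by rw [Polynomial.eval_map, Polynomial.eval₂_hom]; exact Ideal.mem_map_of_mem π (Ideal.mem_span_singleton_self e))
    (by
      rw [Polynomial.derivative_map, Polynomial.eval_map, Polynomial.eval₂_hom]
      exact (((IsLocalHom.map_nonunit (self := isLocalHom_of_le_jacobson_bot I (le_jacobson hd)) _ hu).map π).map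
        (Ideal.Quotient.mk E)))
  obtain ⟨a₁, rfl⟩ := Ideal.Quotient.mk_surjective r
  have hd1 : a₁ - a₀ ∈ Ideal.span {e} := by
    rw [← map_sub] at hr'
    obtain ⟨y, hy, hy'⟩ := (Ideal.mem_map_iff_of_surjective π Ideal.Quotient.mk_surjective).1 hr'
    simpa using sub_mem hy (hJe (Ideal.Quotient.eq.1 hy'))
  have hε : P.eval a₁ ∈ J := by
    rw [Polynomial.IsRoot, Polynomial.eval_map, Polynomial.eval₂_hom] at hr
    exact Ideal.Quotient.eq_zero_iff_mem.1 hr
  have hsub : Ideal.span {e} ≤ I := (Ideal.span_singleton_le_iff_mem _).2 ha₀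
  have hu1 : IsUnit (P.derivative.eval a₁) := by
    refine IsLocalHom.map_nonunit (self := isLocalHom_of_le_jacobson_bot I (le_jacobson hd)) _ ?_
    have : Ideal.Quotient.mk I (P.derivative.eval a₁) = Ideal.Quotient.mk I (P.derivative.eval a₀) := by
      rw [← Polynomial.eval₂_hom, ← Polynomial.eval₂_hom,
        (Ideal.Quotient.eq.2 (hsub hd1) : Ideal.Quotient.mk I a₁ = Ideal.Quotient.mk I a₀)]
    rwa [this]
  obtain ⟨v, hv⟩ := hu1
  let d := -(((v⁻¹ : Aˣ) : A) * P.eval a₁)
  have hd' : d ∈ J := neg_mem (Ideal.mul_mem_left _ _ hε)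
  refine ⟨a₁ + d, ?_, ?_⟩
  · obtain ⟨c, hc'⟩ := Polynomial.binomExpansion P a₁ d
    rw [Polynomial.IsRoot, hc']
    have : c * d ^ 2 = 0 := by
      have h0 : d ^ 2 ∈ J ^ 2 := Ideal.pow_mem_pow hd' 2
      rw [hJ2, Submodule.mem_bot] at h0
      rw [h0, mul_zero]
    rw [this, add_zero, ← hv, mul_neg, ← mul_assoc, Units.mul_inv, one_mul, add_neg_cancel]
  · rw [add_sub_right_comm]
    exact add_mem (hsub hd1) (hsub (hJe hd'))

end Groth.Agent.Lib.DR.DComp
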