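import Groth.Agent.Lib.DR.DComp.TensorLaws
import Groth.Agent.Lib.DR.LTensorModule
import Groth.Agent.Lib.DR.Coherent

/-!
# `- ⊗ M` as tensoring with a one-term complex
-/

universe u

open CategoryTheory CategoryTheory.Limits MonoidalCategory HomologicalComplex
open Groth.Agent.Lib.DerivedOX
open Groth.Agent.Lib.TensorCx.Basic

attribute [local instance] HasDerivedCategory.standard

set_option backward.isDefEq.respectTransparency false

namespace Groth.Agent.Lib.DR.DComp

variable {A : Type u} [CommRing A] (M : ModuleCat.{u} A)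

/-- `(single M) ` on the right computes `- ⊗ M`. -/
noncomputable def tensSingleIso (P : DRing.Cx A) :
    (TorAmp.tens M).obj P ≅ P ⊗ (single (ModuleCat.{u} A) (.up ℤ) 0).obj M :=
  Hom.isoOfComponents
    (fun q => @asIso _ _ _ _ (Bifunctor.singleHom₂ (KFlat.tbi A) P 0 M q q (add_zero q))
      (Bifunctor.isIso_singleHom₂ (KFlat.tbi A) P 0 M q q (add_zero q)))
    (fun q q' hq => Bifunctor.singleHom₂_d (KFlat.tbi A) P 0 M q q' q q' (add_zero q) (add_zero q') hq)

theorem tensSingleIso_naturality {P G : DRing.Cx A} (h : P ⟶ G) :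
    (TorAmp.tens M).map h ≫ (tensSingleIso M G).hom =
      (tensSingleIso M P).hom ≫ h ▷ (single (ModuleCat.{u} A) (.up ℤ) 0).obj M := by
  refine Hom.ext (funext fun q => ModuleCat.hom_ext (TensorProduct.ext' fun p m => ?_))
  exact (RelHom.mapL_incl h q 0 q (add_zero q) p _).symm

end Groth.Agent.Lib.DR.DComp
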