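import Groth.Agent.Lib.DR.DComp.HomLeft
import Groth.Agent.Lib.DR.DComp.TensorSingle
import Groth.Agent.Lib.ExtCech.Basic
import Mathlib.Algebra.Homology.HomotopyCategory.DegreewiseSplit

/-!
# Completion via `Hom` out of the extended Čech complex
-/

universe u

open CategoryTheory CategoryTheory.Limits MonoidalCategory CochainComplex CochainComplex.HomComplex
open Groth.Agent.Lib.RGamma
open Groth.Agent.Lib.TensorCx.Basic
open Groth.Agent.Lib.ExtCech (cf cs cocone_ext mkPair cf_mkPair cs_mkPair cf_d cs_d φ_d)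
open scoped TensorProduct

attribute [local instance] HasDerivedCategory.standard

set_option backward.isDefEq.respectTransparency false

namespace Groth.Agent.Lib.DR.DComp

variable {A : Type u} [CommRing A]

/-- The extended Čech complex of the ring. -/
noncomputable abbrev cech (fs : List A) : DRing.Cx A := DerCA.extCech (ModuleCat.of A A) fs

theorem locX_smul_eq (g : A) {M : ModuleCat.{u} A} (x : (DerCA.locFunctor (Submonoid.powers g)).obj M) :
    ∃ (m : ℕ) (y : M), g ^ m • x = ((DerCA.locUnit (Submonoid.powers g)).app M).hom y := by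
  obtain ⟨⟨y, ⟨_, m, rfl⟩⟩, hs⟩ := IsLocalizedModule.surj (Submonoid.powers g)
    (LocalizedModule.mkLinearMap (Submonoid.powers g) M) x
  exact ⟨m, y, hs⟩

/-- The cohomology of the extended Čech complex is torsion for every element of the list. -/
theorem cech_torsion : ∀ (fs : List A) (f : A), f ∈ fs → ∀ (q : ℤ) (x : (cech fs).X q),
    ((cech fs).d q (q + 1)).hom x = 0 →
      ∃ (n : ℕ) (y : (cech fs).X (q + -1)), ((cech fs).d (q + -1) q).hom y = f ^ n • x
  | [], f, hf, _, _, _ => absurd hf List.not_mem_nil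
  | g :: fs, f, hf, q, c, hc => by
    let C := cech fs
    let L := (DerCA.locCx (Submonoid.powers g)).obj C
    let φ : C ⟶ L := DerCA.locCxUnit (Submonoid.powers g) C
    have hq : q + -1 + 1 = q := by omega
    have h1 : (C.d q (q + 1)).hom (cf φ q c) = 0 := (cf_d φ q (q + 1) c).symm.trans
      ((congrArg (cf φ (q + 1)) hc).trans (map_zero _))
    have h2 : -(φ.f q).hom (cf φ q c) - (L.d (q + -1) q).hom (cs φ q (q + -1) rfl c) = 0 :=
      (cs_d φ q (q + 1) (q + -1) rfl rfl c).symm.trans
        ((congrArg (cs φ (q + 1) q (by omega)) hc).trans (map_zero _))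
    rcases List.mem_cons.1 hf with rfl | hf
    · obtain ⟨m, l', hl⟩ := locX_smul_eq f (cs φ q (q + -1) rfl c)
      replace hl : f ^ m • cs φ q (q + -1) rfl c = (φ.f (q + -1)).hom l' := hl
      have h3 : (φ.f q).hom (f ^ m • cf φ q c + (C.d (q + -1) q).hom l') = 0 := by
        rw [map_add, map_smul, φ_d, ← hl, map_smul, ← smul_add]
        have : (φ.f q).hom (cf φ q c) + (L.d (q + -1) q).hom (cs φ q (q + -1) rfl c) = 0 := by
          rw [← neg_eq_zero, neg_add, ← sub_eq_add_neg]; exact h2
        rw [this, smul_zero]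
      obtain ⟨s, ⟨p, rfl⟩, hs⟩ := (ExtCech.locUnit_eq_zero_iff (Submonoid.powers f) _).1 h3
      refine ⟨p + m, mkPair φ (q + -1) (q + -1 + -1) rfl (-(f ^ p • l')) 0, cocone_ext φ q (q + -1) rfl ?_ ?_⟩
      · refine (cf_d φ (q + -1) q _).trans ((congrArg (C.d (q + -1) q).hom (cf_mkPair φ _ _ rfl _ _)).trans ?_)
        refine Eq.trans ?_ (map_smul (cf φ q) _ c).symm
        rw [map_neg, map_smul, pow_add, mul_smul]
        exact neg_eq_of_add_eq_zero_left ((smul_add _ _ _).symm.trans hs)
      · refine (cs_d φ (q + -1) q (q + -1 + -1) hq rfl _).trans (Eq.trans ?_ (map_smul (cs φ q (q + -1) rfl) _ c).symm)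
        rw [cf_mkPair, cs_mkPair, map_zero, sub_zero, map_neg, neg_neg, map_smul, ← hl, pow_add, mul_smul]
        rfl
    · obtain ⟨n, k, hk⟩ := cech_torsion fs f hf q _ h1
      let r := f ^ n • cs φ q (q + -1) rfl c + (φ.f (q + -1)).hom k
      have hr : (L.d (q + -1) q).hom r = 0 := by
        simp only [r, map_add, map_smul]
        rw [← φ_d, hk, map_smul, ← smul_add]
        have : (L.d (q + -1) q).hom (cs φ q (q + -1) rfl c) + (φ.f q).hom (cf φ q c) = 0 := by
          rw [← neg_eq_zero, neg_add, add_comm, ← sub_eq_add_neg]; exact h2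
        rw [this, smul_zero]
      obtain ⟨i, r₀, hr₀⟩ := locX_smul_eq g r
      replace hr₀ : g ^ i • r = (φ.f (q + -1)).hom r₀ := hr₀
      have h4 : (φ.f q).hom ((C.d (q + -1) q).hom r₀) = 0 := by
        rw [φ_d, ← hr₀, map_smul, hr, smul_zero]
      obtain ⟨_, ⟨j, rfl⟩, hj⟩ := (ExtCech.locUnit_eq_zero_iff (Submonoid.powers g) _).1 h4
      obtain ⟨m, w, hw⟩ := cech_torsion fs f hf (q + -1) (g ^ j • r₀) (by rw [hq, map_smul]; exact hj)
      have hu : IsUnit (algebraMap A (Module.End A (L.X (q + -1 + -1))) (g ^ (j + i))) :=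
        IsLocalizedModule.map_units (LocalizedModule.mkLinearMap (Submonoid.powers g) (C.X (q + -1 + -1)))
          ⟨g ^ (j + i), pow_mem (Submonoid.mem_powers g) _⟩
      obtain ⟨z, hz⟩ := ((Module.End.isUnit_iff _).1 hu).2 ((φ.f (q + -1 + -1)).hom w)
      replace hz : g ^ (j + i) • z = (φ.f (q + -1 + -1)).hom w := hz
      have hz' : (L.d (q + -1 + -1) (q + -1)).hom z = f ^ m • r := by
        refine ((Module.End.isUnit_iff _).1 (IsLocalizedModule.map_units
          (LocalizedModule.mkLinearMap (Submonoid.powers g) (C.X (q + -1))) ⟨g ^ (j + i), pow_mem (Submonoid.mem_powers g) _⟩)).1 ?_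
        show g ^ (j + i) • (L.d (q + -1 + -1) (q + -1)).hom z = g ^ (j + i) • f ^ m • r
        rw [← map_smul, hz, ← φ_d, hw, map_smul, map_smul, ← hr₀, smul_comm _ (f ^ m), smul_smul (g ^ j), ← pow_add]
      refine ⟨m + n, mkPair φ (q + -1) (q + -1 + -1) rfl (f ^ m • k) (-z), cocone_ext φ q (q + -1) rfl ?_ ?_⟩
      · refine (cf_d φ (q + -1) q _).trans ((congrArg (C.d (q + -1) q).hom (cf_mkPair φ _ _ rfl _ _)).trans ?_)
        refine Eq.trans ?_ (map_smul (cf φ q) _ c).symm
        rw [map_smul, hk, pow_add, mul_smul]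
        rfl
      · refine (cs_d φ (q + -1) q (q + -1 + -1) hq rfl _).trans (Eq.trans ?_ (map_smul (cs φ q (q + -1) rfl) _ c).symm)
        rw [cf_mkPair, cs_mkPair, map_neg, hz', map_smul, pow_add, mul_smul]
        simp only [r, smul_add]
        abel

/-- The extended Čech complex is a bounded complex of flat modules. -/
theorem cech_bounded_flat : ∀ fs : List A,
    (∀ i : ℤ, (fs.length : ℤ) < i → IsZero ((cech fs).X i)) ∧ ∀ i, Module.Flat A ((cech fs).X i)
  | [] => ⟨fun i hi => HomologicalComplex.isZero_single_obj_X _ _ _ _ (by simp at hi; omega), fun i => by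
      by_cases h : i = 0
      · subst h
        exact Module.Flat.of_linearEquiv
          (HomologicalComplex.singleObjXSelf (ComplexShape.up ℤ) (0 : ℤ) (ModuleCat.of A A)).toLinearEquiv
      · have := ExtCech.subsingleton_X_nil (ModuleCat.of A A) i h
        show Module.Flat A ((DerCA.extCech (ModuleCat.of A A) []).X i)
        infer_instance⟩
  | g :: fs => by
    obtain ⟨hb, hf⟩ := cech_bounded_flat fs
    let C := cech fs
    let φ := DerCA.locCxUnit (Submonoid.powers g) C
    refine ⟨fun i hi => ?_, fun i => ?_⟩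
    · rw [List.length_cons] at hi
      have h1 := ModuleCat.subsingleton_of_isZero (hb i (by omega))
      have h2 := ModuleCat.subsingleton_of_isZero (hb (i + -1) (by omega))
      have h3 := ExtCech.subsingleton_locX (Submonoid.powers g) h2
      have : Subsingleton ((cech (g :: fs)).X i) := ⟨fun x y =>
        cocone_ext φ i (i + -1) rfl (Subsingleton.elim _ _) (Subsingleton.elim _ _)⟩
      exact ModuleCat.isZero_of_subsingleton _
    · have hl : Module.Flat A (((DerCA.locCx (Submonoid.powers g)).obj C).X (i - 1)) := by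
        have := hf (i - 1)
        have : Module.Flat A (Localization (Submonoid.powers g)) := IsLocalization.flat _ (Submonoid.powers g)
        exact Module.Flat.of_linearEquiv
          ((LocalizedModule.equivTensorProduct (Submonoid.powers g) (C.X (i - 1))).restrictScalars A)
      exact BaseChange.good_flat.iso (DerCA.mappingCoconeXIso φ i).symm
        (BaseChange.good_flat.biprod (hf i) hl)

theorem isKFlat_cech (fs : List A) : DRing.IsKFlat A (cech fs) :=
  KFlat.isKFlat_of_flat _ fs.length (cech_bounded_flat fs).1 (cech_bounded_flat fs).2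

/-- Inverting a listed element makes the extended Čech complex acyclic. -/
theorem acyclic_away_tensor_cech {fs : List A} {f : A} (hf : f ∈ fs) :
    ((HomologicalComplex.single (ModuleCat.{u} A) (ComplexShape.up ℤ) 0).obj (ModuleCat.of A (Localization.Away f)) ⊗
      cech fs).Acyclic := by
  let B := ModuleCat.of A (Localization.Away f)
  refine fun q => HomologicalComplex.ExactAt.of_iso ?_ (LTensorCx.singleTensorIsoLeft B (cech fs)).symm
  rw [HomologicalComplex.exactAt_iff' _ (q + -1) q (q + 1) (by simp; omega) (by simp),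
    ShortComplex.moduleCat_exact_iff]
  intro (z : Localization.Away f ⊗[A] (cech fs).X q) hz
  let C := cech fs
  let u : ∀ i, C.X i →ₗ[A] Localization.Away f ⊗[A] C.X i := fun i => TensorProduct.mk A _ (C.X i) 1
  have hu : ∀ i, IsLocalizedModule (Submonoid.powers f) (u i) := fun i => inferInstance
  obtain ⟨⟨x, ⟨_, m, rfl⟩⟩, hs⟩ := IsLocalizedModule.surj (Submonoid.powers f) (u q) z
  replace hs : f ^ m • z = (1 : Localization.Away f) ⊗ₜ x := hs
  replace hz : ((C.d q (q + 1)).hom.lTensor (Localization.Away f)) z = 0 := hz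
  have h0 : u (q + 1) ((C.d q (q + 1)).hom x) = 0 := by
    show (1 : Localization.Away f) ⊗ₜ (C.d q (q + 1)).hom x = 0
    rw [← LinearMap.lTensor_tmul, ← hs, map_smul, hz, smul_zero]
  obtain ⟨⟨_, t, rfl⟩, ht⟩ := (IsLocalizedModule.eq_zero_iff (Submonoid.powers f) (u (q + 1))).1 h0
  replace ht : f ^ t • (C.d q (q + 1)).hom x = 0 := ht
  obtain ⟨n, y, hy⟩ := cech_torsion fs f hf q (f ^ t • x) (by rw [map_smul]; exact ht)
  obtain ⟨w, hw⟩ := ((Module.End.isUnit_iff _).1
    (IsLocalizedModule.map_units (u (q + -1)) ⟨f ^ (n + t + m), pow_mem (Submonoid.mem_powers f) _⟩)).2 (u (q + -1) y)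
  replace hw : f ^ (n + t + m) • w = (1 : Localization.Away f) ⊗ₜ y := hw
  refine ⟨w, ((Module.End.isUnit_iff _).1
    (IsLocalizedModule.map_units (u q) ⟨f ^ (n + t + m), pow_mem (Submonoid.mem_powers f) _⟩)).1 ?_⟩
  show f ^ (n + t + m) • ((C.d (q + -1) q).hom.lTensor (Localization.Away f)) w = f ^ (n + t + m) • z
  rw [← map_smul, hw, LinearMap.lTensor_tmul, hy, pow_add, mul_smul (f ^ (n + t)), hs, pow_add, mul_smul,
    TensorProduct.tmul_smul, TensorProduct.tmul_smul]

/-- A complex on which `f` is bijective is its own localisation. -/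
theorem bijective_mk_one {f : A} {M : Type u} [AddCommGroup M] [Module A M]
    (hM : Function.Bijective fun x : M => f • x) :
    Function.Bijective fun x : M => x ⊗ₜ[A] (1 : Localization.Away f) := by
  have hn : ∀ n : ℕ, Function.Bijective fun x : M => f ^ n • x := fun n => by
    induction n with
    | zero => simp only [pow_zero, one_smul]; exact Function.bijective_id
    | succ k ih =>
      have : (fun x : M => f ^ (k + 1) • x) = (fun x : M => f ^ k • x) ∘ fun x => f • x := by
        funext x; simp [pow_succ, mul_smul]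
      rw [this]
      exact ih.comp hM
  let u : M →ₗ[A] Localization.Away f ⊗[A] M := TensorProduct.mk A _ M 1
  have hu : IsLocalizedModule (Submonoid.powers f) u := inferInstance
  have h : Function.Bijective u := ⟨fun a b h => by
      obtain ⟨⟨_, n, rfl⟩, hc⟩ := (IsLocalizedModule.eq_iff_exists (Submonoid.powers f) u).1 h
      exact (hn n).1 hc, fun z => by
      obtain ⟨⟨x, ⟨_, n, rfl⟩⟩, hs⟩ := IsLocalizedModule.surj (Submonoid.powers f) u z
      obtain ⟨y, rfl⟩ := (hn n).2 x
      exact ⟨y, ((Module.End.isUnit_iff _).1 (IsLocalizedModule.map_units u ⟨f ^ n, pow_mem (Submonoid.mem_powers f) _⟩)).1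
        ((map_smul u (f ^ n) y).symm.trans hs.symm)⟩⟩
  exact (TensorProduct.comm A (Localization.Away f) M).bijective.comp h

theorem acyclic_tensor_cech {fs : List A} {f : A} (hf : f ∈ fs) (W : DRing.Cx A)
    (hW : ∀ i, Function.Bijective fun x : W.X i => f • x) : (W ⊗ cech fs).Acyclic := by
  let B := ModuleCat.of A (Localization.Away f)
  let S : DRing.Cx A := (HomologicalComplex.single (ModuleCat.{u} A) (ComplexShape.up ℤ) 0).obj B
  let u : W ⟶ (TorAmp.tens B).obj W :=
    { f := fun i => ModuleCat.ofHom ((TensorProduct.mk A (W.X i) B).flip (1 : Localization.Away f))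
      comm' := fun i j _ => ModuleCat.hom_ext (LinearMap.ext fun _ => rfl) }
  have : ∀ i, IsIso (u.f i) := fun i => (ConcreteCategory.isIso_iff_bijective _).2 (bijective_mk_one (hW i))
  have : IsIso u := HomologicalComplex.Hom.isIso_of_components u
  let e : W ⊗ cech fs ≅ W ⊗ (S ⊗ cech fs) :=
    whiskerRightIso (asIso u ≪≫ tensSingleIso B W) (cech fs) ≪≫ α_ W S (cech fs)
  have hS : DRing.IsKFlat A S := by
    have : Module.Flat A B := IsLocalization.flat (Localization.Away f) (Submonoid.powers f)
    refine KFlat.isKFlat_of_flat _ 0 (fun i hi => HomologicalComplex.isZero_single_obj_X _ _ _ _ (by omega)) fun i => ?_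
    by_cases h : i = 0
    · subst h
      exact Module.Flat.of_linearEquiv (HomologicalComplex.singleObjXSelf (ComplexShape.up ℤ) (0 : ℤ) B).toLinearEquiv
    · have := ModuleCat.subsingleton_of_isZero (HomologicalComplex.isZero_single_obj_X (ComplexShape.up ℤ) (0 : ℤ) B i h)
      infer_instance
  have hE : DRing.IsKFlat A (S ⊗ cech fs) := fun L hL i => by
    have h1 : ∀ j, IsZero ((((L ⊗ S) ⊗ cech fs)).homology j) := isKFlat_cech fs _ (hS L hL)
    exact (h1 i).of_iso ((HomologicalComplex.homologyFunctor (ModuleCat.{u} A) (ComplexShape.up ℤ) i).mapIso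
      (α_ L S (cech fs)).symm)
  have hP := KProjRes.isKProjective_res A W
  have hq := KProjRes.quasiIso_aug A W
  have h1 : ((KProjRes.res A).obj W ⊗ (S ⊗ cech fs)).Acyclic :=
    (DerivedOX.StalkCx.isKFlat_iff_left _).1 (KFlat.isKFlat_of_isKProjective _) _ (acyclic_away_tensor_cech hf)
  have h2 : QuasiIso ((KProjRes.aug A).app W ▷ (S ⊗ cech fs)) :=
    KFlat.quasiIso_tensor_of_isKFlat hE ((KProjRes.aug A).app W)
  intro q
  have h3 : (W ⊗ (S ⊗ cech fs)).ExactAt q := by
    rw [HomologicalComplex.exactAt_iff_isZero_homology]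
    exact ((h1 q).isZero_homology).of_iso
      (@asIso _ _ _ _ (HomologicalComplex.homologyMap ((KProjRes.aug A).app W ▷ (S ⊗ cech fs)) q)
        ((quasiIsoAt_iff_isIso_homologyMap _ _).1 (h2.quasiIsoAt q))).symm
  exact h3.of_iso e.symm

theorem perp_homCx_cech {fs : List A} {f : A} (hf : f ∈ fs) (J : DRing.Cx A) [J.IsKInjective] (W : DRing.Cx A)
    (hW : ∀ i, Function.Bijective fun x : W.X i => f • x)
    (φ : DerivedCategory.Q.obj W ⟶ DerivedCategory.Q.obj (DRing.homCx (cech fs) J)) : φ = 0 := by
  have := isKInjective_homCx (isKFlat_cech fs) J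
  obtain ⟨g, rfl⟩ := EvalHom.exists_Q_map_eq_injective φ
  obtain ⟨h⟩ := (HomCx.homotopy_iff (HomCx.homEquiv.symm g) (0 : W ⊗ cech fs ⟶ J)).2
    ⟨CochainComplex.IsKInjective.homotopyZero _ (acyclic_tensor_cech hf W hW)⟩
  have h0 : HomCx.homEquiv (0 : W ⊗ cech fs ⟶ J) = 0 := by
    refine HomologicalComplex.hom_ext _ _ fun i => ModuleCat.hom_ext (LinearMap.ext fun x =>
      HomCx.lv_ext fun p q hpq => LinearMap.ext fun k => ?_)
    rw [HomCx.homEquiv_apply]
    rfl
  rw [DerivedCategory.Q_map_eq_of_homotopy _ ((Homotopy.ofEq (HomCx.homEquiv.apply_symm_apply g).symm).trans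
    (h.trans (Homotopy.ofEq h0))), Functor.map_zero]

theorem isDerivedComplete_homCx_cech (fs : List A) (I : Ideal A) (hI : Ideal.span {x : A | x ∈ fs} = I)
    (J : DRing.Cx A) [J.IsKInjective] :
    DRing.IsDerivedComplete I (DerivedCategory.Q.obj (DRing.homCx (cech fs) J)) := by
  classical
  refine isDerivedComplete_iff.2 fun a ha i => forall_dc_of_span (s := fs.toFinset)
    (by rw [← hI, List.coe_toFinset]) (fun f hf => ?_) a ha
  have h : DRing.IsDerivedComplete (Ideal.span {f}) (DerivedCategory.Q.obj (DRing.homCx (cech fs) J)) :=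
    isDerivedComplete_of_perp fun g hg W hW φ => by
      obtain ⟨c, rfl⟩ := Ideal.mem_span_singleton'.1 hg
      refine perp_homCx_cech (List.mem_toFinset.1 hf) J W (fun j => ⟨fun x y h => (hW j).1 ?_, fun y => ?_⟩) φ
      · show (c * f) • x = (c * f) • y
        rw [mul_smul, mul_smul]
        exact congrArg (c • ·) h
      · obtain ⟨x, hx⟩ := (hW j).2 y
        refine ⟨c • x, ?_⟩
        show f • c • x = y
        rw [smul_comm, ← mul_smul]
        exact hx
  exact isDerivedComplete_iff.1 h f (Ideal.mem_span_singleton_self f) i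

/-- The short complex `L⟦-1⟧ ⟶ cocone φ ⟶ K`. -/
theorem exists_cocone_ses {K L : DRing.Cx A} (φ : K ⟶ L) :
    ∃ (j : L⟦(-1 : ℤ)⟧ ⟶ mappingCocone φ) (h : j ≫ mappingCocone.fst φ = 0),
      ∀ n, Nonempty ((ShortComplex.mk j (mappingCocone.fst φ) h).map
        (HomologicalComplex.eval (ModuleCat.{u} A) (ComplexShape.up ℤ) n)).Splitting := by
  let j : L⟦(-1 : ℤ)⟧ ⟶ mappingCocone φ := (CochainComplex.mappingCone.inr φ)⟦(-1 : ℤ)⟧'
  have hj : ∀ n, j.f n = (mappingCocone.inr φ).1.v (n + -1) n (by omega) := fun n => by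
    show (CochainComplex.mappingCone.inr φ).f (n + -1) = _
    simp [mappingCocone.inr, Cochain.rightShift_v _ _ _ _ _ _ _ _ (add_zero (n + -1))]
  have h : j ≫ mappingCocone.fst φ = 0 := HomologicalComplex.hom_ext _ _ fun n => by
    rw [HomologicalComplex.comp_f, hj n, mappingCocone.inr_v_fst_f]
    rfl
  refine ⟨j, h, fun n => ⟨?_⟩⟩
  exact
    { r := (mappingCocone.snd φ).v n (n + -1) rfl
      s := (mappingCocone.inl φ).v n n (add_zero n)
      f_r := by
        show j.f n ≫ _ = _
        rw [hj n]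
        exact mappingCocone.inr_v_snd_v φ _ _ _
      s_g := mappingCocone.inl_v_fst_f φ n
      id := by
        show (mappingCocone.snd φ).v n (n + -1) rfl ≫ j.f n +
          (mappingCocone.fst φ).f n ≫ (mappingCocone.inl φ).v n n (add_zero n) = 𝟙 _
        rw [hj n, add_comm]
        exact mappingCocone.id_X φ n (n + -1) rfl }

theorem pBij_precomp_fst {I : Ideal A} {g : A} (hg : g ∈ I) (C J : DRing.Cx A) :
    PBij I (DerivedCategory.Q.map
      ((RHomRes.precomp (mappingCocone.fst (DerCA.locCxUnit (Submonoid.powers g) C))).app J)) := by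
  obtain ⟨j, h, hσ⟩ := exists_cocone_ses (DerCA.locCxUnit (Submonoid.powers g) C)
  obtain ⟨h', hS⟩ := shortExact_homCx_left J _ fun n => (hσ n).some
  refine pBij_of_triangle _ (DerivedCategory.triangleOfSES_distinguished hS)
    (perp_of_bijective g hg _ (bijective_smul_homCx_left g (fun i => ?_) J))
  exact ExtCech.smul_bijective_loc_self g (C.X (i + -1))

theorem pBij_precomp_aug {I : Ideal A} (J : DRing.Cx A) : ∀ fs : List A, (∀ f ∈ fs, f ∈ I) →
    PBij I (DerivedCategory.Q.map ((RHomRes.precomp (ExtCech.aug (ModuleCat.of A A) fs)).app J))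
  | [], _ => by
    have : IsIso ((RHomRes.precomp (ExtCech.aug (ModuleCat.of A A) ([] : List A))).app J) :=
      haveI : IsIso (ExtCech.aug (ModuleCat.of A A) ([] : List A)) := inferInstanceAs (IsIso (𝟙 _))
      isIso_precomp_app _ J
    exact pBij_of_isIso _
  | g :: fs, h => by
    have e : (RHomRes.precomp (ExtCech.aug (ModuleCat.of A A) (g :: fs))).app J =
        (RHomRes.precomp (ExtCech.aug (ModuleCat.of A A) fs)).app J ≫
          (RHomRes.precomp (mappingCocone.fst (DerCA.locCxUnit (Submonoid.powers g) (cech fs)))).app J :=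
      precomp_comp _ _ J
    rw [e, Functor.map_comp]
    exact pBij_comp (pBij_precomp_aug J fs fun f hf => h f (List.mem_cons_of_mem _ hf))
      (pBij_precomp_fst (h g List.mem_cons_self) (cech fs) J)

end Groth.Agent.Lib.DR.DComp
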