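import Groth.Agent.Lib.DR.DComp.Step

/-!
# The derived completion functor
-/

universe u

open CategoryTheory CategoryTheory.Limits Pretriangulated
open Groth.Agent.Lib.RGamma

attribute [local instance] HasDerivedCategory.standard

set_option backward.isDefEq.respectTransparency false

namespace Groth.Agent.Lib.DR.DComp

variable {A : Type u} [CommRing A] {I : Ideal A}

theorem hasDerivedCompletion (hI : I.FG) : DRing.HasDerivedCompletion I := by
  obtain ⟨s, hs⟩ := hI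
  choose K' η h1 h2 _ using fun K : Dual.D A => exists_completion s hs K
  let e : ∀ (K : Dual.D A) (Y : DRing.DComp I), ((⟨K' K, h1 K⟩ : DRing.DComp I) ⟶ Y) ≃ (K ⟶ Y.obj) := fun K Y =>
    Equiv.ofBijective (fun g => η K ≫ g.hom)
      ⟨fun a b h => ObjectProperty.hom_ext _ ((h2 K Y.obj Y.property).1 h), fun φ => by
        obtain ⟨g, hg⟩ := (h2 K Y.obj Y.property).2 φ
        exact ⟨ObjectProperty.homMk g, hg⟩⟩
  exact (Adjunction.adjunctionOfEquivLeft (G := ObjectProperty.ι (DRing.IsDerivedComplete I))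
    (F_obj := fun K => (⟨K' K, h1 K⟩ : DRing.DComp I)) e (fun K Y Y' g h => (Category.assoc (η K) h.hom g.hom).symm)).isRightAdjoint

theorem pBij_toDerivedCompletion' [DRing.HasDerivedCompletion I] (K : Dual.D A) :
    PBij I (DRing.toDerivedCompletion I K) := fun Y hY => by
  let Y' : DRing.DComp I := ⟨Y, hY⟩
  have h := ((DRing.derivedCompletionAdj I).homEquiv K Y').bijective
  refine ⟨fun a b hab => ?_, fun φ => ?_⟩
  · have h' := @h.1 (ObjectProperty.homMk a) (ObjectProperty.homMk b) (by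
      rw [Adjunction.homEquiv_unit, Adjunction.homEquiv_unit]; exact hab)
    exact congrArg (fun x : _ ⟶ Y' => x.hom) h'
  · obtain ⟨x, hx⟩ := h.2 φ
    rw [Adjunction.homEquiv_unit] at hx
    exact ⟨x.hom, hx⟩

/-- Two completions of the same object are isomorphic. -/
theorem exists_iso_of_pBij {K K₁ K₂ : Dual.D A} {η₁ : K ⟶ K₁} {η₂ : K ⟶ K₂} (h₁ : PBij I η₁) (h₂ : PBij I η₂)
    (c₁ : DRing.IsDerivedComplete I K₁) (c₂ : DRing.IsDerivedComplete I K₂) :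
    ∃ e : K₁ ≅ K₂, η₁ ≫ e.hom = η₂ := by
  obtain ⟨a, ha⟩ := (h₁ K₂ c₂).2 η₂
  obtain ⟨b, hb⟩ := (h₂ K₁ c₁).2 η₁
  have ha' : η₁ ≫ a = η₂ := ha
  have hb' : η₂ ≫ b = η₁ := hb
  exact ⟨⟨a, b, (h₁ K₁ c₁).1 (show η₁ ≫ a ≫ b = η₁ ≫ 𝟙 _ by rw [reassoc_of% ha', hb', Category.comp_id]),
    (h₂ K₂ c₂).1 (show η₂ ≫ b ≫ a = η₂ ≫ 𝟙 _ by rw [reassoc_of% hb', ha', Category.comp_id])⟩, ha'⟩

/-- Cohomological amplitude of a completion. -/
theorem subsingleton_HD_of_pBij {s : Finset A} (hs : Ideal.span (s : Set A) = I) {K K₁ : Dual.D A} {η : K ⟶ K₁}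
    (h : PBij I η) (c : DRing.IsDerivedComplete I K₁) (i : ℤ)
    (hv : ∀ j, i ≤ j → j ≤ i + (s.card : ℤ) → Subsingleton (Dual.HD A K j)) : Subsingleton (Dual.HD A K₁ i) := by
  obtain ⟨K', η', c', h', hb⟩ := exists_completion s hs K
  obtain ⟨e, -⟩ := exists_iso_of_pBij h h' c c'
  have := hb i hv
  exact ((hF A i).mapIso e).toLinearEquiv.toEquiv.subsingleton

theorem pBij_shift {X X' : Dual.D A} {g : X ⟶ X'} (h : PBij I g) : PBij I (g⟦(1 : ℤ)⟧') := fun Y hY => by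
  let adj := (shiftEquiv (Dual.D A) (1 : ℤ)).toAdjunction
  have := h _ (isDerivedComplete_shift hY (-1))
  have e : (fun φ : X'⟦(1 : ℤ)⟧ ⟶ Y => g⟦(1 : ℤ)⟧' ≫ φ) =
      (adj.homEquiv X Y).symm ∘ (fun φ => g ≫ φ) ∘ adj.homEquiv X' Y := funext fun φ => by
    show _ = (adj.homEquiv X Y).symm (g ≫ adj.homEquiv X' Y φ)
    rw [← adj.homEquiv_naturality_left]
    exact ((adj.homEquiv X Y).symm_apply_apply _).symm
  rw [e]
  exact (adj.homEquiv X Y).symm.bijective.comp (this.comp (adj.homEquiv X' Y).bijective)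

/-- Derived complete objects are stable under cones. -/
theorem isDerivedComplete_obj₃ (T : Triangle (Dual.D A)) (hT : T ∈ distTriang (Dual.D A))
    (h₁ : DRing.IsDerivedComplete I T.obj₁) (h₂ : DRing.IsDerivedComplete I T.obj₂) :
    DRing.IsDerivedComplete I T.obj₃ := by
  rw [isDerivedComplete_iff] at h₁ h₂ ⊢
  intro f hf i
  have e2 := (ShortComplex.ShortExact.moduleCat_exact_iff_function_exact _).1
    (DerivedCategory.HomologySequence.exact₂ T hT i)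
  have e3 := (ShortComplex.ShortExact.moduleCat_exact_iff_function_exact _).1
    (DerivedCategory.HomologySequence.exact₃ T hT i (i + 1))
  have e1 := (ShortComplex.ShortExact.moduleCat_exact_iff_function_exact _).1
    (DerivedCategory.HomologySequence.exact₁ T hT i (i + 1))
  let u : Dual.HD A T.obj₁ i →ₗ[A] Dual.HD A T.obj₂ i := ((hF A i).map T.mor₁).hom
  let u' : Dual.HD A T.obj₁ (i + 1) →ₗ[A] Dual.HD A T.obj₂ (i + 1) := ((hF A (i + 1)).map T.mor₁).hom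
  let v : Dual.HD A T.obj₂ i →ₗ[A] Dual.HD A T.obj₃ i := ((hF A i).map T.mor₂).hom
  let d : Dual.HD A T.obj₃ i →ₗ[A] Dual.HD A T.obj₁ (i + 1) :=
    (DerivedCategory.HomologySequence.δ T i (i + 1) rfl).hom
  have hv : LinearMap.range u = LinearMap.ker v := Submodule.ext fun y => (e2 y).symm
  refine dc_of_exact (Submodule.liftQ _ v hv.le)
    (LinearMap.codRestrict (LinearMap.ker u') d fun w => (e1 _).2 ⟨w, rfl⟩)
    (LinearMap.ker_eq_bot.1 (Submodule.ker_liftQ_eq_bot _ _ _ hv.ge))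
    (fun y => by obtain ⟨w, hw⟩ := (e1 y.1).1 y.2; exact ⟨w, Subtype.ext hw⟩) ?_
    ((h₂ f hf i).coker u (h₁ f hf i).2) ((h₁ f hf (i + 1)).ker u' (h₂ f hf (i + 1)).1)
  rw [Submodule.range_liftQ]
  exact Submodule.ext fun w => Subtype.ext_iff.trans (e3 w)

variable [DRing.HasDerivedCompletion I]

theorem isDerivedComplete_completion (K : Dual.D A) :
    DRing.IsDerivedComplete I ((DRing.derivedCompletion I).obj K).obj :=
  ((DRing.derivedCompletion I).obj K).property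

theorem toDerivedCompletion_naturality {K L : Dual.D A} (φ : K ⟶ L) :
    φ ≫ DRing.toDerivedCompletion I L = DRing.toDerivedCompletion I K ≫ ((DRing.derivedCompletion I).map φ).hom :=
  (DRing.derivedCompletionAdj I).unit.naturality φ

/-- Completion is exact: the cone of the completion of a map is the completion of the cone. -/
theorem exists_cone_completion {K L C : Dual.D A} (φ : K ⟶ L) (p : L ⟶ C) (δ : C ⟶ K⟦(1 : ℤ)⟧)
    (hT : Triangle.mk φ p δ ∈ distTriang (Dual.D A)) :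
    ∃ (D : Dual.D A) (p' : ((DRing.derivedCompletion I).obj L).obj ⟶ D)
      (δ' : D ⟶ ((DRing.derivedCompletion I).obj K).obj⟦(1 : ℤ)⟧) (h : C ⟶ D),
      Triangle.mk ((DRing.derivedCompletion I).map φ).hom p' δ' ∈ distTriang (Dual.D A) ∧
        DRing.IsDerivedComplete I D ∧ PBij I h := by
  let φ' := ((DRing.derivedCompletion I).map φ).hom
  let ηK := DRing.toDerivedCompletion I K
  let ηL := DRing.toDerivedCompletion I L
  obtain ⟨D, p', δ', hT'⟩ := distinguished_cocone_triangle φ'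
  obtain ⟨h, h1, h2⟩ : ∃ h : C ⟶ D, p ≫ h = ηL ≫ p' ∧ δ ≫ ηK⟦(1 : ℤ)⟧' = h ≫ δ' :=
    complete_distinguished_triangle_morphism (Triangle.mk φ p δ) (Triangle.mk φ' p' δ') hT hT'
      ηK ηL (toDerivedCompletion_naturality φ)
  refine ⟨D, p', δ', h, hT', isDerivedComplete_obj₃ _ hT' (isDerivedComplete_completion K)
    (isDerivedComplete_completion L), fun Y hY => ⟨fun a b hab => sub_eq_zero.1 ?_, fun a => ?_⟩⟩
  · have h0 : h ≫ (a - b) = 0 := by rw [Preadditive.comp_sub]; exact sub_eq_zero.2 hab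
    obtain ⟨χ, hχ⟩ := Triangle.yoneda_exact₃ _ hT' (a - b) ((pBij_toDerivedCompletion' L Y hY).1 (by
      show ηL ≫ p' ≫ (a - b) = ηL ≫ (0 : _ ⟶ Y)
      rw [← reassoc_of% h1, h0, comp_zero, comp_zero]))
    obtain ⟨ω, hω⟩ := Triangle.yoneda_exact₂ _ (rot_of_distTriang _ (rot_of_distTriang _ hT))
      (ηK⟦(1 : ℤ)⟧' ≫ χ) (by
        show δ ≫ ηK⟦(1 : ℤ)⟧' ≫ χ = 0
        rw [reassoc_of% h2]
        exact (congrArg (h ≫ ·) hχ.symm).trans h0)
    obtain ⟨ω', hω'⟩ := (pBij_shift (pBij_toDerivedCompletion' L) Y hY).2 ω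
    have hn : φ⟦(1 : ℤ)⟧' ≫ ηL⟦(1 : ℤ)⟧' = ηK⟦(1 : ℤ)⟧' ≫ φ'⟦(1 : ℤ)⟧' :=
      ((shiftFunctor (Dual.D A) (1 : ℤ)).map_comp _ _).symm.trans
        ((congrArg _ (toDerivedCompletion_naturality φ)).trans ((shiftFunctor (Dual.D A) (1 : ℤ)).map_comp _ _))
    have hω'' : ηL⟦(1 : ℤ)⟧' ≫ ω' = ω := hω'
    have hχ' : χ = -(φ'⟦(1 : ℤ)⟧' ≫ ω') := (pBij_shift (pBij_toDerivedCompletion' K) Y hY).1 (by
      show ηK⟦(1 : ℤ)⟧' ≫ χ = ηK⟦(1 : ℤ)⟧' ≫ (-(φ'⟦(1 : ℤ)⟧' ≫ ω'))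
      rw [Preadditive.comp_neg, ← reassoc_of% hn, hω'']
      exact hω.trans (Preadditive.neg_comp _ _))
    rw [hχ, hχ']
    show δ' ≫ (-(φ'⟦(1 : ℤ)⟧' ≫ ω')) = 0
    rw [Preadditive.comp_neg, ← Category.assoc,
      show δ' ≫ φ'⟦(1 : ℤ)⟧' = 0 from comp_distTriang_mor_zero₃₁ _ hT', zero_comp, neg_zero]
  · obtain ⟨b, hb⟩ := (pBij_toDerivedCompletion' L Y hY).2 (p ≫ a)
    have hb' : ηL ≫ b = p ≫ a := hb
    obtain ⟨(ψ : D ⟶ Y), hψ⟩ := Triangle.yoneda_exact₂ _ hT' b ((pBij_toDerivedCompletion' K Y hY).1 (by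
      show ηK ≫ φ' ≫ b = ηK ≫ (0 : _ ⟶ Y)
      rw [← reassoc_of% (toDerivedCompletion_naturality (I := I) φ), hb', comp_zero, ← Category.assoc,
        show φ ≫ p = 0 from comp_distTriang_mor_zero₁₂ _ hT, zero_comp]))
    have hψ' : b = p' ≫ ψ := hψ
    obtain ⟨ω, hω⟩ := Triangle.yoneda_exact₃ _ hT (a - h ≫ ψ) (by
      show p ≫ (a - h ≫ ψ) = 0
      rw [Preadditive.comp_sub, ← hb', reassoc_of% h1, ← hψ', sub_self])
    obtain ⟨χ, hχ⟩ := (pBij_shift (pBij_toDerivedCompletion' K) Y hY).2 ω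
    have hω' : a - h ≫ ψ = δ ≫ ω := hω
    have hχ' : ηK⟦(1 : ℤ)⟧' ≫ χ = ω := hχ
    refine ⟨ψ + δ' ≫ χ, ?_⟩
    show h ≫ (ψ + δ' ≫ χ) = a
    rw [Preadditive.comp_add, ← reassoc_of% h2, hχ']
    exact ((congrArg (h ≫ ψ + ·) hω'.symm).trans (add_sub_cancel _ _))

/-- Vanishing of the cone. -/
theorem subsingleton_cone {K L C : Dual.D A} (φ : K ⟶ L) (p : L ⟶ C) (δ : C ⟶ K⟦(1 : ℤ)⟧)
    (hT : Triangle.mk φ p δ ∈ distTriang (Dual.D A)) (i : ℤ) (hi : Epi ((hF A i).map φ))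
    (hi' : Mono ((hF A (i + 1)).map φ)) : Subsingleton (Dual.HD A C i) := by
  have h2 := (DerivedCategory.HomologySequence.epi_homologyMap_mor₁_iff _ hT i).1 hi
  have h3 := (DerivedCategory.HomologySequence.mono_homologyMap_mor₁_iff _ hT i (i + 1)).1 hi'
  have e3 := (ShortComplex.ShortExact.moduleCat_exact_iff_function_exact _).1
    (DerivedCategory.HomologySequence.exact₃ _ hT i (i + 1))
  refine subsingleton_of_forall_eq 0 fun w => ?_
  obtain ⟨z, hz⟩ := (e3 w).1 (congr($h3 w))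
  exact hz.symm.trans (congr($h2 z))

theorem epi_of_cone {K L C : Dual.D A} (φ : K ⟶ L) (p : L ⟶ C) (δ : C ⟶ K⟦(1 : ℤ)⟧)
    (hT : Triangle.mk φ p δ ∈ distTriang (Dual.D A)) (i : ℤ) (hC : Subsingleton (Dual.HD A C i)) :
    Epi ((hF A i).map φ) :=
  (DerivedCategory.HomologySequence.epi_homologyMap_mor₁_iff _ hT i).2
    (ModuleCat.hom_ext (LinearMap.ext fun _ => @Subsingleton.elim _ hC _ _))

theorem mono_of_cone {K L C : Dual.D A} (φ : K ⟶ L) (p : L ⟶ C) (δ : C ⟶ K⟦(1 : ℤ)⟧)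
    (hT : Triangle.mk φ p δ ∈ distTriang (Dual.D A)) (i : ℤ) (hC : Subsingleton (Dual.HD A C (i - 1))) :
    Mono ((hF A i).map φ) :=
  (DerivedCategory.HomologySequence.mono_homologyMap_mor₁_iff _ hT (i - 1) i).2
    (ModuleCat.hom_ext (LinearMap.ext fun w => by
      rw [@Subsingleton.elim _ hC w 0, map_zero, map_zero]))

end Groth.Agent.Lib.DR.DComp
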