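import Groth.Agent.Lib.DR.DComp.Separated
import Groth.Agent.Lib.DR.DComp.Completion
import Mathlib.RingTheory.AdicCompletion.Functoriality

/-!
# Derived completion computed by classical completions
-/

universe u

open CategoryTheory CategoryTheory.Limits
open Groth.Agent.Lib.RGamma

attribute [local instance] HasDerivedCategory.standard

set_option backward.isDefEq.respectTransparency false

namespace Groth.Agent.Lib.DR.DComp

variable {A : Type u} [CommRing A]

theorem span_setOf_cons (f : A) (l : List A) :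
    Ideal.span {x : A | x ∈ f :: l} = Ideal.span {x : A | x ∈ l} ⊔ Ideal.span {f} := by
  rw [show {x : A | x ∈ f :: l} = {x : A | x ∈ l} ∪ {f} by ext x; simp, Ideal.span_union]

theorem exists_compl_list (I : Ideal A) : ∀ (l : List A), (∀ f ∈ l, f ∈ I) → ∀ K : Dual.D A,
    (∀ i, AR A (Dual.HD A K i) ∧ Bd A (Dual.HD A K i)) →
    ∃ (K' : Dual.D A) (η : K ⟶ K'), PBij I η ∧ (∀ f ∈ l, ∀ i, DC f (Dual.HD A K' i)) ∧
      ∀ i, Compl (Ideal.span {x : A | x ∈ l}) ((hF A i).map η).hom
  | [], _, K, _ => ⟨K, 𝟙 K, pBij_of_isIso _, by simp, fun i => by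
      rw [(hF A i).map_id, show {x : A | x ∈ ([] : List A)} = ∅ by ext; simp, Ideal.span_empty]
      exact Compl.id_bot⟩
  | f :: l, hl, K, h => by
    classical
    obtain ⟨K₁, η₁, h1, h2, h3⟩ := exists_compl_list I l (fun g hg => hl g (List.mem_cons_of_mem _ hg)) K h
    obtain ⟨K₂, η₂, g1, -, g2, g3, -, g5⟩ := exists_step f K₁
    have hd : ∀ g ∈ f :: l, ∀ i, DC g (Dual.HD A K₂ i) := fun g hg i => by
      rcases List.mem_cons.1 hg with rfl | hg
      exacts [g2 i, g3 g (h2 g hg) i]
    refine ⟨K₂, η₁ ≫ η₂, h1.comp (g1 I (hl f List.mem_cons_self)), hd, fun i => ?_⟩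
    obtain ⟨p, hp, hpη⟩ := g5 i (ker_psiSeq_eq_bot f ((h3 (i + 1)).bd (h (i + 1)).1 (h (i + 1)).2))
    let e := LinearEquiv.ofBijective p hp
    have hspan := span_setOf_cons f l
    have hFG : (Ideal.span {x : A | x ∈ l} ⊔ Ideal.span {f}).FG := by
      rw [← hspan]
      exact ⟨(f :: l).toFinset, by rw [List.coe_toFinset]⟩
    have hstep := ((h3 i).step (h i).1 (h i).2 f hFG
      (forall_dc_of_span hspan fun g hg => (hd g hg i).congr e.symm)).congr e
    rw [← hspan] at hstep
    convert hstep using 1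
    refine LinearMap.ext fun x => ?_
    show ((hF A i).map (η₁ ≫ η₂)).hom x = p _
    rw [Functor.map_comp]
    exact hpη _

variable {I : Ideal A}

/-- Completion of adic modules from a dense separated map. -/
theorem bijective_map_of_compl {X Z : Type u} [AddCommGroup X] [Module A X] [AddCommGroup Z] [Module A Z]
    {j : X →ₗ[A] Z} (h : Compl I j) : Function.Bijective (AdicCompletion.map I j) := by
  refine ⟨(injective_iff_map_eq_zero _).2 fun a ha => AdicCompletion.ext fun n => ?_,
    AdicCompletion.map_surjective_of_mkQ_comp_surjective fun q => ?_⟩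
  · obtain ⟨x, hx⟩ := Submodule.Quotient.mk_surjective _ (a.val n)
    have h0 : (Submodule.Quotient.mk (j x) : Z ⧸ (I ^ n • ⊤ : Submodule A Z)) = 0 := by
      have e := congrArg (fun b : AdicCompletion I Z => b.val n) ha
      refine Eq.trans ?_ e
      rw [AdicCompletion.map_val_apply, ← hx]
      rfl
    rw [← hx, (Submodule.Quotient.mk_eq_zero _).2 (h.refl n x ((Submodule.Quotient.mk_eq_zero _).1 h0))]
    rfl
  · obtain ⟨z, rfl⟩ := Submodule.Quotient.mk_surjective _ q
    obtain ⟨x, hx⟩ := h.surj z 1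
    rw [pow_one] at hx
    exact ⟨x, ((Submodule.Quotient.eq _).2 hx).symm⟩

/-- The derived completion has the classical completions as cohomology. -/
theorem exists_equiv_adicCompletion [DRing.HasDerivedCompletion I] (hI : I.FG) (K : Dual.D A)
    (h : ∀ i, AR A (Dual.HD A K i) ∧ Bd A (Dual.HD A K i)) (n : ℤ) :
    ∃ e : Dual.HD A ((DRing.derivedCompletion I).obj K).obj n ≃ₗ[A] AdicCompletion I (Dual.HD A K n),
      ∀ x : Dual.HD A K n,
        e (((hF A n).map (DRing.toDerivedCompletion I K)).hom x) = AdicCompletion.of I (Dual.HD A K n) x := by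
  obtain ⟨s, hs⟩ := hI
  obtain ⟨K', η, h1, h2, h3⟩ := exists_compl_list I s.toList
    (fun f hf => hs ▸ Ideal.subset_span (Finset.mem_toList.1 hf)) K h
  have hsI : Ideal.span {x : A | x ∈ s.toList} = I := by rw [← hs]; congr 1; ext x; simp
  have hc : DRing.IsDerivedComplete I K' := isDerivedComplete_iff.2 fun f hf i =>
    forall_dc_of_span hs (fun g hg => h2 g (Finset.mem_toList.2 hg) i) f hf
  obtain ⟨e, he⟩ := exists_iso_of_pBij h1 (pBij_toDerivedCompletion' K) hc (isDerivedComplete_completion K)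
  let eH := ((hF A n).mapIso e).toLinearEquiv
  have hC := (h3 n).congr eH
  rw [hsI] at hC
  have hcomp : eH.toLinearMap ∘ₗ ((hF A n).map η).hom = ((hF A n).map (DRing.toDerivedCompletion I K)).hom := by
    rw [← he, Functor.map_comp]
    rfl
  rw [hcomp] at hC
  have : IsAdicComplete I (Dual.HD A ((DRing.derivedCompletion I).obj K).obj n) :=
    { toIsHausdorff := hC.haus, toIsPrecomplete := hC.pre }
  refine ⟨(AdicCompletion.ofLinearEquiv I _).trans (LinearEquiv.restrictScalars A
    (LinearEquiv.ofBijective _ (bijective_map_of_compl hC))).symm, fun x => ?_⟩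
  rw [LinearEquiv.trans_apply, LinearEquiv.symm_apply_eq]
  rfl

end Groth.Agent.Lib.DR.DComp
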