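import Groth.Agent.Lib.DR.DComp.Seq
import Groth.Agent.Lib.RGamma.Derived
import Groth.Prelude.Def_DRing3
import Mathlib.Algebra.Category.ModuleCat.Injective
import Mathlib.RingTheory.Localization.Away.Basic
import Mathlib.Algebra.Module.LocalizedModule.Basic

/-!
# The cohomological criterion of derived completeness
-/

universe u

open CategoryTheory CategoryTheory.Limits
open Groth.Agent.Lib.RGamma

attribute [local instance] HasDerivedCategory.standard

namespace Groth.Agent.Lib.DR.DComp

variable {A : Type u} [CommRing A] (f : A)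

local notation "Af" => Localization.Away f

/-- `1/f^n`. -/
noncomputable def invPow (n : ℕ) : Af := IsLocalization.Away.invSelf f ^ n

theorem smul_invPow (n : ℕ) : f • invPow f (n + 1) = invPow f n := by
  rw [invPow, invPow, pow_succ, Algebra.smul_def, mul_left_comm, IsLocalization.Away.mul_invSelf, mul_one]

theorem pow_smul_invPow (n : ℕ) : f ^ n • invPow f n = (1 : Af) := by
  induction n with
  | zero => simp [invPow]
  | succ n ih => rw [pow_succ, mul_smul, smul_invPow, ih]

theorem exists_eq_smul_invPow (y : Af) : ∃ (a : A) (n : ℕ), y = a • invPow f n := by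
  obtain ⟨n, a, h⟩ := IsLocalization.Away.surj f y
  refine ⟨a, n, ?_⟩
  calc y = y * (f ^ n • invPow f n) := by rw [pow_smul_invPow, mul_one]
    _ = a • invPow f n := by rw [Algebra.smul_def, Algebra.smul_def, ← mul_assoc, map_pow, h]

variable {M : Type u} [AddCommGroup M] [Module A M]

theorem hom_ext {g g' : Af →ₗ[A] M} (h : ∀ n, g (invPow f n) = g' (invPow f n)) : g = g' :=
  LinearMap.ext fun y => by
    obtain ⟨a, n, rfl⟩ := exists_eq_smul_invPow f y
    rw [map_smul, map_smul, h]

theorem phi_hom (g : Af →ₗ[A] M) : phi (LinearMap.lsmul A M f) (fun n => g (invPow f n)) = 0 :=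
  (phi_eq_zero_iff _ _).2 fun n => by rw [LinearMap.lsmul_apply, ← map_smul, smul_invPow]

theorem exists_hom (x : ℕ → M) (hx : phi (LinearMap.lsmul A M f) x = 0) :
    ∃ g : Af →ₗ[A] M, ∀ n, g (invPow f n) = x n := by
  let L := LinearMap.ker (phi (LinearMap.lsmul A M f))
  have hb : ∀ s : Submonoid.powers f, IsUnit (algebraMap A (Module.End A L) s) := by
    rintro ⟨_, n, rfl⟩
    show IsUnit (algebraMap A (Module.End A L) (f ^ n))
    rw [map_pow]
    refine IsUnit.pow _ ((Module.End.isUnit_iff _).2 ⟨fun y z h => Subtype.ext (funext fun k => ?_),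
      fun y => ⟨⟨fun k => y.1 (k + 1), ?_⟩, Subtype.ext (funext fun k => ?_)⟩⟩)
    · rw [(phi_eq_zero_iff _ _).1 y.2 k, (phi_eq_zero_iff _ _).1 z.2 k]
      exact congrFun (congrArg Subtype.val h) (k + 1)
    · exact (phi_eq_zero_iff _ _).2 fun k => (phi_eq_zero_iff _ _).1 y.2 (k + 1)
    · exact ((phi_eq_zero_iff _ _).1 y.2 k).symm
  let ι : A →ₗ[A] Af := Algebra.linearMap A Af
  have : IsLocalizedModule (Submonoid.powers f) ι := inferInstanceAs
    (IsLocalizedModule (Submonoid.powers f) (Algebra.linearMap A Af))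
  let G := IsLocalizedModule.lift (Submonoid.powers f) ι (LinearMap.toSpanSingleton A L ⟨x, hx⟩) hb
  refine ⟨LinearMap.proj 0 ∘ₗ L.subtype ∘ₗ G, fun n => ?_⟩
  have h1 : G 1 = ⟨x, hx⟩ := by
    have e := LinearMap.congr_fun
      (IsLocalizedModule.lift_comp (Submonoid.powers f) ι (LinearMap.toSpanSingleton A L ⟨x, hx⟩) hb) 1
    simpa [ι] using e
  have h2 : ∀ k, (G (invPow f n)).1 0 = f ^ k • (G (invPow f n)).1 k := fun k => by
    induction k with
    | zero => simp
    | succ k ih =>
      rw [ih, (phi_eq_zero_iff _ _).1 (G (invPow f n)).2 k, LinearMap.lsmul_apply, smul_smul, ← pow_succ]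
  show (G (invPow f n)).1 0 = x n
  rw [h2 n, show f ^ n • (G (invPow f n)).1 n = (f ^ n • G (invPow f n)).1 n from rfl, ← map_smul,
    pow_smul_invPow, h1]

theorem surjective_phi_of_injective (hM : Module.Injective A M) :
    Function.Surjective (phi (LinearMap.lsmul A M f)) := fun b => by
  let u : (ℕ →₀ A) →ₗ[A] (ℕ →₀ A) :=
    Finsupp.linearCombination A fun n => Finsupp.single n (1 : A) - Finsupp.single (n + 1) f
  have hu : Function.Injective u := by
    refine (injective_iff_map_eq_zero u).2 fun c hc => Finsupp.ext fun n => ?_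
    have key : ∀ m, (u c) m = c m - (if m = 0 then 0 else f * c (m - 1)) := fun m => by
      simp only [u, Finsupp.linearCombination_apply, Finsupp.sum, Finsupp.coe_finset_sum, Finset.sum_apply,
        Finsupp.smul_apply, Finsupp.sub_apply, smul_eq_mul, mul_sub, Finset.sum_sub_distrib, Finsupp.single_apply,
        mul_ite, mul_one, mul_zero]
      rw [Finset.sum_ite_eq', show (if m ∈ c.support then c m else 0) = c m by
        split_ifs with h
        · rfl
        · exact (Finsupp.notMem_support_iff.1 h).symm]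
      refine congrArg (c m - ·) ?_
      rcases m with _ | m
      · simp
      · simp only [Nat.add_right_cancel_iff, Nat.succ_ne_zero, if_false, Nat.succ_sub_one]
        rw [Finset.sum_ite_eq', mul_comm f]
        split_ifs with h
        · rfl
        · rw [Finsupp.notMem_support_iff.1 h, zero_mul]
    induction n with
    | zero =>
      have := key 0
      rw [hc] at this
      simpa using this.symm
    | succ n ih =>
      have := key (n + 1)
      rw [hc] at this
      simpa [ih] using this.symm
  obtain ⟨h, hh⟩ := hM.out u hu (Finsupp.linearCombination A b)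
  refine ⟨fun n => h (Finsupp.single n 1), funext fun n => ?_⟩
  have e := hh (Finsupp.single n 1)
  simp only [u, Finsupp.linearCombination_single, one_smul, map_sub] at e
  rw [← e, phi_apply, LinearMap.lsmul_apply, ← map_smul, Finsupp.smul_single, smul_eq_mul, mul_one]

section Complex

variable (L : CochainComplex (ModuleCat.{u} A) ℤ)

theorem phi_d {i j : ℤ} (x : ℕ → L.X i) :
    phi (LinearMap.lsmul A _ f) (fun n => (L.d i j).hom (x n)) =
      fun n => (L.d i j).hom (phi (LinearMap.lsmul A _ f) x n) :=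
  phi_comp (L.d i j).hom f x

theorem phi_cls {i : ℤ} (z : ℕ → Cyc L i) :
    phi (LinearMap.lsmul A _ f) (fun n => cls L i (z n)) =
      fun n => cls L i (phi (LinearMap.lsmul A _ f) z n) :=
  phi_comp (cls L i) f z

theorem crit_complex (hinj : ∀ n, Module.Injective A (L.X n)) :
    (∀ g : Af →ₗ[A] L.X 0, (L.d 0 1).hom ∘ₗ g = 0 → ∃ h : Af →ₗ[A] L.X (-1), (L.d (-1) 0).hom ∘ₗ h = g) ↔
      Function.Injective (phi (LinearMap.lsmul A (L.homology 0) f)) ∧
        Function.Surjective (phi (LinearMap.lsmul A (L.homology (-1)) f)) := by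
  constructor
  · intro h
    refine ⟨(injective_iff_map_eq_zero _).2 fun c hc => ?_, fun c => ?_⟩
    · choose z hz using fun n => cls_surjective L 0 (c n)
      have : ∀ n, ∃ w : L.X (-1), (L.d (-1) 0).hom w = (phi (LinearMap.lsmul A _ f) z n).1 := fun n =>
        (cls_eq_zero_iff L 0 _).1 (by
          rw [← congrFun (phi_cls f L z) n, show (fun n => cls L 0 (z n)) = c from funext hz, hc]
          rfl)
      choose w hw using this
      obtain ⟨v, hv⟩ := surjective_phi_of_injective f (hinj (-1)) w
      obtain ⟨g, hg⟩ := exists_hom f (fun n => (z n).1 - (L.d (-1) 0).hom (v n)) (funext fun n => by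
        have e := congrFun (phi_d (i := -1) (j := 0) f L v) n
        rw [hv, hw] at e
        simp only [phi_apply, LinearMap.lsmul_apply, AddSubgroupClass.coe_sub, SetLike.val_smul] at e
        simp only [phi_apply, LinearMap.lsmul_apply, smul_sub, Pi.zero_apply]
        rw [← sub_eq_zero.2 e.symm]
        abel)
      obtain ⟨k, hk⟩ := h g (hom_ext f fun n => by
        rw [LinearMap.comp_apply, hg, map_sub, LinearMap.zero_apply,
          show (L.d 0 1).hom (z n).1 = 0 from (z n).2, zero_sub, neg_eq_zero]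
        exact congr($(L.d_comp_d (-1) 0 1) (v n)))
      funext n
      rw [← hz n]
      refine (cls_eq_zero_iff L 0 _).2 ⟨k (invPow f n) + v n, ?_⟩
      show (L.d (-1) 0).hom (k (invPow f n) + v n) = _
      rw [map_add, show (L.d (-1) 0).hom (k (invPow f n)) = g (invPow f n) from LinearMap.congr_fun hk _, hg,
        sub_add_cancel]
    · choose z hz using fun n => cls_surjective L (-1) (c n)
      obtain ⟨y, hy⟩ := surjective_phi_of_injective f (hinj (-1)) fun n => (z n).1
      obtain ⟨g, hg⟩ := exists_hom f (fun n => (L.d (-1) 0).hom (y n)) (by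
        rw [phi_d, hy]
        exact funext fun n => (z n).2)
      obtain ⟨k, hk⟩ := h g (hom_ext f fun n => by
        rw [LinearMap.comp_apply, hg, LinearMap.zero_apply]
        exact congr($(L.d_comp_d (-1) 0 1) (y n)))
      let w : ℕ → Cyc L (-1) := fun n => ⟨y n - k (invPow f n), by
        show (L.d (-1) 0).hom (y n - k (invPow f n)) = 0
        rw [map_sub, show (L.d (-1) 0).hom (k (invPow f n)) = g (invPow f n) from LinearMap.congr_fun hk _, hg,
          sub_self]⟩
      refine ⟨fun n => cls L (-1) (w n), ?_⟩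
      rw [phi_cls]
      funext n
      rw [← hz n]
      refine congrArg (cls L (-1)) (Subtype.ext ?_)
      have e1 := congrFun hy n
      have e2 := congrFun (phi_hom f k) n
      simp only [phi_apply, LinearMap.lsmul_apply, Pi.zero_apply] at e1 e2
      show (y n - k (invPow f n)) - f • (y (n + 1) - k (invPow f (n + 1))) = (z n).1
      rw [smul_sub, ← e1, sub_eq_zero.1 e2]
      abel
  · rintro ⟨hi, hs⟩ g hg
    let x : ℕ → Cyc L 0 := fun n => ⟨g (invPow f n), LinearMap.congr_fun hg _⟩
    have hx : phi (LinearMap.lsmul A _ f) x = 0 :=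
      funext fun n => Subtype.ext (by simpa using congrFun (phi_hom f g) n)
    have hc := @hi (fun n => cls L 0 (x n)) 0 (by rw [phi_cls, hx, map_zero]; funext n; exact map_zero _)
    have : ∀ n, ∃ y : L.X (-1), (L.d (-1) 0).hom y = g (invPow f n) :=
      fun n => (cls_eq_zero_iff L 0 (x n)).1 (congrFun hc n)
    choose y hy using this
    let z : ℕ → Cyc L (-1) := fun n => ⟨phi (LinearMap.lsmul A _ f) y n, by
      show (L.d (-1) 0).hom _ = 0
      rw [← congrFun (phi_d (i := -1) (j := 0) f L y) n, show (fun n => (L.d (-1) 0).hom (y n)) =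
        fun n => g (invPow f n) from funext hy, phi_hom]
      rfl⟩
    obtain ⟨c, hc'⟩ := hs fun n => cls L (-1) (z n)
    choose w hw using fun n => cls_surjective L (-1) (c n)
    have : ∀ n, ∃ v : L.X (-1 - 1), (L.d (-1 - 1) (-1)).hom v = (z n - phi (LinearMap.lsmul A _ f) w n).1 :=
      fun n => (cls_eq_zero_iff L (-1) _).1 (by
        rw [map_sub, ← congrFun (phi_cls f L w) n, show (fun n => cls L (-1) (w n)) = c from funext hw, hc', sub_self])
    choose v hv using this
    obtain ⟨v', hv'⟩ := surjective_phi_of_injective f (hinj (-1 - 1)) v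
    obtain ⟨k, hk⟩ := exists_hom f (fun n => y n - (w n).1 - (L.d (-1 - 1) (-1)).hom (v' n)) (funext fun n => by
      have e := congrFun (phi_d (i := -1 - 1) (j := -1) f L v') n
      rw [hv', hv] at e
      simp only [z, phi_apply, LinearMap.lsmul_apply, AddSubgroupClass.coe_sub, SetLike.val_smul] at e
      simp only [phi_apply, LinearMap.lsmul_apply, smul_sub, Pi.zero_apply]
      rw [← sub_eq_zero.2 e.symm]
      abel)
    refine ⟨k, hom_ext f fun n => ?_⟩
    rw [LinearMap.comp_apply, hk, map_sub, map_sub, hy, show (L.d (-1) 0).hom (w n).1 = 0 from (w n).2,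
      show (L.d (-1) 0).hom ((L.d (-1 - 1) (-1)).hom (v' n)) = 0 from congr($(L.d_comp_d (-1 - 1) (-1) 0) (v' n)),
      sub_zero, sub_zero]

theorem subsingleton_hom_iff [L.IsKInjective] (hinj : ∀ n, Injective (L.X n)) :
    Subsingleton (Dual.inD A Af ⟶ DerivedCategory.Q.obj L) ↔
      Function.Injective (phi (LinearMap.lsmul A (L.homology 0) f)) ∧
        Function.Surjective (phi (LinearMap.lsmul A (L.homology (-1)) f)) := by
  rw [← crit_complex f L fun n => Module.injective_module_of_injective_object A _ (inj := hinj n)]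
  constructor
  · intro h g hg
    let P : PreHom (ModuleCat.of A Af) L := ⟨ModuleCat.ofHom g, ModuleCat.hom_ext hg⟩
    obtain ⟨k, hk⟩ := (psi_eq_zero_iff P).1 (h.elim _ _)
    exact ⟨k.hom, congrArg ModuleCat.Hom.hom hk⟩
  · intro h
    refine subsingleton_of_forall_eq 0 fun φ => ?_
    obtain ⟨P, rfl⟩ := psi_surjective φ
    obtain ⟨k, hk⟩ := h P.1.hom (congrArg ModuleCat.Hom.hom P.2)
    exact (psi_eq_zero_iff P).2 ⟨ModuleCat.ofHom k, ModuleCat.hom_ext hk⟩

end Complex

theorem subsingleton_hom_shift_iff (K : Dual.D A) (n : ℤ) :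
    Subsingleton (Dual.inD A Af ⟶ K⟦n⟧) ↔
      Function.Injective (phi (LinearMap.lsmul A (Dual.HD A K n) f)) ∧
        Function.Surjective (phi (LinearMap.lsmul A (Dual.HD A K (n - 1)) f)) := by
  obtain ⟨J, hJ, hinj, ⟨e⟩⟩ := exists_rep K
  let e' : K⟦n⟧ ≅ DerivedCategory.Q.obj (J⟦n⟧) :=
    (shiftFunctor (Dual.D A) n).mapIso e ≪≫ ((DerivedCategory.Q.commShiftIso n).app J).symm
  rw [Equiv.subsingleton_congr e'.homToEquiv, subsingleton_hom_iff f (J⟦n⟧) fun i => hinj _]
  have tr : ∀ i m, n + i = m → ((J⟦n⟧).homology i ≅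
      (DerivedCategory.homologyFunctor (ModuleCat.{u} A) m).obj K) := fun i m h =>
    ((HomologicalComplex.homologyFunctor _ (ComplexShape.up ℤ) 0).shiftIso n i m h).app J ≪≫
      (hdIso J m).symm ≪≫ (DerivedCategory.homologyFunctor (ModuleCat.{u} A) m).mapIso e.symm
  have key : ∀ {P Q : ModuleCat.{u} A} (ε : P ≅ Q),
      (Function.Injective (phi (LinearMap.lsmul A P f)) ↔ Function.Injective (phi (LinearMap.lsmul A Q f))) ∧
      (Function.Surjective (phi (LinearMap.lsmul A P f)) ↔ Function.Surjective (phi (LinearMap.lsmul A Q f))) := by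
    intro P Q ε
    let E : (ℕ → P) ≃ (ℕ → Q) := Equiv.piCongrRight fun _ => ε.toLinearEquiv.toEquiv
    have : phi (LinearMap.lsmul A Q f) = E ∘ phi (LinearMap.lsmul A P f) ∘ E.symm := by
      funext x k
      simp [E]
    rw [this]
    simp [Equiv.comp_surjective, Equiv.surjective_comp,
      EquivLike.comp_injective, EquivLike.injective_comp]
  exact and_congr (key (tr 0 n (add_zero n))).1 (key (tr (-1) (n - 1) (Int.add_neg_one _))).2

/-- Derived completeness is tested on cohomology. -/
theorem isDerivedComplete_iff {I : Ideal A} {K : Dual.D A} :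
    DRing.IsDerivedComplete I K ↔ ∀ f ∈ I, ∀ i : ℤ, DC f (Dual.HD A K i) := by
  refine forall₂_congr fun f _ => ?_
  simp only [subsingleton_hom_shift_iff]
  refine ⟨fun h i => ⟨(h i).1, ?_⟩, fun h n => ⟨(h n).1, (h (n - 1)).2⟩⟩
  have := (h (i + 1)).2
  rwa [add_sub_cancel_right] at this

theorem isDerivedComplete_inD_iff {I : Ideal A} (M : Type u) [AddCommGroup M] [Module A M] :
    DRing.IsDerivedComplete I (Dual.inD A M) ↔ ∀ f ∈ I, DC f M := by
  rw [isDerivedComplete_iff]
  let e : Dual.HD A (Dual.inD A M) 0 ≃ₗ[A] M :=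
    ((DerivedCategory.singleFunctorCompHomologyFunctorIso (ModuleCat.{u} A) 0).app (ModuleCat.of A M)).toLinearEquiv
  refine ⟨fun h f hf => (h f hf 0).congr e, fun h f hf i => ?_⟩
  by_cases hi : i = 0
  · subst hi
    exact (h f hf).congr e.symm
  · have : Subsingleton (Dual.HD A (Dual.inD A M) i) := ModuleCat.subsingleton_of_isZero (by
      rcases lt_or_gt_of_ne hi with h0 | h0
      · exact DerivedCategory.isZero_of_isGE (Dual.inD A M) 0 i h0
      · exact DerivedCategory.isZero_of_isLE (Dual.inD A M) 0 i h0)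
    exact dc_of_subsingleton f

theorem dc_of_finite_free {f : A} (hA : DC f A) (M : Type u) [AddCommGroup M] [Module A M] [Module.Finite A M]
    [Module.Free A M] : DC f M :=
  (dc_pi fun _ => hA).congr ((Module.Free.chooseBasis A M).equivFun).symm

theorem dc_homology {f : A} (C : CochainComplex (ModuleCat.{u} A) ℤ) (i : ℤ) (h0 : DC f (C.X (i - 1)))
    (h1 : DC f (C.X i)) (h2 : DC f (C.X (i + 1))) : DC f (C.homology i) := by
  let u : C.X (i - 1) →ₗ[A] Cyc C i := LinearMap.codRestrict _ (C.d (i - 1) i).hom fun x =>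
    congr($(C.d_comp_d (i - 1) i (i + 1)) x)
  have hu : LinearMap.range u = LinearMap.ker (cls C i) := Submodule.ext fun z => by
    rw [LinearMap.mem_ker, cls_eq_zero_iff, LinearMap.mem_range]
    exact exists_congr fun y => Subtype.ext_iff
  exact ((h1.ker (C.d i (i + 1)).hom h2.1).coker u h0.2).congr
    ((Submodule.quotEquivOfEq _ _ hu).trans (LinearMap.quotKerEquivOfSurjective _ (cls_surjective C i)))

end Groth.Agent.Lib.DR.DComp
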