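import Groth.Agent.Lib.DR.DComp.TensorLaws
import Groth.Agent.Lib.SiteKFlat.Cx

/-!
# `RHom` out of a complex commutes with derived completion
-/

universe u

open CategoryTheory CategoryTheory.Limits Pretriangulated CochainComplex.HomComplex
open Groth.Agent.Lib.RGamma
open Groth.Agent.Lib.TensorCx.Basic

attribute [local instance] HasDerivedCategory.standard

set_option backward.isDefEq.respectTransparency false

namespace Groth.Agent.Lib.DR.DComp

variable {A : Type u} [CommRing A] {I : Ideal A}

instance additive_homCxFunctor (P : DRing.Cx A) : (DRing.homCxFunctor P).Additive where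
  map_add {X Y f g} := by
    refine HomologicalComplex.hom_ext _ _ fun i => ModuleCat.hom_ext (LinearMap.ext fun (z : Cochain P X i) => ?_)
    show z.comp (Cochain.ofHom (f + g)) (add_zero i) =
      z.comp (Cochain.ofHom f) (add_zero i) + z.comp (Cochain.ofHom g) (add_zero i)
    rw [Cochain.ofHom_add, Cochain.comp_add]

/-- Hom complexes preserve degreewise split short exact sequences. -/
theorem shortExact_homCx (P : DRing.Cx A) (S : ShortComplex (DRing.Cx A))
    (σ : ∀ n, (S.map (HomologicalComplex.eval (ModuleCat.{u} A) (ComplexShape.up ℤ) n)).Splitting) :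
    (S.map (DRing.homCxFunctor P)).ShortExact := by
  refine HomologicalComplex.shortExact_of_degreewise_shortExact _ fun n => ShortComplex.Splitting.shortExact ?_
  exact
    { r := ModuleCat.ofHom
        { toFun := fun z : Cochain P S.X₂ n => z.comp (Cochain.ofHoms fun p => (σ p).r) (add_zero n)
          map_add' := fun a b => Cochain.add_comp _ _ _ _
          map_smul' := fun c a => Cochain.smul_comp c _ _ _ }
      s := ModuleCat.ofHom
        { toFun := fun z : Cochain P S.X₃ n => z.comp (Cochain.ofHoms fun p => (σ p).s) (add_zero n)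
          map_add' := fun a b => Cochain.add_comp _ _ _ _
          map_smul' := fun c a => Cochain.smul_comp c _ _ _ }
      f_r := ModuleCat.hom_ext (LinearMap.ext fun (z : Cochain P S.X₁ n) => Cochain.ext _ _ fun p q h => by
        show ((z.comp (Cochain.ofHom S.f) (add_zero n)).comp
          (Cochain.ofHoms fun p => (σ p).r) (add_zero n)).v p q h = z.v p q h
        simp only [Cochain.comp_zero_cochain_v, Cochain.ofHom_v, Cochain.ofHoms_v, Category.assoc]
        exact (congrArg (z.v p q h ≫ ·) (σ q).f_r).trans (Category.comp_id _))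
      s_g := ModuleCat.hom_ext (LinearMap.ext fun (z : Cochain P S.X₃ n) => Cochain.ext _ _ fun p q h => by
        show ((z.comp (Cochain.ofHoms fun p => (σ p).s) (add_zero n)).comp
          (Cochain.ofHom S.g) (add_zero n)).v p q h = z.v p q h
        simp only [Cochain.comp_zero_cochain_v, Cochain.ofHom_v, Cochain.ofHoms_v, Category.assoc]
        exact (congrArg (z.v p q h ≫ ·) (σ q).s_g).trans (Category.comp_id _))
      id := ModuleCat.hom_ext (LinearMap.ext fun (z : Cochain P S.X₂ n) => Cochain.ext _ _ fun p q h => by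
        show (((z.comp (Cochain.ofHoms fun p => (σ p).r) (add_zero n)).comp (Cochain.ofHom S.f) (add_zero n)) +
          ((z.comp (Cochain.ofHom S.g) (add_zero n)).comp
            (Cochain.ofHoms fun p => (σ p).s) (add_zero n))).v p q h = z.v p q h
        simp only [Cochain.add_v, Cochain.comp_zero_cochain_v, Cochain.ofHom_v, Cochain.ofHoms_v, Category.assoc,
          ← Preadditive.comp_add]
        exact (congrArg (z.v p q h ≫ ·) (σ q).id).trans (Category.comp_id _)) }

theorem bijective_smul_homCx (f : A) (P : DRing.Cx A) {W : DRing.Cx A}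
    (hW : ∀ i, Function.Bijective fun x : W.X i => f • x) (n : ℤ) :
    Function.Bijective fun z : (DRing.homCx P W).X n => f • z := by
  have hi : ∀ i, IsIso ((f • 𝟙 W : W ⟶ W).f i) := fun i => by
    rw [ConcreteCategory.isIso_iff_bijective]
    exact hW i
  have : IsIso (f • 𝟙 W) := HomologicalComplex.Hom.isIso_of_components _
  let e := (HomologicalComplex.eval (ModuleCat.{u} A) (ComplexShape.up ℤ) n).mapIso
    ((DRing.homCxFunctor P).mapIso (asIso (f • 𝟙 W)))
  have h : Function.Bijective e.hom.hom := (ConcreteCategory.isIso_iff_bijective e.hom).1 e.isIso_hom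
  have e' : (fun z : (DRing.homCx P W).X n => f • z) = fun z => e.hom.hom z :=
    funext fun (z : Cochain P W n) => Cochain.ext _ _ fun p q hpq => by
      show f • z.v p q hpq = (z.comp (Cochain.ofHom (f • 𝟙 W)) (add_zero n)).v p q hpq
      simp
  rw [e']
  exact h

variable (P : DRing.Cx A) [P.IsKProjective]

/-- `Hom(P, -)` on the derived category, for a K-projective `P`. -/
noncomputable def homD : Dual.D A ⥤ Dual.D A :=
  Localization.lift (DRing.homCxQ P) (RHom.inverts_homCxQ P) DerivedCategory.Q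

/-- Its value on complexes. -/
noncomputable def homDIso : DerivedCategory.Q ⋙ homD P ≅ DRing.homCxQ P :=
  Localization.fac (DRing.homCxQ P) (RHom.inverts_homCxQ P) DerivedCategory.Q

theorem stepPres_homD : StepPres I (homD P) := by
  intro T hT f hf W hW ⟨eW⟩
  obtain ⟨X', hX', ⟨e₂⟩⟩ := DTenBasic.exists_rep T.obj₂
  obtain ⟨P₁, hP₁, ⟨e₁'⟩⟩ := DTenBasic.exists_rep T.obj₁
  obtain ⟨h, hh⟩ := Basic.exists_Q_map_eq (e₁'.hom ≫ T.mor₁ ≫ e₂.inv)
  let S := SiteKFlat.Cx.graphSES h
  let T₁ := DerivedCategory.triangleOfSES (SiteKFlat.Cx.graphSES_shortExact h)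
  have : QuasiIso (biprod.fst : X' ⊞ SiteKFlat.Cx.cyl0 P₁ ⟶ X') :=
    SiteKFlat.Cx.quasiIso_map_fst (𝟭 _) _ _ (SiteKFlat.Cx.acyclic_cyl0' P₁)
  have hfst : IsIso (DerivedCategory.Q.map (biprod.fst : X' ⊞ SiteKFlat.Cx.cyl0 P₁ ⟶ X')) :=
    DTenBasic.isIso_Q_map _ this
  let eT : T₁ ≅ T := isoTriangleOfIso₁₂ T₁ T (DerivedCategory.triangleOfSES_distinguished _) hT e₁'
    (asIso (DerivedCategory.Q.map (biprod.fst : X' ⊞ SiteKFlat.Cx.cyl0 P₁ ⟶ X')) ≪≫ e₂) (by
      show DerivedCategory.Q.map (SiteKFlat.Cx.graph h) ≫ DerivedCategory.Q.map biprod.fst ≫ e₂.hom = e₁'.hom ≫ T.mor₁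
      rw [← Functor.map_comp_assoc, SiteKFlat.Cx.graph_fst, hh, Category.assoc, Category.assoc, e₂.inv_hom_id,
        Category.comp_id])
  have hS := shortExact_homCx P S (SiteKFlat.Cx.graphSplitting h)
  have hperp : Perp I (DerivedCategory.Q.obj ((DRing.homCxFunctor P).obj S.X₃)) :=
    Perp.of_iso (perp_of_bijective f hf _ (bijective_smul_homCx f P hW))
      ((homDIso P).symm.app W ≪≫ (homD P).mapIso (eW.symm ≪≫ (Triangle.π₃.mapIso eT).symm) ≪≫ (homDIso P).app _)
  have h1 : PBij I (DerivedCategory.Q.map ((DRing.homCxFunctor P).map (SiteKFlat.Cx.graph h))) :=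
    pBij_of_triangle _ (DerivedCategory.triangleOfSES_distinguished hS) hperp
  have hc : T₁.mor₁ ≫ eT.hom.hom₂ = eT.hom.hom₁ ≫ T.mor₁ := eT.hom.comm₁
  have h2 : (homD P).map T.mor₁ = (homD P).map (inv eT.hom.hom₁) ≫
      (homDIso P).hom.app P₁ ≫ DerivedCategory.Q.map ((DRing.homCxFunctor P).map (SiteKFlat.Cx.graph h)) ≫
      (homDIso P).inv.app _ ≫ (homD P).map eT.hom.hom₂ := by
    have n := (homDIso P).hom.naturality (SiteKFlat.Cx.graph h)
    dsimp at n
    rw [← reassoc_of% n, Iso.hom_inv_id_app_assoc, ← Functor.map_comp, ← Functor.map_comp]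
    congr 1
    exact (IsIso.eq_inv_comp _).2 hc.symm
  rw [h2]
  exact pBij_comp (pBij_of_isIso _) (pBij_comp (pBij_of_isIso _) (pBij_comp h1
    (pBij_comp (pBij_of_isIso _) (pBij_of_isIso _))))

/-- `Hom(P, -)` preserves completion maps. -/
theorem pBij_homD_map (hI : I.FG) {L L' : Dual.D A} {η : L ⟶ L'} (hη : PBij I η)
    (hc : DRing.IsDerivedComplete I L') : PBij I ((homD P).map η) := by
  obtain ⟨s, hs⟩ := hI
  obtain ⟨L₁, η₁, hc₁, hη₁, hΦ⟩ := exists_completion_stepPres s hs L
  obtain ⟨e, rfl⟩ := exists_iso_of_pBij hη₁ hη hc₁ hc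
  rw [Functor.map_comp]
  exact pBij_comp (hΦ _ (stepPres_homD P)) (pBij_of_isIso _)

theorem isDerivedComplete_homD {L : Dual.D A} (hc : DRing.IsDerivedComplete I L) :
    DRing.IsDerivedComplete I ((homD P).obj L) := by
  obtain ⟨G, -, ⟨e⟩⟩ := DTenBasic.exists_rep L
  exact isDerivedComplete_of_iso (((homDIso P).app G).symm ≪≫ (homD P).mapIso e)
    (isDerivedComplete_homCx_of_isKProjective P G (isDerivedComplete_of_iso e.symm hc))

end Groth.Agent.Lib.DR.DComp
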