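import Groth.Agent.Lib.DR.RHomRes

/-!
# Hom complexes in the first variable
-/

universe u

open CategoryTheory CategoryTheory.Limits MonoidalCategory CochainComplex.HomComplex
open Groth.Agent.Lib.RGamma
open Groth.Agent.Lib.TensorCx.Basic

attribute [local instance] HasDerivedCategory.standard

set_option backward.isDefEq.respectTransparency false

namespace Groth.Agent.Lib.DR.DComp

variable {A : Type u} [CommRing A] {P K M : DRing.Cx A}

theorem precomp_apply (g : P ⟶ K) (J : DRing.Cx A) (n : ℤ) (z : Cochain K J n) :
    ((RHomRes.precomp g).app J).f n z = (Cochain.ofHom g).comp z (zero_add n) := by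
  let X := DRing.homCx K J
  obtain ⟨ev, hev⟩ := HomCx.homEquiv.surjective (𝟙 X)
  have h : (RHomRes.precomp g).app J = HomCx.homEquiv (X ◁ g ≫ ev) := by
    rw [← RHomRes.homEquiv_comp_precomp, hev]
    exact (Category.id_comp _).symm
  rw [h]
  refine HomCx.lv_ext fun p q hpq => LinearMap.ext fun k => ?_
  refine (HomCx.homEquiv_apply (X ◁ g ≫ ev) n p q hpq (show X.X n from z) k).trans ?_
  show ev.f q ((X ◁ g).f q (incl X P n p q (by lia) ((show X.X n from z) ⊗ₜ k))) = _
  rw [RelHom.whiskerLeft_incl]
  refine (HomCx.homEquiv_apply ev n p q hpq (show X.X n from z) (g.f p k)).symm.trans ?_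
  rw [hev]
  show ((z : Cochain K J n).v p q hpq).hom (g.f p k) = (((Cochain.ofHom g).comp z (zero_add n)).v p q hpq).hom k
  simp

theorem precomp_comp (a : P ⟶ K) (b : K ⟶ M) (J : DRing.Cx A) :
    (RHomRes.precomp (a ≫ b)).app J = (RHomRes.precomp b).app J ≫ (RHomRes.precomp a).app J := by
  refine HomologicalComplex.hom_ext _ _ fun n => ModuleCat.hom_ext (LinearMap.ext fun (z : Cochain M J n) => ?_)
  refine (precomp_apply (a ≫ b) J n z).trans (Eq.trans ?_ ((congrArg (((RHomRes.precomp a).app J).f n)
    (precomp_apply b J n z)).trans (precomp_apply a J n _)).symm)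
  rw [Cochain.ofHom_comp, Cochain.comp_assoc_of_first_is_zero_cochain]

theorem precomp_id (J : DRing.Cx A) : (RHomRes.precomp (𝟙 K)).app J = 𝟙 _ :=
  HomologicalComplex.hom_ext _ _ fun n => ModuleCat.hom_ext (LinearMap.ext fun (z : Cochain K J n) =>
    (precomp_apply (𝟙 K) J n z).trans (Cochain.id_comp z))

theorem isIso_precomp_app (g : P ⟶ K) [IsIso g] (J : DRing.Cx A) : IsIso ((RHomRes.precomp g).app J) :=
  ⟨(RHomRes.precomp (inv g)).app J, by rw [← precomp_comp, IsIso.inv_hom_id, precomp_id],
    by rw [← precomp_comp, IsIso.hom_inv_id, precomp_id]⟩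

theorem bijective_smul_homCx_left (f : A) {W : DRing.Cx A} (hW : ∀ i, Function.Bijective fun x : W.X i => f • x)
    (J : DRing.Cx A) (n : ℤ) : Function.Bijective fun z : (DRing.homCx W J).X n => f • z := by
  have hi : ∀ i, IsIso ((f • 𝟙 W : W ⟶ W).f i) := fun i => by
    rw [ConcreteCategory.isIso_iff_bijective]
    exact hW i
  have : IsIso (f • 𝟙 W) := HomologicalComplex.Hom.isIso_of_components _
  have := isIso_precomp_app (f • 𝟙 W) J
  let e := (HomologicalComplex.eval (ModuleCat.{u} A) (ComplexShape.up ℤ) n).mapIso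
    (asIso ((RHomRes.precomp (f • 𝟙 W)).app J))
  have h : Function.Bijective e.hom.hom := (ConcreteCategory.isIso_iff_bijective e.hom).1 e.isIso_hom
  have e' : (fun z : (DRing.homCx W J).X n => f • z) = fun z => e.hom.hom z :=
    funext fun (z : Cochain W J n) => ((precomp_apply (f • 𝟙 W) J n z).trans
      (Cochain.ext _ _ fun p q hpq => by simp; rfl)).symm
  rw [e']
  exact h

/-- Hom complexes turn degreewise split short exact sequences into short exact sequences. -/
theorem shortExact_homCx_left (J : DRing.Cx A) (S : ShortComplex (DRing.Cx A))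
    (σ : ∀ n, (S.map (HomologicalComplex.eval (ModuleCat.{u} A) (ComplexShape.up ℤ) n)).Splitting) :
    ∃ h, (ShortComplex.mk ((RHomRes.precomp S.g).app J) ((RHomRes.precomp S.f).app J) h).ShortExact := by
  have h0 : (RHomRes.precomp S.g).app J ≫ (RHomRes.precomp S.f).app J = 0 := by
    refine (precomp_comp S.f S.g J).symm.trans (HomologicalComplex.hom_ext _ _ fun n =>
      ModuleCat.hom_ext (LinearMap.ext fun (z : Cochain S.X₃ J n) => ?_))
    refine (precomp_apply _ J n z).trans ?_
    rw [S.zero, Cochain.ofHom_zero, Cochain.zero_comp]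
    rfl
  refine ⟨h0, HomologicalComplex.shortExact_of_degreewise_shortExact _ fun n => ShortComplex.Splitting.shortExact ?_⟩
  exact
    { r := ModuleCat.ofHom
        { toFun := fun z : Cochain S.X₂ J n => (Cochain.ofHoms fun p => (σ p).s).comp z (zero_add n)
          map_add' := fun a b => Cochain.comp_add _ _ _ _
          map_smul' := fun c a => Cochain.comp_smul _ _ _ _ }
      s := ModuleCat.ofHom
        { toFun := fun z : Cochain S.X₁ J n => (Cochain.ofHoms fun p => (σ p).r).comp z (zero_add n)
          map_add' := fun a b => Cochain.comp_add _ _ _ _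
          map_smul' := fun c a => Cochain.comp_smul _ _ _ _ }
      f_r := ModuleCat.hom_ext (LinearMap.ext fun (z : Cochain S.X₃ J n) => Cochain.ext _ _ fun p q h => by
        show ((Cochain.ofHoms fun p => (σ p).s).comp (((RHomRes.precomp S.g).app J).f n z) (zero_add n)).v p q h = z.v p q h
        rw [precomp_apply]
        simp only [Cochain.zero_cochain_comp_v, Cochain.ofHom_v, Cochain.ofHoms_v]
        exact (Category.assoc _ _ _).symm.trans ((congrArg (· ≫ z.v p q h) (σ p).s_g).trans (Category.id_comp _)))
      s_g := ModuleCat.hom_ext (LinearMap.ext fun (z : Cochain S.X₁ J n) => Cochain.ext _ _ fun p q h => by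
        show (((RHomRes.precomp S.f).app J).f n ((Cochain.ofHoms fun p => (σ p).r).comp z (zero_add n)) :
          Cochain S.X₁ J n).v p q h = z.v p q h
        rw [precomp_apply]
        simp only [Cochain.zero_cochain_comp_v, Cochain.ofHom_v, Cochain.ofHoms_v]
        exact (Category.assoc _ _ _).symm.trans ((congrArg (· ≫ z.v p q h) (σ p).f_r).trans (Category.id_comp _)))
      id := ModuleCat.hom_ext (LinearMap.ext fun (z : Cochain S.X₂ J n) => Cochain.ext _ _ fun p q h => by
        show ((show Cochain S.X₂ J n from
            ((RHomRes.precomp S.g).app J).f n ((Cochain.ofHoms fun p => (σ p).s).comp z (zero_add n))) +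
          (Cochain.ofHoms fun p => (σ p).r).comp (((RHomRes.precomp S.f).app J).f n z) (zero_add n)).v p q h = z.v p q h
        rw [precomp_apply, precomp_apply]
        simp only [Cochain.add_v, Cochain.zero_cochain_comp_v, Cochain.ofHom_v, Cochain.ofHoms_v]
        rw [← Category.assoc, ← Category.assoc, ← Preadditive.add_comp, add_comm]
        exact (congrArg (· ≫ z.v p q h) (σ p).id).trans (Category.id_comp _)) }

end Groth.Agent.Lib.DR.DComp
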