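import Groth.Agent.Lib.DR.DComp.Completion
import Groth.Agent.Lib.DR.DTenRing
import Groth.Agent.Lib.DR.Derived
import Groth.Agent.Lib.DR.FlatBC
import Mathlib.Algebra.Homology.DerivedCategory.SingleTriangle
import Mathlib.Algebra.Homology.DerivedCategory.Linear
import Mathlib.Algebra.Module.Torsion.Basic

/-!
# Derived Nakayama via morphisms into modules in a single degree
-/

universe u

open CategoryTheory CategoryTheory.Limits Pretriangulated
open Groth.Agent.Lib.RGamma

attribute [local instance] HasDerivedCategory.standard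

set_option backward.isDefEq.respectTransparency false

namespace Groth.Agent.Lib.DR.DComp

variable {A : Type u} [CommRing A]

/-- A module in degree `j`. -/
noncomputable abbrev sQ (A : Type u) [CommRing A] (j : ℤ) : ModuleCat.{u} A ⥤ Dual.D A :=
  HomologicalComplex.single (ModuleCat.{u} A) (ComplexShape.up ℤ) j ⋙ DerivedCategory.Q

/-- Shifting a module in a single degree. -/
noncomputable def sQShift (j j' : ℤ) (h : j' + 1 = j) (M : ModuleCat.{u} A) :
    ((sQ A j).obj M)⟦(1 : ℤ)⟧ ≅ (sQ A j').obj M :=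
  (shiftFunctor (Dual.D A) (1 : ℤ)).mapIso ((DerivedCategory.singleFunctorIsoCompQ (ModuleCat.{u} A) j).app M).symm ≪≫
    ((DerivedCategory.singleFunctors (ModuleCat.{u} A)).shiftIso 1 j' j (by omega)).app M ≪≫
    (DerivedCategory.singleFunctorIsoCompQ (ModuleCat.{u} A) j').app M

variable {K : Dual.D A} {S : ShortComplex (ModuleCat.{u} A)}

theorem exists_factor_left (hS : S.ShortExact) (j : ℤ) (a : K ⟶ (sQ A j).obj S.X₂)
    (ha : a ≫ (sQ A j).map S.g = 0) : ∃ b, a = b ≫ (sQ A j).map S.f :=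
  Triangle.coyoneda_exact₂ _ (DerivedCategory.triangleOfSES_distinguished
    (hS.map_of_exact (HomologicalComplex.single (ModuleCat.{u} A) (ComplexShape.up ℤ) j))) a ha

theorem eq_zero_of_comp_f (hS : S.ShortExact) (j j' : ℤ) (h : j + 1 = j')
    (h0 : Subsingleton (K ⟶ (sQ A j').obj S.X₃)) (a : K ⟶ (sQ A j).obj S.X₁)
    (ha : a ≫ (sQ A j).map S.f = 0) : a = 0 := by
  obtain ⟨b, hb⟩ := Triangle.coyoneda_exact₂ _ (inv_rot_of_distTriang _
    (DerivedCategory.triangleOfSES_distinguished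
      (hS.map_of_exact (HomologicalComplex.single (ModuleCat.{u} A) (ComplexShape.up ℤ) j)))) a ha
  let ε : (((sQ A j).obj S.X₃)⟦(-1 : ℤ)⟧) ≅ (sQ A j').obj S.X₃ :=
    (shiftFunctor (Dual.D A) (-1 : ℤ)).mapIso (sQShift j' j h S.X₃).symm ≪≫
      ((shiftEquiv (Dual.D A) (1 : ℤ)).unitIso.app _).symm
  have hb0 : b = 0 := (cancel_mono ε.hom).1 ((h0.elim _ _).trans zero_comp.symm)
  rw [hb, hb0]
  exact zero_comp

theorem exists_lift_g (hS : S.ShortExact) (j j' : ℤ) (h : j' + 1 = j)
    (h0 : Subsingleton (K ⟶ (sQ A j').obj S.X₁)) (c : K ⟶ (sQ A j).obj S.X₃) :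
    ∃ b, c = b ≫ (sQ A j).map S.g := by
  have hT := DerivedCategory.triangleOfSES_distinguished
    (hS.map_of_exact (HomologicalComplex.single (ModuleCat.{u} A) (ComplexShape.up ℤ) j))
  refine Triangle.coyoneda_exact₃ _ hT c ((cancel_mono (sQShift j j' h S.X₁).hom).1 ?_)
  exact (h0.elim _ _).trans zero_comp.symm

/-- `Hom(K, M[-j]) = 0` for `j > m` and the modules killed by powers of `l`. -/
def Orth (m : ℤ) (l : List A) (K : Dual.D A) : Prop :=
  ∀ (M : ModuleCat.{u} A), (∀ g ∈ l, ∃ n : ℕ, ∀ x : M, g ^ n • x = 0) → ∀ j : ℤ, m < j →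
    Subsingleton (K ⟶ (sQ A j).obj M)

theorem shortExact_sub (M : ModuleCat.{u} A) (N : Submodule A M) :
    (ShortComplex.mk (ModuleCat.ofHom N.subtype) (ModuleCat.ofHom N.mkQ)
      (ModuleCat.hom_ext (LinearMap.ext fun x => (Submodule.Quotient.mk_eq_zero N).2 x.2))).ShortExact where
  exact := (ShortComplex.ShortExact.moduleCat_exact_iff_function_exact _).2 (LinearMap.exact_subtype_mkQ N)
  mono_f := (ModuleCat.mono_iff_injective _).2 Subtype.val_injective
  epi_g := (ModuleCat.epi_iff_surjective _).2 N.mkQ_surjective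

theorem shortExact_ker_range (M : ModuleCat.{u} A) (u : M →ₗ[A] M) :
    (ShortComplex.mk (ModuleCat.ofHom (LinearMap.ker u).subtype) (ModuleCat.ofHom u.rangeRestrict)
      (ModuleCat.hom_ext (LinearMap.ext fun x => Subtype.ext x.2))).ShortExact where
  exact := (ShortComplex.ShortExact.moduleCat_exact_iff_function_exact _).2 (fun y =>
    ⟨fun h => ⟨⟨y, congrArg Subtype.val h⟩, rfl⟩, by rintro ⟨z, rfl⟩; exact Subtype.ext z.2⟩)
  mono_f := (ModuleCat.mono_iff_injective _).2 Subtype.val_injective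
  epi_g := (ModuleCat.epi_iff_surjective _).2 u.surjective_rangeRestrict

theorem smul_sQ (j : ℤ) (f : A) (M : ModuleCat.{u} A) :
    f • 𝟙 ((sQ A j).obj M) = (sQ A j).map (ModuleCat.ofHom (LinearMap.lsmul A M f)) := by
  have h1 : ModuleCat.ofHom (LinearMap.lsmul A M f) = f • 𝟙 M := rfl
  have h2 : (HomologicalComplex.single (ModuleCat.{u} A) (ComplexShape.up ℤ) j).map (f • 𝟙 M) =
      f • 𝟙 ((HomologicalComplex.single (ModuleCat.{u} A) (ComplexShape.up ℤ) j).obj M) :=
    HomologicalComplex.from_single_hom_ext (by simp [HomologicalComplex.single_map_f_self])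
  rw [h1, Functor.comp_map, h2, Functor.map_smul, CategoryTheory.Functor.map_id]
  rfl

/-- Passing to the cone of `f` removes `f` from the list. -/
theorem orth_cone {m : ℤ} {l : List A} {f : A} {K₁ : Dual.D A} (hK : Orth m (f :: l) K) (π : K ⟶ K₁)
    (δ : K₁ ⟶ K⟦(1 : ℤ)⟧) (hT : Triangle.mk (f • 𝟙 K) π δ ∈ distTriang (Dual.D A)) :
    Orth m l K₁ := by
  intro M hM j hj
  refine subsingleton_of_forall_eq 0 fun ψ => ?_
  let u : M →ₗ[A] M := LinearMap.lsmul A M f
  have hker : ∀ k : ℤ, m < k → Subsingleton (K ⟶ (sQ A k).obj (ModuleCat.of A (LinearMap.ker u))) := fun k hk => by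
    refine hK _ (fun g hg => ?_) k hk
    rcases List.mem_cons.1 hg with rfl | hg
    · exact ⟨1, fun x => Subtype.ext (by rw [pow_one]; exact x.2)⟩
    · obtain ⟨n, hn⟩ := hM g hg
      exact ⟨n, fun x => Subtype.ext (hn x.1)⟩
  have hcoker : ∀ k : ℤ, m < k → Subsingleton (K ⟶ (sQ A k).obj (ModuleCat.of A (M ⧸ LinearMap.range u))) :=
    fun k hk => by
      refine hK _ (fun g hg => ?_) k hk
      rcases List.mem_cons.1 hg with rfl | hg
      · refine ⟨1, fun x => ?_⟩
        obtain ⟨x, rfl⟩ := Submodule.Quotient.mk_surjective _ x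
        rw [pow_one, ← Submodule.Quotient.mk_smul]
        exact (Submodule.Quotient.mk_eq_zero _).2 (LinearMap.mem_range_self u x)
      · obtain ⟨n, hn⟩ := hM g hg
        refine ⟨n, fun x => ?_⟩
        obtain ⟨x, rfl⟩ := Submodule.Quotient.mk_surjective _ x
        rw [← Submodule.Quotient.mk_smul, hn x]
        rfl
  let p : M ⟶ ModuleCat.of A (LinearMap.range u) := ModuleCat.ofHom u.rangeRestrict
  let i : ModuleCat.of A (LinearMap.range u) ⟶ M := ModuleCat.ofHom (LinearMap.range u).subtype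
  have hpi : ∀ k : ℤ, (sQ A k).map p ≫ (sQ A k).map i = f • 𝟙 ((sQ A k).obj M) := fun k => by
    rw [smul_sQ, ← Functor.map_comp]
    rfl
  have hfπ : f • π = 0 := by
    have h : (f • 𝟙 K) ≫ π = 0 := comp_distTriang_mor_zero₁₂ _ hT
    rwa [Linear.smul_comp, Category.id_comp] at h
  -- `π ≫ ψ` vanishes
  have ha : π ≫ ψ = 0 := by
    have hfa : (π ≫ ψ) ≫ (sQ A j).map p ≫ (sQ A j).map i = 0 := by
      rw [hpi, Linear.comp_smul, Category.comp_id, ← Linear.smul_comp, hfπ, zero_comp]
    have h1 := eq_zero_of_comp_f (shortExact_sub M (LinearMap.range u)) j (j + 1) rfl (hcoker _ (by omega))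
      ((π ≫ ψ) ≫ (sQ A j).map p) (by rw [Category.assoc]; exact hfa)
    obtain ⟨b, hb⟩ := exists_factor_left (shortExact_ker_range M u) j (π ≫ ψ) h1
    rw [hb, (hker j hj).elim b 0]
    exact zero_comp
  obtain ⟨b, hb⟩ := Triangle.yoneda_exact₃ _ hT ψ ha
  -- and `b : K⟦1⟧ ⟶ M[-j]` is a multiple of `f`
  obtain ⟨b₀, hb₀⟩ := (shiftFunctor (Dual.D A) (1 : ℤ)).map_surjective (b ≫ (sQShift (j + 1) j rfl M).inv)
  have hfi : ∃ b', b₀ = f • b' := by
    have h1 := (hcoker (j + 1) (by omega)).elim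
      (b₀ ≫ (sQ A (j + 1)).map (ModuleCat.ofHom (LinearMap.range u).mkQ)) 0
    obtain ⟨b₁, hb₁⟩ := exists_factor_left (shortExact_sub M (LinearMap.range u)) (j + 1) b₀ h1
    obtain ⟨b₂, hb₂⟩ := exists_lift_g (shortExact_ker_range M u) (j + 1) j rfl (hker j hj) b₁
    refine ⟨b₂, ?_⟩
    rw [hb₁, hb₂, Category.assoc]
    exact (congrArg (b₂ ≫ ·) (hpi (j + 1))).trans (by rw [Linear.comp_smul, Category.comp_id])
  obtain ⟨b', hb'⟩ := hfi
  have hδ : f • δ = 0 := by
    have h : δ ≫ (f • 𝟙 K)⟦(1 : ℤ)⟧' = 0 := comp_distTriang_mor_zero₃₁ _ hT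
    rwa [Functor.map_smul, CategoryTheory.Functor.map_id, Linear.comp_smul, Category.comp_id] at h
  rw [hb]
  show δ ≫ b = 0
  apply (cancel_mono (sQShift (j + 1) j rfl M).inv).1
  rw [Category.assoc, ← hb₀, hb', Functor.map_smul, Linear.comp_smul, ← Linear.smul_comp, hδ, zero_comp, zero_comp]

/-- Multiplication by a scalar, in cohomology. -/
theorem hF_map_smul_id (f : A) (K : Dual.D A) (j : ℤ) (y : (hF A j).obj K) :
    ((hF A j).map (f • 𝟙 K)).hom y = f • y := by
  let C := DerivedCategory.Q.objPreimage K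
  let eK := DerivedCategory.Q.objObjPreimageIso K
  let ε : (hF A j).obj K ≅ C.homology j := (hF A j).mapIso eK.symm ≪≫ hdIso C j
  have h1 : f • 𝟙 K = eK.inv ≫ DerivedCategory.Q.map (f • 𝟙 C) ≫ eK.hom := by
    rw [Functor.map_smul, CategoryTheory.Functor.map_id, Linear.smul_comp, Category.id_comp, Linear.comp_smul,
      Iso.inv_hom_id]
  apply ε.toLinearEquiv.injective
  rw [map_smul]
  obtain ⟨z, hz⟩ := cls_surjective C j (ε.toLinearEquiv y)
  show (hdIso C j).hom.hom (((hF A j).map eK.inv).hom (((hF A j).map (f • 𝟙 K)).hom y)) = f • ε.toLinearEquiv y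
  rw [h1, Functor.map_comp, Functor.map_comp]
  show (hdIso C j).hom.hom (((hF A j).map eK.inv).hom (((hF A j).map eK.hom).hom
    (((hF A j).map (DerivedCategory.Q.map (f • 𝟙 C))).hom (((hF A j).map eK.inv).hom y)))) = _
  rw [show ∀ w, ((hF A j).map eK.inv).hom (((hF A j).map eK.hom).hom w) = w from
    fun w => congr($(((hF A j).mapIso eK).hom_inv_id) w), hdIso_naturality]
  show (HomologicalComplex.homologyMap (f • 𝟙 C) j).hom (ε.toLinearEquiv y) = _
  rw [← hz, homologyMap_cls, ← map_smul]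
  rfl

/-- Morphisms into an injective module see the cohomology. -/
theorem subsingleton_HD_of_orth_nil {m : ℤ} (hK : Orth m [] K) (j : ℤ) (hj : m < j) :
    Subsingleton (Dual.HD A K j) := by
  obtain ⟨E⟩ := EnoughInjectives.presentation ((hF A j).obj K)
  let C := DerivedCategory.Q.objPreimage K
  let eK := DerivedCategory.Q.objObjPreimageIso K
  let ε : C.homology j ≅ (hF A j).obj K := (hdIso C j).symm ≪≫ (hF A j).mapIso eK
  let g : C.cycles j ⟶ E.J := C.homologyπ j ≫ ε.hom ≫ E.f
  have : Mono (C.iCycles j) := inferInstance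
  have := E.injective
  let h : C.X j ⟶ E.J := Injective.factorThru g (C.iCycles j)
  have hh : C.iCycles j ≫ h = g := Injective.comp_factorThru _ _
  let φ : C ⟶ (HomologicalComplex.single (ModuleCat.{u} A) (ComplexShape.up ℤ) j).obj E.J :=
    HomologicalComplex.mkHomToSingle h fun k (hk : k + 1 = j) => by
      rw [← C.toCycles_i k j, Category.assoc, hh, HomologicalComplex.toCycles_comp_homologyπ_assoc, zero_comp]
  have hφ : DerivedCategory.Q.map φ = 0 := by
    have hs := hK E.J (fun g hg => absurd hg List.not_mem_nil) j hj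
    exact (cancel_epi eK.inv).1 ((hs.elim _ _).trans comp_zero.symm)
  refine subsingleton_of_forall_eq 0 fun x => ?_
  obtain ⟨z, rfl⟩ := ε.toLinearEquiv.surjective x
  obtain ⟨z, rfl⟩ := cls_surjective C j z
  have h0 : HomologicalComplex.homologyMap φ j = 0 := by
    have := (DerivedCategory.homologyFunctorFactors (ModuleCat.{u} A) j).hom.naturality φ
    rw [Functor.comp_map, hφ, Functor.map_zero, zero_comp] at this
    exact (cancel_epi (hdIso C j).hom).1 (this.symm.trans comp_zero.symm)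
  have h1 := congr($h0 (cls C j z))
  rw [show (0 : C.homology j ⟶ _).hom (cls C j z) = 0 from rfl] at h1
  have h2 := (homologyMap_cls j φ z).symm.trans h1
  rw [cls_eq_zero_iff] at h2
  obtain ⟨y, hy⟩ := h2
  rw [HomologicalComplex.single_obj_d] at hy
  have h3 : h.hom z.1 = 0 := by
    have e : (φ.f j).hom z.1 = 0 := hy.symm
    rw [show φ.f j = h ≫ (HomologicalComplex.singleObjXSelf (ComplexShape.up ℤ) j E.J).inv from
      HomologicalComplex.mkHomToSingle_f _ _] at e
    exact (HomologicalComplex.singleObjXSelf (ComplexShape.up ℤ) j E.J).symm.toLinearEquiv.map_eq_zero_iff.1 e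
  have hmono : Function.Injective E.f.hom := (ModuleCat.mono_iff_injective _).1 E.mono
  apply hmono
  rw [map_zero]
  let c := (C.liftCycles (ModuleCat.ofHom (Cyc C j).subtype) (j + 1) (by simp)
    (ModuleCat.hom_ext (LinearMap.ext fun z => z.2))).hom z
  have hc : (C.iCycles j).hom c = z.1 :=
    congr($(C.liftCycles_i (ModuleCat.ofHom (Cyc C j).subtype) (j + 1) (by simp)
      (ModuleCat.hom_ext (LinearMap.ext fun z => z.2))) z)
  exact (congr($hh c)).symm.trans ((congrArg h.hom hc).trans h3)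

/-- Derived Nakayama. -/
theorem subsingleton_HD_of_orth {m : ℤ} : ∀ (l : List A) (K : Dual.D A),
    (∀ f ∈ l, ∀ i, DC f (Dual.HD A K i)) → Orth m l K → ∀ j, m < j → Subsingleton (Dual.HD A K j)
  | [], K, _, h, j, hj => subsingleton_HD_of_orth_nil h j hj
  | f :: l, K, hd, h, j, hj => by
    obtain ⟨K₁, π, δ, hT⟩ := distinguished_cocone_triangle (f • 𝟙 K)
    have hI : ∀ g ∈ l, DRing.IsDerivedComplete (Ideal.span {g}) K := fun g hg =>
      isDerivedComplete_iff.2 fun a ha i => forall_dc_of_span rfl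
        (by simpa using hd g (List.mem_cons_of_mem _ hg) i) a ha
    have h1 : ∀ g ∈ l, ∀ i, DC g (Dual.HD A K₁ i) := fun g hg i =>
      isDerivedComplete_iff.1 (isDerivedComplete_obj₃ _ hT (hI g hg) (hI g hg)) g (Ideal.mem_span_singleton_self g) i
    have := subsingleton_HD_of_orth l K₁ h1 (orth_cone h π δ hT) j hj
    have e2 := (ShortComplex.ShortExact.moduleCat_exact_iff_function_exact _).1
      (DerivedCategory.HomologySequence.exact₂ _ hT j)
    refine subsingleton_of_surjective (e := LinearMap.lsmul A (Dual.HD A K j) f) (hd f List.mem_cons_self j).1 fun x => ?_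
    obtain ⟨y, hy⟩ := (e2 x).1 (@Subsingleton.elim _ this _ _)
    refine ⟨y, ?_⟩
    exact (hF_map_smul_id f K j y).symm.trans hy

end Groth.Agent.Lib.DR.DComp
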