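import Groth.Agent.Lib.DR.DComp.SeqAux
import Mathlib.RingTheory.PowerSeries.Ideal
import Mathlib.RingTheory.Filtration
import Groth.Agent.Lib.DR.DComp.Module

/-!
# Power series acting on derived complete modules
-/

universe u

open PowerSeries

namespace Groth.Agent.Lib.DR.DComp

variable {S : Type u} [CommRing S] {M : Type u} [AddCommGroup M] [Module S M] {f : S}

/-- Shift of coefficients. -/
noncomputable def tailPS (p : PowerSeries S) : PowerSeries S := mk fun n => coeff (n + 1) p

theorem decomp_tailPS (p : PowerSeries S) : p = C (constantCoeff p) + X * tailPS p := by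
  ext n
  cases n with
  | zero => simp [tailPS]
  | succ n => simp [tailPS, coeff_C]

theorem coeff_iterate_tailPS (p : PowerSeries S) : ∀ k n, coeff n (tailPS^[k] p) = coeff (n + k) p
  | 0, n => rfl
  | k + 1, n => by
    rw [Function.iterate_succ_apply', tailPS, coeff_mk, coeff_iterate_tailPS p k, add_assoc, add_comm 1 k]

/-- The inverse of `phi`. -/
noncomputable def phiInv (hf : DC f M) : (ℕ → M) ≃ₗ[S] (ℕ → M) :=
  (LinearEquiv.ofBijective (phi (LinearMap.lsmul S M f)) hf).symm

/-- `∑ aₙ fⁿ m`. -/
noncomputable def psAct (hf : DC f M) (p : PowerSeries S) (m : M) : M :=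
  phiInv hf (fun n => coeff n p • m) 0

theorem psAct_unique (hf : DC f M) (p : PowerSeries S) (m : M) (y : ℕ → M)
    (hy : ∀ n, y n = coeff n p • m + f • y (n + 1)) : psAct hf p m = y 0 := by
  have : phi (LinearMap.lsmul S M f) y = fun n => coeff n p • m := (phi_eq_iff _ _ _).2 hy
  rw [psAct, ← this]
  exact congrFun ((LinearEquiv.ofBijective (phi (LinearMap.lsmul S M f)) hf).symm_apply_apply y) 0

theorem psAct_rec (hf : DC f M) (p : PowerSeries S) (m : M) :
    psAct hf p m = constantCoeff p • m + f • psAct hf (tailPS p) m := by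
  let y := phiInv hf (fun n => coeff n p • m)
  have hy : ∀ n, y n = coeff n p • m + f • y (n + 1) := (phi_eq_iff _ _ _).1
    ((LinearEquiv.ofBijective (phi (LinearMap.lsmul S M f)) hf).apply_symm_apply _)
  rw [show psAct hf p m = y 0 from rfl, psAct_unique hf (tailPS p) m (fun n => y (n + 1))
    (fun n => by rw [tailPS, coeff_mk]; exact hy (n + 1)), ← coeff_zero_eq_constantCoeff_apply]
  exact hy 0

theorem psAct_add_left (hf : DC f M) (p q : PowerSeries S) (m : M) :
    psAct hf (p + q) m = psAct hf p m + psAct hf q m := by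
  simp only [psAct, map_add, add_smul, ← Pi.add_apply (phiInv hf _) (phiInv hf _)]
  rw [← map_add]
  rfl

theorem psAct_add_right (hf : DC f M) (p : PowerSeries S) (m m' : M) :
    psAct hf p (m + m') = psAct hf p m + psAct hf p m' := by
  simp only [psAct, smul_add, ← Pi.add_apply (phiInv hf _) (phiInv hf _)]
  rw [← map_add]
  rfl

theorem psAct_smul (hf : DC f M) (p : PowerSeries S) (a : S) (m : M) :
    psAct hf p (a • m) = a • psAct hf p m := by
  simp only [psAct, ← Pi.smul_apply a (phiInv hf _), smul_comm _ a m]
  rw [← map_smul]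
  rfl

theorem psAct_C (hf : DC f M) (a : S) (m : M) : psAct hf (C a) m = a • m :=
  psAct_unique hf _ m (fun n => if n = 0 then a • m else 0) fun n => by cases n <;> simp [coeff_C]

theorem psAct_X (hf : DC f M) (m : M) : psAct hf X m = f • m :=
  (psAct_unique hf _ m (fun n => if n = 0 then f • m else if n = 1 then m else 0) fun n => by
    rcases n with _ | _ | n <;> simp [coeff_X]).trans (by simp)

theorem psAct_X_mul (hf : DC f M) (p : PowerSeries S) (m : M) : psAct hf (X * p) m = f • psAct hf p m := by
  rw [psAct_rec, show tailPS (X * p) = p by ext n; simp [tailPS], map_mul, constantCoeff_X, zero_mul, zero_smul,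
    zero_add]

theorem psAct_C_mul (hf : DC f M) (a : S) (p : PowerSeries S) (m : M) :
    psAct hf (C a * p) m = a • psAct hf p m := by
  simp only [psAct, coeff_C_mul, mul_smul, ← Pi.smul_apply a (phiInv hf _)]
  rw [← map_smul]
  rfl

theorem psAct_mul (hf : DC f M) (p q : PowerSeries S) (m : M) :
    psAct hf (p * q) m = psAct hf p (psAct hf q m) := by
  refine (psAct_unique hf p (psAct hf q m) (fun n => psAct hf (tailPS^[n] p * q) m) fun n => ?_).symm
  show psAct hf (tailPS^[n] p * q) m = coeff n p • psAct hf q m + f • psAct hf (tailPS^[n + 1] p * q) m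
  conv_lhs => rw [decomp_tailPS (tailPS^[n] p)]
  rw [add_mul, mul_assoc, psAct_add_left, psAct_C_mul, psAct_X_mul, ← coeff_zero_eq_constantCoeff_apply,
    coeff_iterate_tailPS, zero_add, Function.iterate_succ_apply']

/-- The module structure over power series. -/
noncomputable abbrev psModule (hf : DC f M) : Module (PowerSeries S) M where
  smul := psAct hf
  one_smul m := (congrArg (psAct hf · m) (map_one (C (R := S))).symm).trans ((psAct_C hf 1 m).trans (one_smul S m))
  mul_smul := psAct_mul hf
  smul_zero p := by
    have h := psAct_add_right hf p 0 0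
    rw [add_zero, left_eq_add] at h
    exact h
  smul_add := psAct_add_right hf
  add_smul := psAct_add_left hf
  zero_smul m := (congrArg (psAct hf · m) (map_zero (C (R := S))).symm).trans ((psAct_C hf 0 m).trans (zero_smul S m))

theorem dc_X : DC (X : PowerSeries S) (PowerSeries S) := by
  let E : (ℕ → PowerSeries S) ≃ (ℕ → ℕ → S) := Equiv.piCongrRight fun _ =>
    { toFun := fun p n => coeff n p, invFun := mk, left_inv := fun p => by ext; simp,
      right_inv := fun g => by funext n; simp }
  have : phi (LinearMap.lsmul (PowerSeries S) (PowerSeries S) X) =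
      E.symm ∘ phi (rsh : (ℕ → S) →ₗ[S] (ℕ → S)) ∘ E := by
    funext x n
    ext k
    cases k <;> simp [E]
  rw [DC, this]
  exact E.symm.bijective.comp (bijective_phi_rsh.comp E.bijective)

theorem dc_C {a : S} (ha : DC a S) : DC (C a : PowerSeries S) (PowerSeries S) := by
  let E : (ℕ → PowerSeries S) ≃ (ℕ → ℕ → S) := Equiv.piCongrRight fun _ =>
    { toFun := fun p n => coeff n p, invFun := mk, left_inv := fun p => by ext; simp,
      right_inv := fun g => by funext n; simp }
  have : phi (LinearMap.lsmul (PowerSeries S) (PowerSeries S) (C a)) =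
      E.symm ∘ phi (LinearMap.lsmul S (ℕ → S) a) ∘ E := by
    funext x n
    ext k
    simp [E]
  rw [DC, this]
  exact E.symm.bijective.comp ((dc_pi fun _ => ha).comp E.bijective)

theorem dc_algebraMap_iff {S' : Type u} [CommRing S'] [Algebra S S'] (N : Type u) [AddCommGroup N] [Module S N]
    [Module S' N] [IsScalarTower S S' N] (a : S) : DC (algebraMap S S' a) N ↔ DC a N := by
  have : ∀ x : ℕ → N, phi (LinearMap.lsmul S' N (algebraMap S S' a)) x = phi (LinearMap.lsmul S N a) x := fun x =>
    funext fun n => by simp [algebraMap_smul]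
  exact Iff.of_eq (congrArg Function.Bijective (funext this))

/-- A Noetherian ring of power series acting on `M`, in which the `l` are topologically nilpotent. -/
theorem exists_ring : ∀ (l : List S) (_ : ∀ f ∈ l, DC f M) (_ : IsNoetherianRing S),
    ∃ (S' : Type u) (_ : CommRing S') (_ : IsNoetherianRing S') (_ : Algebra S S') (_ : Module S' M)
      (_ : IsScalarTower S S' M) (ts : List S'), (∀ t ∈ ts, DC t S' ∧ DC t M) ∧
        ∀ f ∈ l, ∃ t ∈ ts, ∀ m : M, t • m = f • m
  | [], _, h => ⟨S, inferInstance, h, inferInstance, inferInstance, inferInstance, [], by simp, by simp⟩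
  | f :: l, hd, h => by
    obtain ⟨S', _, _, _, _, _, ts, h1, h2⟩ := exists_ring l (fun g hg => hd g (List.mem_cons_of_mem _ hg)) h
    have hf : DC (algebraMap S S' f) M := (dc_algebraMap_iff M f).2 (hd f List.mem_cons_self)
    letI : Module (PowerSeries S') M := psModule hf
    letI : Algebra S (PowerSeries S') := ((C (R := S')).comp (algebraMap S S')).toAlgebra
    have hC : ∀ (a : S') (m : M), (C a : PowerSeries S') • m = a • m := psAct_C hf
    have hT : IsScalarTower S (PowerSeries S') M := IsScalarTower.of_algebraMap_smul fun a m => by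
      show (C (algebraMap S S' a) : PowerSeries S') • m = a • m
      rw [hC, algebraMap_smul]
    refine ⟨PowerSeries S', inferInstance, inferInstance, inferInstance, inferInstance, hT,
      X :: ts.map (C (R := S')), fun t ht => ?_, fun g hg => ?_⟩
    · rcases List.mem_cons.1 ht with rfl | ht
      · refine ⟨dc_X, ?_⟩
        have : phi (LinearMap.lsmul (PowerSeries S') M X) = ⇑(phi (LinearMap.lsmul S' M (algebraMap S S' f))) :=
          funext fun x => funext fun n => congrArg (x n - ·) (psAct_X hf (x (n + 1)))
        rw [DC, this]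
        exact hf
      · obtain ⟨a, ha, rfl⟩ := List.mem_map.1 ht
        refine ⟨dc_C (h1 a ha).1, ?_⟩
        have : phi (LinearMap.lsmul (PowerSeries S') M (C a)) = ⇑(phi (LinearMap.lsmul S' M a)) :=
          funext fun x => funext fun n => congrArg (x n - ·) (hC a (x (n + 1)))
        rw [DC, this]
        exact (h1 a ha).2
    · rcases List.mem_cons.1 hg with rfl | hg
      · exact ⟨X, List.mem_cons_self, fun m => (psAct_X hf m).trans (algebraMap_smul S' g m)⟩
      · obtain ⟨t, ht, ht'⟩ := h2 g hg
        exact ⟨C t, List.mem_cons_of_mem _ (List.mem_map.2 ⟨t, ht, rfl⟩), fun m => (hC t m).trans (ht' m)⟩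

theorem isHausdorff_of_finite_quotient [IsNoetherianRing S] (s : Finset S) (hd : ∀ f ∈ s, DC f M)
    (hfin : Module.Finite S (M ⧸ (Ideal.span (s : Set S) • (⊤ : Submodule S M)))) :
    IsHausdorff (Ideal.span (s : Set S)) M := by
  classical
  obtain ⟨S', _, _, _, _, _, ts, h1, h2⟩ := exists_ring s.toList (fun f hf => hd f (Finset.mem_toList.1 hf))
    inferInstance
  let J : Ideal S' := Ideal.span (ts.toFinset : Set S')
  have hJ : ∀ f ∈ s, ∀ x : M, f • x ∈ J • (⊤ : Submodule S' M) := fun f hf x => by
    obtain ⟨t, ht, ht'⟩ := h2 f (Finset.mem_toList.2 hf)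
    rw [← ht']
    exact Submodule.smul_mem_smul (Ideal.subset_span (List.mem_toFinset.2 ht)) Submodule.mem_top
  obtain ⟨n, π, hπ⟩ := Module.Finite.exists_fin' S (M ⧸ (Ideal.span (s : Set S) • (⊤ : Submodule S M)))
  choose g hg using fun i => Submodule.Quotient.mk_surjective _ (π (Pi.single i 1))
  let G : (Fin n → S') →ₗ[S'] M := Fintype.linearCombination S' g
  have hQ : Subsingleton (M ⧸ LinearMap.range G) := by
    refine subsingleton_of_smul_top ts.toFinset _ (fun t ht => ?_) (eq_top_iff.2 fun q _ => ?_)
    · exact (h1 t (List.mem_toFinset.1 ht)).2.coker G (dc_pi fun _ => (h1 t (List.mem_toFinset.1 ht)).1).2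
    · obtain ⟨x, rfl⟩ := Submodule.Quotient.mk_surjective _ q
      obtain ⟨c, hc⟩ := hπ (Submodule.Quotient.mk x)
      have hmem : x - ∑ i, c i • g i ∈ Ideal.span (s : Set S) • (⊤ : Submodule S M) := by
        refine (Submodule.Quotient.eq _).1 (hc.symm.trans ?_)
        rw [← Submodule.mkQ_apply, map_sum]
        conv_lhs => rw [pi_eq_sum_univ c, map_sum]
        refine Finset.sum_congr rfl fun i _ => ?_
        rw [map_smul, map_smul, Submodule.mkQ_apply, hg]
        congr 2
        funext j
        simp [Pi.single_apply, eq_comm]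
      have hmem' : x - ∑ i, c i • g i ∈ J • (⊤ : Submodule S' M) := by
        refine Submodule.smul_induction_on hmem (fun a ha y _ => ?_) fun y z hy hz => add_mem hy hz
        induction ha using Submodule.span_induction with
        | mem r hr => exact hJ r hr y
        | zero => rw [zero_smul]; exact zero_mem _
        | add a b _ _ ha hb => rw [add_smul]; exact add_mem ha hb
        | smul a b _ hb => rw [smul_assoc, ← algebraMap_smul S' a]; exact Submodule.smul_mem _ _ hb
      have hG : G (fun i => algebraMap S S' (c i)) = ∑ i, c i • g i := by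
        simp [G, Fintype.linearCombination_apply, algebraMap_smul]
      have h3 := Submodule.mem_map_of_mem (f := (LinearMap.range G).mkQ) hmem'
      rw [Submodule.map_smul'', Submodule.map_top, Submodule.range_mkQ, map_sub,
        show (LinearMap.range G).mkQ (∑ i, c i • g i) = 0 from
          (Submodule.Quotient.mk_eq_zero _).2 ⟨_, hG⟩, sub_zero] at h3
      exact h3
  have : Module.Finite S' M :=
    Module.Finite.of_surjective G (LinearMap.range_eq_top.1 (Submodule.Quotient.subsingleton_iff.1 hQ))
  have hjac : J ≤ Ideal.jacobson ⊥ := le_jacobson (forall_dc_of_span rfl fun t ht =>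
    (h1 t (List.mem_toFinset.1 ht)).1)
  have h0 := Ideal.iInf_pow_smul_eq_bot_of_le_jacobson (M := M) J hjac
  have : IsHausdorff J M := ⟨fun x hx => (Submodule.mem_bot S').1 (h0 ▸ (Submodule.mem_iInf _).2 fun k => by
    simpa [SModEq.sub_mem] using hx k)⟩
  refine ⟨fun x hx => IsHausdorff.haus this x fun k => ?_⟩
  have hk := hx k
  rw [SModEq.sub_mem, sub_zero] at hk ⊢
  clear hx
  induction k generalizing x with
  | zero => simp
  | succ k ih =>
    rw [pow_succ', Submodule.mul_smul] at hk ⊢
    refine Submodule.smul_induction_on hk (fun a ha y hy => ?_) fun y z hy hz => add_mem hy hz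
    have hy' := ih y hy
    induction ha using Submodule.span_induction with
    | mem r hr =>
      obtain ⟨t, ht, ht'⟩ := h2 r (Finset.mem_toList.2 hr)
      rw [← ht']
      exact Submodule.smul_mem_smul (Ideal.subset_span (List.mem_toFinset.2 ht)) hy'
    | zero => rw [zero_smul]; exact zero_mem _
    | add a b _ _ ha hb => rw [add_smul]; exact add_mem ha hb
    | smul a b _ hb => rw [smul_assoc, ← algebraMap_smul S' a]; exact Submodule.smul_mem _ _ hb

end Groth.Agent.Lib.DR.DComp
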