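import Groth.Agent.Lib.DR.DComp.Orth
import Groth.Agent.Lib.DR.DComp.Module
import Groth.Agent.Lib.DR.LTensorModule
import Groth.Agent.Lib.DR.BaseChangeU

/-!
# `K ⊗^L A/I` and morphisms into modules killed by powers of `I`
-/

universe u

open CategoryTheory CategoryTheory.Limits MonoidalCategory
open Groth.Agent.Lib.RGamma
open scoped TensorProduct

attribute [local instance] HasDerivedCategory.standard

set_option backward.isDefEq.respectTransparency false

namespace Groth.Agent.Lib.DR.DComp

variable {A : Type u} [CommRing A]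

variable (B : Type u) [CommRing B] [Algebra A B] in
theorem exactAt_ext_iff (C : DRing.Cx A) (i : ℤ) :
    ((DTen.extCx (algebraMap A B)).obj C).ExactAt i ↔ ((TorAmp.tens (ModuleCat.of A B)).obj C).ExactAt i := by
  rw [HomologicalComplex.exactAt_iff' _ (i - 1) i (i + 1) (by simp) (by simp),
    HomologicalComplex.exactAt_iff' _ (i - 1) i (i + 1) (by simp) (by simp),
    ShortComplex.ShortExact.moduleCat_exact_iff_function_exact, ShortComplex.ShortExact.moduleCat_exact_iff_function_exact]
  let e : ∀ j, ((TorAmp.tens (ModuleCat.of A B)).obj C).X j ≃+ ((DTen.extCx (algebraMap A B)).obj C).X j := fun j =>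
    (TensorProduct.comm A (C.X j) B).toAddEquiv.trans (FlatBC.extEquiv A B (C.X j)).symm.toAddEquiv
  refine Function.Exact.iff_of_ladder_addEquiv (e (i - 1)) (e i) (e (i + 1))
    (f₁₂ := ((TorAmp.tens (ModuleCat.of A B)).obj C).d (i - 1) i |>.hom.toAddMonoidHom)
    (f₂₃ := ((TorAmp.tens (ModuleCat.of A B)).obj C).d i (i + 1) |>.hom.toAddMonoidHom)
    (g₁₂ := ((DTen.extCx (algebraMap A B)).obj C).d (i - 1) i |>.hom.toAddMonoidHom)
    (g₂₃ := ((DTen.extCx (algebraMap A B)).obj C).d i (i + 1) |>.hom.toAddMonoidHom) ?_ ?_ <;>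
  · refine AddMonoidHom.ext fun z => ?_
    refine TensorProduct.induction_on z ?_ (fun c b => rfl) ?_
    · simp only [map_zero]
    · intro x y hx hy
      rw [map_add, map_add, hx, hy]

theorem exists_of_torsionBy {I : Ideal A} (M : ModuleCat.{u} A) (hM : Module.IsTorsionBySet A M I) :
    ∃ N : ModuleCat.{u} (A ⧸ I), Nonempty ((ModuleCat.restrictScalars.{u} (algebraMap A (A ⧸ I))).obj N ≅ M) := by
  letI := hM.module
  exact ⟨ModuleCat.of (A ⧸ I) M, ⟨LinearEquiv.toModuleIso
    (X₁ := (ModuleCat.restrictScalars.{u} (algebraMap A (A ⧸ I))).obj (ModuleCat.of (A ⧸ I) M))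
    { AddEquiv.refl M with map_smul' := fun r x => rfl }⟩⟩

theorem subsingleton_hom_of_exactAt (I : Ideal A) (P : DRing.Cx A) [P.IsKProjective] (m : ℤ)
    (hP : ∀ i, m < i → ((TorAmp.tens (ModuleCat.of A (A ⧸ I))).obj P).ExactAt i) (M : ModuleCat.{u} A)
    (hM : Module.IsTorsionBySet A M I) (j : ℤ) (hj : m < j) :
    Subsingleton (DerivedCategory.Q.obj P ⟶ (sQ A j).obj M) := by
  obtain ⟨N, ⟨ε⟩⟩ := exists_of_torsionBy M hM
  let φ := algebraMap A (A ⧸ I)
  let SN := (HomologicalComplex.single (ModuleCat.{u} (A ⧸ I)) (ComplexShape.up ℤ) j).obj N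
  let e : (sQ A j).obj M ≅ DerivedCategory.Q.obj ((DTen.resCx φ).obj SN) :=
    (sQ A j).mapIso ε.symm ≪≫
      ((DerivedCategory.singleFunctorIsoCompQ (ModuleCat.{u} A) j).app _).symm ≪≫
      (ExactPush.mapSingle (ModuleCat.restrictScalars.{u} φ) N j).symm ≪≫
      (DRing.restrictD φ).mapIso ((DerivedCategory.singleFunctorIsoCompQ (ModuleCat.{u} (A ⧸ I)) j).app N) ≪≫
      (DTen.resFactors φ).app SN
  have hz : ∀ x : DerivedCategory.Q.obj P ⟶ DerivedCategory.Q.obj ((DTen.resCx φ).obj SN), x = 0 := fun x => by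
    obtain ⟨h, rfl⟩ := Basic.exists_Q_map_eq x
    let adj := Derived.cxAdj (ModuleCat.extendRestrictScalarsAdj.{u} φ)
    let h' : (DTen.extCx φ).obj P ⟶ SN := (adj.homEquiv P SN).symm h
    have hle : (DerivedCategory.Q.obj ((DTen.extCx φ).obj P)).IsLE m := by
      rw [DerivedCategory.isLE_iff]
      exact fun i hi => (((exactAt_ext_iff (A ⧸ I) P i).2 (hP i hi)).isZero_homology).of_iso (hdIso _ i)
    have hge : (DerivedCategory.Q.obj SN).IsGE j := by
      have : CochainComplex.IsStrictlyGE SN j := (CochainComplex.isStrictlyGE_iff SN j).2 fun k hk =>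
        HomologicalComplex.isZero_single_obj_X (ComplexShape.up ℤ) j N k (by omega)
      infer_instance
    have h0 : DerivedCategory.Q.map h' = 0 :=
      DerivedCategory.TStructure.t.zero_of_isLE_of_isGE _ m j hj hle hge
    have h1 : DerivedCategory.Q.map ((DTen.resCx φ).map h') = 0 := by
      have e1 := (DTen.resFactors φ).hom.naturality h'
      simp only [Functor.comp_map, h0, Functor.map_zero, zero_comp] at e1
      exact (cancel_epi ((DTen.resFactors φ).hom.app _)).1 (e1.symm.trans comp_zero.symm)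
    rw [show h = adj.unit.app P ≫ (DTen.resCx φ).map h' from
      ((adj.homEquiv P SN).apply_symm_apply h).symm.trans (adj.homEquiv_unit _ _ _), Functor.map_comp, h1, comp_zero]
  exact subsingleton_of_forall_eq 0 fun x => (cancel_mono e.hom).1 ((hz _).trans zero_comp.symm)

/-- Modules killed by a power of `I` are handled by dévissage. -/
theorem subsingleton_hom_of_pow {I : Ideal A} {K : Dual.D A} {j : ℤ}
    (h : ∀ M : ModuleCat.{u} A, Module.IsTorsionBySet A M I → Subsingleton (K ⟶ (sQ A j).obj M)) :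
    ∀ (n : ℕ) (M : ModuleCat.{u} A), (∀ a ∈ I ^ n, ∀ x : M, a • x = 0) → Subsingleton (K ⟶ (sQ A j).obj M)
  | 0, M, hM => h M fun x a => by
      have := hM 1 (by simp) x
      rw [one_smul] at this
      rw [this, smul_zero]
  | n + 1, M, hM => by
    refine subsingleton_of_forall_eq 0 fun a => ?_
    let N : Submodule A M := I • ⊤
    have hQ : Subsingleton (K ⟶ (sQ A j).obj (ModuleCat.of A (M ⧸ N))) := h _ (by
      rintro x ⟨r, hr⟩
      obtain ⟨x, rfl⟩ := Submodule.Quotient.mk_surjective _ x
      exact (Submodule.Quotient.mk_eq_zero N).2 (Submodule.smul_mem_smul hr Submodule.mem_top))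
    obtain ⟨b, hb⟩ := exists_factor_left (shortExact_sub M N) j a (hQ.elim _ _)
    have hN : Subsingleton (K ⟶ (sQ A j).obj (ModuleCat.of A N)) := subsingleton_hom_of_pow h n _ fun r hr x => by
      refine Subtype.ext ?_
      show r • x.1 = 0
      refine Submodule.smul_induction_on x.2 (fun i hi y _ => ?_) fun y z hy hz => by rw [smul_add, hy, hz, add_zero]
      rw [smul_smul]
      exact hM _ (by rw [pow_succ]; exact Ideal.mul_mem_mul hr hi) y
    rw [hb, hN.elim b 0]
    exact zero_comp

theorem orth_of_exactAt {I : Ideal A} (s : Finset A) (hs : Ideal.span (s : Set A) = I) (P : DRing.Cx A)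
    [P.IsKProjective] (m : ℤ) (hP : ∀ i, m < i → ((TorAmp.tens (ModuleCat.of A (A ⧸ I))).obj P).ExactAt i) :
    Orth m s.toList (DerivedCategory.Q.obj P) := by
  intro M hM j hj
  have : ∀ f ∈ s, ∃ N : ℕ, ∀ x : M, f ^ N • x = 0 := fun f hf => hM f (Finset.mem_toList.2 hf)
  choose! N hN using this
  refine subsingleton_hom_of_pow (fun M' hM' => subsingleton_hom_of_exactAt I P m hP M' hM' j hj)
    (s.card * s.sup N + 1) M fun a ha x => ?_
  subst hs
  revert x
  refine fun x => Submodule.span_induction (p := fun r _ => r • x = 0) ?_ (zero_smul _ _)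
    (fun a b _ _ ha hb => by rw [add_smul, ha, hb, add_zero])
    (fun a b _ hb => by rw [smul_assoc, hb, smul_zero]) (pow_le_powSpan s _ ha)
  rintro r ⟨f, hf, rfl⟩
  show f ^ s.sup N • x = 0
  rw [← Nat.sub_add_cancel (Finset.le_sup (f := N) hf), pow_add, mul_smul, hN f hf, smul_zero]

/-- `K ⊗^L A/I` detects the vanishing of the cohomology of a derived complete `K` above `m`. -/
theorem homology_vanishing_iff {I : Ideal A} (hI : I.FG) [DRing.HasLTensor A (ModuleCat.of A (A ⧸ I))]
    (K : Dual.D A) (hc : DRing.IsDerivedComplete I K) (m : ℤ) :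
    (∀ i, m < i → Subsingleton (Dual.HD A K i)) ↔
      ∀ i, m < i → Subsingleton (Dual.HD A ((DRing.LTensor A (ModuleCat.of A (A ⧸ I))).obj K) i) := by
  constructor
  · intro h i hi
    have hX : K.IsLE m := (DerivedCategory.isLE_iff K m).2 fun k hk =>
      have := h k hk
      ModuleCat.isZero_of_subsingleton _
    obtain ⟨E, hE, hp, ⟨e⟩⟩ := Representative.ba_proj hX
    let et := (DRing.LTensor A (ModuleCat.of A (A ⧸ I))).mapIso e.symm ≪≫
      LTensorModule.ltFlat _ E m hE fun k => BaseChange.flat_of_proj _ (hp k)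
    refine ModuleCat.subsingleton_of_isZero (IsZero.of_iso ?_
      ((DerivedCategory.homologyFunctor (ModuleCat.{u} A) i).mapIso et ≪≫ hdIso _ i))
    exact (HomologicalComplex.ExactAt.of_isZero
      (Functor.map_isZero (MonoidalCategory.tensorRight (ModuleCat.of A (A ⧸ I))) (hE i hi))).isZero_homology
  · intro h
    obtain ⟨s, hs⟩ := hI
    obtain ⟨P, hP, ⟨e⟩⟩ := DTenBasic.exists_rep K
    let et := (DRing.LTensor A (ModuleCat.of A (A ⧸ I))).mapIso e.symm ≪≫ LTensorModule.lt _ P
    have hPe : ∀ i, m < i → ((TorAmp.tens (ModuleCat.of A (A ⧸ I))).obj P).ExactAt i := fun i hi => by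
      have := h i hi
      rw [HomologicalComplex.exactAt_iff_isZero_homology]
      exact (ModuleCat.isZero_of_subsingleton _).of_iso
        (((DerivedCategory.homologyFunctor (ModuleCat.{u} A) i).mapIso et ≪≫ hdIso _ i)).symm
    intro i hi
    have h1 := subsingleton_HD_of_orth s.toList (DerivedCategory.Q.obj P)
      (fun f hf k => (isDerivedComplete_iff.1 hc f (hs ▸ Ideal.subset_span (Finset.mem_toList.1 hf)) k).congr
        ((DerivedCategory.homologyFunctor (ModuleCat.{u} A) k).mapIso e).symm.toLinearEquiv)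
      (orth_of_exactAt s hs P m hPe) i hi
    exact ((DerivedCategory.homologyFunctor (ModuleCat.{u} A) i).mapIso e).symm.toLinearEquiv.toEquiv.subsingleton

end Groth.Agent.Lib.DR.DComp
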