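import Groth.Agent.Lib.DR.DComp.Crit
import Groth.Agent.Lib.DR.ExactPush
import Groth.Prelude.Def_DDual2

/-!
# Derived completeness and restriction of scalars
-/

universe u

open CategoryTheory CategoryTheory.Limits

attribute [local instance] HasDerivedCategory.standard

namespace Groth.Agent.Lib.DR.DComp

variable {A B : Type u} [CommRing A] [CommRing B] (φ : A →+* B)

/-- Cohomology of a restriction. -/
noncomputable def resHomologyIso (L : Dual.D B) (i : ℤ) :
    (DerivedCategory.homologyFunctor (ModuleCat.{u} A) i).obj ((DRing.restrictD φ).obj L) ≅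
      (ModuleCat.restrictScalars.{u} φ).obj ((DerivedCategory.homologyFunctor (ModuleCat.{u} B) i).obj L) :=
  let C := DerivedCategory.Q.objPreimage L
  let eL := DerivedCategory.Q.objObjPreimageIso L
  (DerivedCategory.homologyFunctor (ModuleCat.{u} A) i).mapIso
      ((DRing.restrictD φ).mapIso eL.symm ≪≫ ExactPush.mapQ (ModuleCat.restrictScalars.{u} φ) C) ≪≫
    Groth.Agent.Lib.RGamma.hdIso _ i ≪≫ (C.sc i).mapHomologyIso (ModuleCat.restrictScalars.{u} φ) ≪≫
    (ModuleCat.restrictScalars.{u} φ).mapIso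
      ((Groth.Agent.Lib.RGamma.hdIso C i).symm ≪≫
        (DerivedCategory.homologyFunctor (ModuleCat.{u} B) i).mapIso eL)

theorem dc_restrictScalars_iff (f : A) (N : ModuleCat.{u} B) :
    DC f ((ModuleCat.restrictScalars.{u} φ).obj N) ↔ DC (φ f) N :=
  Iff.rfl

theorem isDerivedComplete_map_iff (I : Ideal A) (L : Dual.D B) :
    DRing.IsDerivedComplete (I.map φ) L ↔ DRing.IsDerivedComplete I ((DRing.restrictD φ).obj L) := by
  rw [isDerivedComplete_iff, isDerivedComplete_iff]
  have key : ∀ f i, DC f (Dual.HD A ((DRing.restrictD φ).obj L) i) ↔ DC (φ f) (Dual.HD B L i) := fun f i =>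
    (dc_congr f (resHomologyIso φ L i).toLinearEquiv).trans (dc_restrictScalars_iff φ f _)
  refine ⟨fun h f hf i => (key f i).2 (h _ (Ideal.mem_map_of_mem φ hf) i), fun h g hg i => ?_⟩
  exact forall_dc_of_span (s := φ '' (I : Set A)) rfl
    (by rintro _ ⟨f, hf, rfl⟩; exact (key f i).1 (h f hf i)) g hg

end Groth.Agent.Lib.DR.DComp
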