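import Groth.Agent.Lib.DR.DComp.SeqAux
import Groth.Agent.Lib.DR.DComp.Module
import Mathlib.LinearAlgebra.TensorProduct.RightExactness
import Mathlib.RingTheory.Flat.Basic
import Mathlib.RingTheory.Filtration
import Mathlib.RingTheory.Ideal.Quotient.Operations

/-!
# Modules whose derived completion is the classical completion

`AR` is the Artin-Rees property of the multiplications, `Bd` boundedness of torsion. Both hold for `M ⊗ N` with
`M` finite over a Noetherian ring and `N` flat. `Compl J j` says that `j` is a completion along `J`.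
-/

universe u

open scoped TensorProduct

namespace Groth.Agent.Lib.DR.DComp

variable {A : Type u} [CommRing A] {X Z : Type u} [AddCommGroup X] [Module A X] [AddCommGroup Z] [Module A Z]

/-- Multiplications are strict for the adic topologies. -/
def AR (A : Type u) [CommRing A] (X : Type u) [AddCommGroup X] [Module A X] : Prop :=
  ∀ (J : Ideal A) (g : A) (k : ℕ), ∃ n, ∀ y : X, g • y ∈ J ^ n • (⊤ : Submodule A X) →
    ∃ y' ∈ J ^ k • (⊤ : Submodule A X), g • (y - y') = 0

/-- Torsion is bounded. -/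
def Bd (A : Type u) [CommRing A] (X : Type u) [AddCommGroup X] [Module A X] : Prop :=
  ∀ g : A, ∃ c : ℕ, ∀ (n : ℕ) (x : X), g ^ n • x = 0 → g ^ c • x = 0

/-- `j` is a completion along `J`. -/
structure Compl (J : Ideal A) (j : X →ₗ[A] Z) : Prop where
  surj : ∀ z k, ∃ x, z - j x ∈ J ^ k • (⊤ : Submodule A Z)
  refl : ∀ k x, j x ∈ J ^ k • (⊤ : Submodule A Z) → x ∈ J ^ k • (⊤ : Submodule A X)
  haus : IsHausdorff J Z
  pre : IsPrecomplete J Z

theorem Compl.id_bot : Compl (⊥ : Ideal A) (LinearMap.id : X →ₗ[A] X) :=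
  ⟨fun z k => ⟨z, by simp⟩, fun _ _ h => h, inferInstance, inferInstance⟩

theorem Compl.congr {J : Ideal A} {j : X →ₗ[A] Z} (h : Compl J j) {Z' : Type u} [AddCommGroup Z'] [Module A Z']
    (e : Z ≃ₗ[A] Z') : Compl J (e.toLinearMap ∘ₗ j) := by
  have hmem : ∀ (k : ℕ) (z : Z), e z ∈ J ^ k • (⊤ : Submodule A Z') ↔ z ∈ J ^ k • (⊤ : Submodule A Z) := fun k z => by
    refine ⟨fun hz => ?_, fun hz => ?_⟩
    · have h1 := Submodule.mem_map_of_mem (f := e.symm.toLinearMap) hz
      rw [Submodule.map_smul'', Submodule.map_top, LinearEquiv.range, LinearEquiv.coe_coe,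
        LinearEquiv.symm_apply_apply] at h1
      exact h1
    · have h1 := Submodule.mem_map_of_mem (f := e.toLinearMap) hz
      rw [Submodule.map_smul'', Submodule.map_top, LinearEquiv.range, LinearEquiv.coe_coe] at h1
      exact h1
  refine ⟨fun z k => ?_, fun k x hx => h.refl k x ((hmem k _).1 hx), ⟨fun z hz => ?_⟩, ⟨fun f hf => ?_⟩⟩
  · obtain ⟨x, hx⟩ := h.surj (e.symm z) k
    refine ⟨x, ?_⟩
    have := (hmem k _).2 hx
    rw [map_sub, LinearEquiv.apply_symm_apply] at this
    exact this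
  · have := h.haus.haus (e.symm z) fun k => by
      rw [SModEq.sub_mem, sub_zero, ← hmem k, LinearEquiv.apply_symm_apply]
      simpa [SModEq.sub_mem] using hz k
    exact e.symm.injective (this.trans (map_zero e.symm).symm)
  · obtain ⟨L, hL⟩ := h.pre.prec' (fun n => e.symm (f n)) fun {m n} hmn => by
      rw [SModEq.sub_mem, ← hmem m, map_sub, LinearEquiv.apply_symm_apply, LinearEquiv.apply_symm_apply]
      exact SModEq.sub_mem.1 (hf hmn)
    refine ⟨e L, fun n => ?_⟩
    rw [SModEq.sub_mem, ← e.apply_symm_apply (f n), ← map_sub, hmem]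
    exact SModEq.sub_mem.1 (hL n)

theorem pow_smul_top_antitone (J : Ideal A) {k n : ℕ} (h : k ≤ n) :
    J ^ n • (⊤ : Submodule A X) ≤ J ^ k • (⊤ : Submodule A X) :=
  Submodule.smul_mono_left (Ideal.pow_le_pow_right h)

theorem AR.exists_ge (h : AR A X) (J : Ideal A) (g : A) (k : ℕ) :
    ∃ n ≥ k, ∀ y : X, g • y ∈ J ^ n • (⊤ : Submodule A X) →
      ∃ y' ∈ J ^ k • (⊤ : Submodule A X), g • (y - y') = 0 := by
  obtain ⟨n, hn⟩ := h J g k
  exact ⟨max n k, le_max_right _ _, fun y hy => hn y (pow_smul_top_antitone J (le_max_left _ _) hy)⟩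

theorem eq_zero_of_haus {J : Ideal A} (h : IsHausdorff J Z) {z : Z}
    (hz : ∀ k, z ∈ J ^ k • (⊤ : Submodule A Z)) : z = 0 :=
  h.haus z fun k => by rw [SModEq.sub_mem, sub_zero]; exact hz k

theorem map_mem_pow {J : Ideal A} (j : X →ₗ[A] Z) {k : ℕ} {x : X} (hx : x ∈ J ^ k • (⊤ : Submodule A X)) :
    j x ∈ J ^ k • (⊤ : Submodule A Z) := by
  have := Submodule.mem_map_of_mem (f := j) hx
  rw [Submodule.map_smul''] at this
  exact Submodule.smul_mono le_rfl le_top this

theorem Compl.bd {J : Ideal A} {j : X →ₗ[A] Z} (h : Compl J j) (hAR : AR A X) (hBd : Bd A X) : Bd A Z := fun g => by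
  obtain ⟨c, hc⟩ := hBd g
  refine ⟨c, fun m z hz => eq_zero_of_haus h.haus fun k => ?_⟩
  obtain ⟨n, hnk, hn⟩ := hAR.exists_ge J (g ^ m) k
  obtain ⟨x, hx⟩ := h.surj z n
  have h1 : j (g ^ m • x) ∈ J ^ n • (⊤ : Submodule A Z) := by
    have := neg_mem (Submodule.smul_mem _ (g ^ m) hx)
    rwa [smul_sub, hz, zero_sub, neg_neg, ← map_smul] at this
  obtain ⟨y', hy', hy''⟩ := hn x (h.refl n _ h1)
  have h2 : g ^ c • x = g ^ c • y' := sub_eq_zero.1 ((smul_sub _ _ _).symm.trans (hc m _ hy''))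
  have h3 : g ^ c • z = g ^ c • (z - j x) + j (g ^ c • y') := by
    rw [← h2, map_smul, ← smul_add, sub_add_cancel]
  rw [h3]
  exact add_mem (Submodule.smul_mem _ _ (pow_smul_top_antitone J hnk hx))
    (map_mem_pow j (Submodule.smul_mem _ _ hy'))

theorem Compl.ar {J : Ideal A} {j : X →ₗ[A] Z} (h : Compl J j) (hAR : AR A X) (g : A) (k : ℕ) :
    ∃ n ≥ k, ∀ z : Z, g • z ∈ J ^ n • (⊤ : Submodule A Z) →
      ∃ z' ∈ J ^ k • (⊤ : Submodule A Z), g • (z - z') = 0 := by
  obtain ⟨n, hnk, hn⟩ := hAR.exists_ge J g k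
  refine ⟨n, hnk, fun z hz => ?_⟩
  obtain ⟨x, hx⟩ := h.surj z n
  have h1 : j (g • x) ∈ J ^ n • (⊤ : Submodule A Z) := by
    have := sub_mem hz (Submodule.smul_mem _ g hx)
    rwa [← smul_sub, sub_sub_cancel, ← map_smul] at this
  obtain ⟨y', hy', hy''⟩ := hn x (h.refl n _ h1)
  refine ⟨(z - j x) + j y', add_mem (pow_smul_top_antitone J hnk hx) (map_mem_pow j hy'), ?_⟩
  rw [show z - ((z - j x) + j y') = j (x - y') by rw [map_sub]; abel, ← map_smul, hy'', map_zero]

/-- Multiples of `f` are closed. -/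
theorem Compl.closed {J : Ideal A} {j : X →ₗ[A] Z} (h : Compl J j) (hAR : AR A X) (f : A) (z : Z)
    (hz : ∀ k, ∃ a, z - f • a ∈ J ^ k • (⊤ : Submodule A Z)) : ∃ a, z = f • a := by
  choose n hnk hn using h.ar hAR f
  choose a ha using hz
  let N : ℕ → ℕ := fun k => (Finset.range (k + 1)).sup n
  have hN : ∀ k, n k ≤ N k := fun k => Finset.le_sup (Finset.self_mem_range_succ k)
  have hN' : ∀ k, N k ≤ N (k + 1) := fun k => Finset.sup_mono (Finset.range_mono (by omega))
  have step : ∀ k (b : Z), z - f • b ∈ J ^ N k • (⊤ : Submodule A Z) →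
      ∃ b' : Z, z - f • b' ∈ J ^ N (k + 1) • (⊤ : Submodule A Z) ∧ b' - b ∈ J ^ k • (⊤ : Submodule A Z) := by
    intro k b hb
    have h1 : f • (a (N (k + 1)) - b) ∈ J ^ n k • (⊤ : Submodule A Z) := by
      rw [show f • (a (N (k + 1)) - b) = (z - f • b) - (z - f • a (N (k + 1))) by rw [smul_sub]; abel]
      exact pow_smul_top_antitone J (hN k) (sub_mem hb (pow_smul_top_antitone J (hN' k) (ha _)))
    obtain ⟨y', hy', hy''⟩ := hn k _ h1
    rw [smul_sub, sub_eq_zero] at hy''
    refine ⟨b + y', ?_, by rwa [add_sub_cancel_left]⟩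
    rw [smul_add, ← hy'', smul_sub, add_sub_cancel]
    exact ha _
  choose! next h1 h2 using step
  let b : ℕ → Z := fun k => Nat.rec (a (N 0)) next k
  have hb : ∀ k, z - f • b k ∈ J ^ N k • (⊤ : Submodule A Z) := fun k => by
    induction k with
    | zero => exact ha _
    | succ k ih => exact h1 k _ ih
  obtain ⟨L, hL⟩ := h.pre.prec' b fun {m m'} hmm => by
    rw [SModEq.sub_mem]
    induction m', hmm using Nat.le_induction with
    | base => rw [sub_self]; exact zero_mem _
    | succ m' hm ih =>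
      rw [← sub_add_sub_cancel (b m) (b m') (b (m' + 1)), ← neg_sub (b (m' + 1)) (b m')]
      exact add_mem ih (pow_smul_top_antitone J hm (neg_mem (h2 m' _ (hb m'))))
  refine ⟨L, sub_eq_zero.1 (eq_zero_of_haus h.haus fun k => ?_)⟩
  rw [show z - f • L = (z - f • b k) + f • (b k - L) by rw [smul_sub]; abel]
  exact add_mem (pow_smul_top_antitone J ((hnk k).trans (hN k)) (hb k))
    (Submodule.smul_mem _ _ (SModEq.sub_mem.1 (hL k)))

/-- The insertion at `0` followed by the projection to the cokernel of `t - f`. -/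
noncomputable def toCoker (f : A) (Z : Type u) [AddCommGroup Z] [Module A Z] :
    Z →ₗ[A] (ℕ → Z) ⧸ LinearMap.range (psiSeq (M := Z) f) :=
  Submodule.mkQ _ ∘ₗ LinearMap.single A (fun _ : ℕ => Z) 0

/-- Truncated evaluation at `f`. -/
noncomputable def evalTr (f : A) (m : ℕ) : (ℕ → Z) →ₗ[A] Z :=
  ∑ n ∈ Finset.range m, f ^ n • (LinearMap.proj n : (ℕ → Z) →ₗ[A] Z)

theorem evalTr_apply (f : A) (m : ℕ) (y : ℕ → Z) : evalTr f m y = ∑ n ∈ Finset.range m, f ^ n • y n := by
  simp [evalTr]

theorem evalTr_psiSeq (f : A) : ∀ (m : ℕ) (t : ℕ → Z),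
    evalTr f m (psiSeq f t) = -(match m with | 0 => 0 | k + 1 => f ^ (k + 1) • t k)
  | 0, t => by simp [evalTr_apply]
  | 1, t => by simp [evalTr_apply, psiSeq_apply]
  | m + 2, t => by
    rw [evalTr_apply, Finset.sum_range_succ, ← evalTr_apply, evalTr_psiSeq f (m + 1) t, psiSeq_apply, rsh_succ]
    rw [smul_sub, smul_smul, ← pow_succ]
    abel

theorem evalTr_toCoker (f : A) (m : ℕ) (z : Z) : evalTr f (m + 1) (Pi.single 0 z) = z := by
  rw [evalTr_apply, Finset.sum_eq_single 0]
  · simp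
  · intro n _ hn
    rw [Pi.single_eq_of_ne hn, smul_zero]
  · simp

/-- `evalTr` on the cokernel, modulo multiples of `f ^ m`. -/
noncomputable def thetaMod (f : A) (m : ℕ) (N : Submodule A Z) (hN : ∀ z : Z, f ^ m • z ∈ N) :
    ((ℕ → Z) ⧸ LinearMap.range (psiSeq (M := Z) f)) →ₗ[A] Z ⧸ N :=
  Submodule.liftQ _ (N.mkQ ∘ₗ evalTr f m) (by
    rintro y ⟨t, rfl⟩
    rw [LinearMap.mem_ker, LinearMap.comp_apply, Submodule.mkQ_apply, Submodule.Quotient.mk_eq_zero,
      evalTr_psiSeq]
    cases m with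
    | zero => exact neg_mem (zero_mem _)
    | succ k => exact neg_mem (hN _))

theorem toCoker_surj (f : A) (k : ℕ) (q : (ℕ → Z) ⧸ LinearMap.range (psiSeq (M := Z) f)) :
    ∃ z q', q = toCoker f Z z + f ^ k • q' := by
  induction k generalizing q with
  | zero => exact ⟨0, q, by simp⟩
  | succ k ih =>
    obtain ⟨y, rfl⟩ := Submodule.Quotient.mk_surjective _ q
    obtain ⟨z, q', hq⟩ := ih (Submodule.Quotient.mk fun n => y (n + 1))
    refine ⟨y 0 + f • z, q', ?_⟩
    rw [map_add, map_smul, pow_succ', mul_smul, add_assoc, ← smul_add, ← hq]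
    show Submodule.Quotient.mk y = Submodule.Quotient.mk (Pi.single (M := fun _ : ℕ => Z) 0 (y 0)) + f • Submodule.Quotient.mk _
    rw [← Submodule.Quotient.mk_smul, ← Submodule.Quotient.mk_add, Submodule.Quotient.eq]
    refine ⟨fun n => y (n + 1), funext fun n => ?_⟩
    rw [psiSeq_apply]
    cases n with
    | zero => simp
    | succ n => simp

/-- The kernel of `t - f` vanishes for bounded torsion. -/
theorem ker_psiSeq_eq_bot (f : A) (hBd : Bd A Z) : LinearMap.ker (psiSeq (M := Z) f) = ⊥ := by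
  obtain ⟨c, hc⟩ := hBd f
  refine (Submodule.eq_bot_iff _).2 fun y hy => funext fun n => ?_
  have h := fun n => congrFun (LinearMap.mem_ker.1 hy) n
  have h0 : f • y 0 = 0 := neg_eq_zero.1 (by simpa [psiSeq_apply] using h 0)
  have hs : ∀ n, y n = f • y (n + 1) := fun n => sub_eq_zero.1 (by simpa [psiSeq_apply] using h (n + 1))
  have ht : ∀ n, f ^ (n + 1) • y n = 0 := fun n => by
    induction n with
    | zero => simpa using h0
    | succ n ih => rw [pow_succ, mul_smul, ← hs n]; exact ih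
  have hi : ∀ i n, y n = f ^ i • y (n + i) := fun i => by
    induction i with
    | zero => simp
    | succ i ih => intro n; rw [ih n, hs (n + i), pow_succ, mul_smul]; rfl
  rw [hi c n, hc _ _ (ht (n + c))]
  rfl

/-- For bounded torsion the cokernel of `t - f` is separated. -/
theorem mem_range_psiSeq {f : A} (hBd : Bd A Z) (y : ℕ → Z)
    (h : ∀ m, ∃ a, evalTr f m y = f ^ m • a) : y ∈ LinearMap.range (psiSeq (M := Z) f) := by
  obtain ⟨c, hc⟩ := hBd f
  choose a ha using h
  let v : ℕ → Z := fun k => (∑ i ∈ Finset.range c, f ^ i • y (k + i)) - f ^ c • a (k + c)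
  have hv : ∀ k, f ^ k • v k = -evalTr f k y := fun k => by
    simp only [v]
    rw [smul_sub, smul_smul, ← pow_add, ← ha (k + c), evalTr_apply, evalTr_apply, Finset.sum_range_add,
      Finset.smul_sum]
    simp only [smul_smul, ← pow_add]
    abel
  have hs : ∀ k, y k = v k - f • v (k + 1) := fun k => by
    have e1 : f ^ (k + c) • (y (k + c) + a (k + c) - f • a (k + c + 1)) = 0 := by
      rw [smul_sub, smul_add, smul_smul, ← pow_succ, ← ha (k + c + 1), ← ha (k + c), evalTr_apply, evalTr_apply,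
        Finset.sum_range_succ]
      abel
    have e2 := hc _ _ e1
    refine sub_eq_zero.1 ?_
    rw [← e2]
    simp only [v]
    have e3 : f • ∑ i ∈ Finset.range c, f ^ i • y (k + 1 + i) =
        (∑ i ∈ Finset.range c, f ^ i • y (k + i)) + f ^ c • y (k + c) - y k := by
      rw [Finset.smul_sum, ← Finset.sum_range_succ (fun i => f ^ i • y (k + i)) c, Finset.sum_range_succ']
      simp only [pow_zero, one_smul, add_zero, add_sub_cancel_right, smul_smul, ← pow_succ']
      refine Finset.sum_congr rfl fun i _ => ?_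
      rw [show k + 1 + i = k + (i + 1) by omega]
    rw [smul_sub, e3, smul_smul f (f ^ c), ← pow_succ', show k + 1 + c = k + c + 1 by omega, smul_sub, smul_add,
      smul_smul (f ^ c) f, ← pow_succ]
    abel
  refine ⟨fun k => v (k + 1), funext fun k => ?_⟩
  rw [psiSeq_apply]
  cases k with
  | zero =>
    have : v 0 = 0 := by simpa [evalTr_apply] using hv 0
    rw [hs 0, this]
    simp
  | succ k => exact (hs (k + 1)).symm

/-- One more element. -/
theorem Compl.step {J : Ideal A} {j : X →ₗ[A] Z} (h : Compl J j) (hAR : AR A X) (hBd : Bd A X) (f : A)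
    (hJ : (J ⊔ Ideal.span {f}).FG)
    (hd : ∀ g ∈ J ⊔ Ideal.span {f}, DC g ((ℕ → Z) ⧸ LinearMap.range (psiSeq (M := Z) f))) :
    Compl (J ⊔ Ideal.span {f}) (toCoker f Z ∘ₗ j) := by
  let J' := J ⊔ Ideal.span {f}
  have hf : f ∈ J' := Ideal.mem_sup_right (Ideal.mem_span_singleton_self f)
  have hJJ : J ≤ J' := le_sup_left
  have hlift : ∀ (k : ℕ) (z : Z), z ∈ J' ^ k • (⊤ : Submodule A Z) →
      ∃ x ∈ J' ^ k • (⊤ : Submodule A X), z - j x ∈ J ^ k • (⊤ : Submodule A Z) := fun k z hz => by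
    refine Submodule.smul_induction_on hz (fun a ha w _ => ?_) fun w w' ⟨x, hx, hx'⟩ ⟨x₂, hy, hy'⟩ =>
      ⟨x + x₂, add_mem hx hy, by rw [map_add, add_sub_add_comm]; exact add_mem hx' hy'⟩
    obtain ⟨x, hx⟩ := h.surj w k
    exact ⟨a • x, Submodule.smul_mem_smul ha Submodule.mem_top, by rw [map_smul, ← smul_sub]; exact Submodule.smul_mem _ _ hx⟩
  refine ⟨fun q k => ?_, fun k x hx => ?_, ⟨fun q hq => ?_⟩, isPrecomplete_of_dc hJ hd⟩
  · obtain ⟨z, q', rfl⟩ := toCoker_surj f k q
    obtain ⟨x, hx⟩ := h.surj z k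
    refine ⟨x, ?_⟩
    rw [LinearMap.comp_apply, add_sub_right_comm, ← map_sub]
    exact add_mem (map_mem_pow _ (Submodule.smul_mono_left (Ideal.pow_right_mono hJJ k) hx))
      (Submodule.smul_mem_smul (Ideal.pow_mem_pow hf k) Submodule.mem_top)
  · let N : Submodule A Z := J' ^ k • ⊤
    have hN : ∀ z : Z, f ^ (k + 1) • z ∈ N := fun z =>
      Submodule.smul_mem_smul (Ideal.pow_le_pow_right (Nat.le_succ k) (Ideal.pow_mem_pow hf (k + 1))) Submodule.mem_top
    have h1 := Submodule.mem_map_of_mem (f := thetaMod f (k + 1) N hN) hx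
    rw [Submodule.map_smul''] at h1
    replace h1 := Submodule.smul_mono le_rfl le_top h1
    have h0 : J' ^ k • (⊤ : Submodule A (Z ⧸ N)) = ⊥ := by
      rw [eq_bot_iff, Submodule.smul_le]
      rintro a ha q -
      obtain ⟨z, rfl⟩ := Submodule.Quotient.mk_surjective _ q
      exact (Submodule.mem_bot A).2 ((Submodule.Quotient.mk_eq_zero N).2 (Submodule.smul_mem_smul ha Submodule.mem_top))
    rw [h0, Submodule.mem_bot] at h1
    have h2 : j x ∈ N := by
      refine (Submodule.Quotient.mk_eq_zero N).1 (Eq.trans ?_ h1)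
      show _ = Submodule.Quotient.mk (evalTr f (k + 1) (Pi.single 0 (j x)))
      rw [evalTr_toCoker]
    obtain ⟨x', hx', hxx⟩ := hlift k _ h2
    rw [← map_sub] at hxx
    have := add_mem (Submodule.smul_mono_left (Ideal.pow_right_mono hJJ k) (h.refl k _ hxx)) hx'
    rwa [sub_add_cancel] at this
  · obtain ⟨y, rfl⟩ := Submodule.Quotient.mk_surjective _ q
    refine (Submodule.Quotient.mk_eq_zero _).2 (mem_range_psiSeq (h.bd hAR hBd) y fun m => h.closed hAR _ _ fun k => ?_)
    let N : Submodule A Z := LinearMap.range (LinearMap.lsmul A Z (f ^ m)) ⊔ J ^ k • ⊤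
    have hN : ∀ z : Z, f ^ m • z ∈ N := fun z => Submodule.mem_sup_left ⟨z, rfl⟩
    have hJN : ∀ a ∈ J' ^ (k + m), ∀ z : Z, a • z ∈ N := fun a ha z => by
      have ha' := Ideal.sup_pow_add_le_pow_sup_pow ha
      rw [Ideal.span_singleton_pow, Submodule.mem_sup] at ha'
      obtain ⟨b, hb, c, hc, rfl⟩ := ha'
      obtain ⟨d, rfl⟩ := Ideal.mem_span_singleton'.1 hc
      rw [add_smul, mul_comm, mul_smul]
      exact add_mem (Submodule.mem_sup_right (Submodule.smul_mem_smul hb Submodule.mem_top)) (hN _)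
    have hk := hq (k + m)
    rw [SModEq.sub_mem, sub_zero] at hk
    have h1 := Submodule.mem_map_of_mem (f := thetaMod f m N hN) hk
    rw [Submodule.map_smul''] at h1
    replace h1 := Submodule.smul_mono le_rfl le_top h1
    have h0 : J' ^ (k + m) • (⊤ : Submodule A (Z ⧸ N)) = ⊥ := by
      rw [eq_bot_iff, Submodule.smul_le]
      rintro a ha q -
      obtain ⟨z, rfl⟩ := Submodule.Quotient.mk_surjective _ q
      exact (Submodule.mem_bot A).2 ((Submodule.Quotient.mk_eq_zero N).2 (hJN a ha z))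
    rw [h0, Submodule.mem_bot] at h1
    obtain ⟨_, ⟨b, rfl⟩, w, hw, hbw⟩ := Submodule.mem_sup.1 ((Submodule.Quotient.mk_eq_zero N).1 h1)
    refine ⟨b, ?_⟩
    rw [show evalTr f m y - f ^ m • b = w from sub_eq_iff_eq_add'.2 hbw.symm]
    exact hw

section Tensor

variable {M N : Type u} [AddCommGroup M] [Module A M] [AddCommGroup N] [Module A N]

theorem rTensor_mem_smul_top {J : Ideal A} (S : Submodule A M) (hS : S ≤ J • ⊤) (w : S ⊗[A] N) :
    (S.subtype.rTensor N) w ∈ J • (⊤ : Submodule A (M ⊗[A] N)) := by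
  induction w using TensorProduct.induction_on with
  | zero => rw [map_zero]; exact zero_mem _
  | add a b ha hb => rw [map_add]; exact add_mem ha hb
  | tmul s n =>
    rw [LinearMap.rTensor_tmul]
    have := Submodule.mem_map_of_mem (f := (TensorProduct.mk A M N).flip n) (hS s.2)
    rw [Submodule.map_smul''] at this
    exact Submodule.smul_mono le_rfl le_top this

theorem exists_rTensor_eq_of_smul_mem [Module.Flat A N] (g : A) (Q : Submodule A M) (y : M ⊗[A] N)
    (hy : (Q.mkQ.rTensor N) (g • y) = 0) :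
    ∃ w : (Q.comap (LinearMap.lsmul A M g)) ⊗[A] N, (Q.comap (LinearMap.lsmul A M g)).subtype.rTensor N w = y := by
  let u : M →ₗ[A] M ⧸ Q := Q.mkQ ∘ₗ LinearMap.lsmul A M g
  have hex : Function.Exact (Q.comap (LinearMap.lsmul A M g)).subtype u := fun x => by
    refine ⟨fun hx => ⟨⟨x, (Submodule.Quotient.mk_eq_zero Q).1 hx⟩, rfl⟩, ?_⟩
    rintro ⟨x, rfl⟩
    exact (Submodule.Quotient.mk_eq_zero Q).2 x.2
  refine (Module.Flat.rTensor_exact N hex y).1 ?_
  rw [LinearMap.rTensor_comp, LinearMap.comp_apply, ← hy]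
  refine congrArg (Q.mkQ.rTensor N) ?_
  clear hy
  induction y using TensorProduct.induction_on with
  | zero => rw [map_zero, smul_zero]
  | add a b ha hb => rw [map_add, ha, hb, smul_add]
  | tmul m n => rw [LinearMap.rTensor_tmul, TensorProduct.smul_tmul']; rfl

theorem ar_tensor [IsNoetherianRing A] [Module.Finite A M] [Module.Flat A N] : AR A (M ⊗[A] N) := fun J g k => by
  obtain ⟨d, hd⟩ := J.exists_pow_inf_eq_pow_smul (LinearMap.range (LinearMap.lsmul A M g))
  refine ⟨k + d, fun y hy => ?_⟩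
  let Q : Submodule A M := J ^ (k + d) • ⊤
  let T : Submodule A M := Q.comap (LinearMap.lsmul A M g)
  have hy' : (Q.mkQ.rTensor N) (g • y) = 0 := by
    refine Submodule.smul_induction_on hy (fun a ha z hz => ?_) fun a b ha hb => by rw [map_add, ha, hb, add_zero]
    clear hz
    induction z using TensorProduct.induction_on with
    | zero => rw [smul_zero, map_zero]
    | add a b ha hb => rw [smul_add, map_add, ha, hb, add_zero]
    | tmul m n =>
      rw [TensorProduct.smul_tmul', LinearMap.rTensor_tmul, Submodule.mkQ_apply,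
        (Submodule.Quotient.mk_eq_zero Q).2 (Submodule.smul_mem_smul ha Submodule.mem_top), TensorProduct.zero_tmul]
  obtain ⟨w, rfl⟩ := exists_rTensor_eq_of_smul_mem g Q y hy'
  clear hy hy'
  induction w using TensorProduct.induction_on with
  | zero => exact ⟨0, zero_mem _, by rw [map_zero, sub_zero, smul_zero]⟩
  | add a b ha hb =>
    obtain ⟨a', ha, ha'⟩ := ha
    obtain ⟨b', hb, hb'⟩ := hb
    exact ⟨a' + b', add_mem ha hb, by rw [map_add, add_sub_add_comm, smul_add, ha', hb', add_zero]⟩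
  | tmul t n =>
    have h1 : g • (t : M) ∈ J ^ (k + d) • ⊤ ⊓ LinearMap.range (LinearMap.lsmul A M g) := ⟨t.2, t.1, rfl⟩
    rw [hd (k + d) (by omega), Nat.add_sub_cancel] at h1
    replace h1 := Submodule.smul_mono le_rfl inf_le_right h1
    rw [LinearMap.range_eq_map, ← Submodule.map_smul''] at h1
    obtain ⟨t', ht', ht''⟩ := h1
    refine ⟨t' ⊗ₜ n, ?_, ?_⟩
    · have := Submodule.mem_map_of_mem (f := (TensorProduct.mk A M N).flip n) ht'
      rw [Submodule.map_smul''] at this
      exact Submodule.smul_mono le_rfl le_top this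
    · rw [LinearMap.rTensor_tmul, Submodule.subtype_apply, ← TensorProduct.sub_tmul, TensorProduct.smul_tmul',
        smul_sub, show g • t' = g • (t : M) from ht'', sub_self, TensorProduct.zero_tmul]

theorem bd_tensor [IsNoetherianRing A] [Module.Finite A M] [Module.Flat A N] : Bd A (M ⊗[A] N) := fun g => by
  let T : ℕ →o Submodule A M :=
    ⟨fun n => (⊥ : Submodule A M).comap (LinearMap.lsmul A M (g ^ n)), fun a b hab x hx => by
      rw [Submodule.mem_comap, Submodule.mem_bot, LinearMap.lsmul_apply] at hx ⊢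
      rw [← Nat.sub_add_cancel hab, pow_add, mul_smul, hx, smul_zero]⟩
  obtain ⟨c, hc⟩ := monotone_stabilizes_iff_noetherian.2 (inferInstance : IsNoetherian A M) T
  refine ⟨c, fun n x hx => ?_⟩
  obtain ⟨w, rfl⟩ := exists_rTensor_eq_of_smul_mem (g ^ n) ⊥ x (by rw [hx, map_zero])
  clear hx
  induction w using TensorProduct.induction_on with
  | zero => rw [map_zero, smul_zero]
  | add a b ha hb => rw [map_add, smul_add, ha, hb, add_zero]
  | tmul t m =>
    have h1 : (t : M) ∈ T (max n c) := T.monotone (le_max_left n c) t.2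
    rw [← hc _ (le_max_right n c)] at h1
    have h2 : g ^ c • (t : M) = 0 := (Submodule.mem_bot A).1 h1
    rw [LinearMap.rTensor_tmul, TensorProduct.smul_tmul', Submodule.subtype_apply, h2, TensorProduct.zero_tmul]

theorem AR.congr (h : AR A X) (e : X ≃ₗ[A] Z) : AR A Z := fun J g k => by
  obtain ⟨n, hn⟩ := h J g k
  refine ⟨n, fun y hy => ?_⟩
  obtain ⟨y', hy', he⟩ := hn (e.symm y) (by rw [← map_smul]; exact map_mem_pow e.symm.toLinearMap hy)
  refine ⟨e y', map_mem_pow e.toLinearMap hy', e.symm.injective ?_⟩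
  rw [map_smul, map_sub, e.symm_apply_apply, map_zero]
  exact he

theorem Bd.congr (h : Bd A X) (e : X ≃ₗ[A] Z) : Bd A Z := fun g => by
  obtain ⟨c, hc⟩ := h g
  refine ⟨c, fun n x hx => e.symm.injective ?_⟩
  rw [map_smul, map_zero]
  exact hc n _ (by rw [← map_smul, hx, map_zero])

theorem ar_of_finite [IsNoetherianRing A] [Module.Finite A M] : AR A M :=
  (ar_tensor (M := M) (N := A)).congr (TensorProduct.rid A M)

theorem bd_of_finite [IsNoetherianRing A] [Module.Finite A M] : Bd A M :=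
  (bd_tensor (M := M) (N := A)).congr (TensorProduct.rid A M)

end Tensor

end Groth.Agent.Lib.DR.DComp
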