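import Mathlib.Algebra.Module.Equiv.Basic
import Mathlib.LinearAlgebra.Pi
import Mathlib.LinearAlgebra.Quotient.Basic
import Mathlib.RingTheory.Ideal.Operations
import Mathlib.RingTheory.Nilpotent.Defs
import Mathlib.Tactic.Abel
import Mathlib.Algebra.Module.End

/-!
# The sequence criterion of derived completeness for modules

For an endomorphism `e` of a module `M`, `phi e` sends `(x n)` to `(x n - e (x (n + 1)))`.  It is
bijective exactly when `Hom` and `Ext¹` out of `A_f` vanish, for `e` the multiplication by `f`.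
-/

namespace Groth.Agent.Lib.DR.DComp

variable {A : Type*} [CommRing A] {M N P : Type*} [AddCommGroup M] [Module A M] [AddCommGroup N]
  [Module A N] [AddCommGroup P] [Module A P]

/-- `x ↦ (x n - e (x (n + 1)))`. -/
def phi (e : Module.End A M) : (ℕ → M) →ₗ[A] (ℕ → M) :=
  LinearMap.pi fun n => (LinearMap.proj n : (ℕ → M) →ₗ[A] M) -
    (e : M →ₗ[A] M) ∘ₗ (LinearMap.proj (n + 1) : (ℕ → M) →ₗ[A] M)

@[simp] theorem phi_apply (e : Module.End A M) (x : ℕ → M) (n : ℕ) :
    phi e x n = x n - e (x (n + 1)) := rfl

theorem phi_eq_zero_iff (e : Module.End A M) (x : ℕ → M) : phi e x = 0 ↔ ∀ n, x n = e (x (n + 1)) := by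
  simp only [funext_iff, phi_apply, Pi.zero_apply, sub_eq_zero]

theorem phi_eq_iff (e : Module.End A M) (x b : ℕ → M) :
    phi e x = b ↔ ∀ n, x n = b n + e (x (n + 1)) := by
  simp only [funext_iff, phi_apply, sub_eq_iff_eq_add]

theorem eq_zero_of_chain {e : Module.End A M} (he : Function.Injective (phi e)) (x : ℕ → M)
    (hx : ∀ n, x n = e (x (n + 1))) : x = 0 :=
  he (((phi_eq_zero_iff e x).2 hx).trans (map_zero _).symm)

theorem bijective_phi_mul {e c : Module.End A M} (hc : Commute c e) (he : Function.Bijective (phi e)) :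
    Function.Bijective (phi (c * e)) := by
  refine ⟨(injective_iff_map_eq_zero _).2 fun x hx => ?_, fun b => ?_⟩
  · rw [phi_eq_zero_iff] at hx
    funext k
    refine congrFun (eq_zero_of_chain he.1 (fun m => (c ^ m) (x (k + m))) fun m => ?_) 0
    show (c ^ m) (x (k + m)) = (e * c ^ (m + 1)) (x (k + (m + 1)))
    rw [← (hc.pow_left (m + 1)).eq, pow_succ, hx (k + m), mul_assoc]
    rfl
  · choose z hz using fun k => he.2 fun m => (c ^ m) (b (k + m))
    simp only [phi_eq_iff] at hz
    have h1 : ∀ k m, z k (m + 1) = c (z (k + 1) m) := fun k => by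
      refine congrFun (he.1 ?_)
      funext m
      simp only [phi_apply]
      rw [hz k (m + 1), hz (k + 1) m, map_add, show c (e (z (k + 1) (m + 1))) = e (c (z (k + 1) (m + 1)))
        from LinearMap.congr_fun hc.eq _, show k + 1 + m = k + (m + 1) by omega, pow_succ']
      simp only [Module.End.mul_apply]
      abel
    refine ⟨fun k => z k 0, (phi_eq_iff _ _ _).2 fun k => ?_⟩
    have h0 := hz k 0
    simp only [pow_zero, Module.End.one_apply, add_zero] at h0
    show z k 0 = b k + (c * e) (z (k + 1) 0)
    rw [h0, h1 k 0, hc.eq]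
    rfl

theorem subsingleton_of_surjective {e : Module.End A M} (he : Function.Injective (phi e))
    (hs : Function.Surjective e) : Subsingleton M := by
  refine subsingleton_of_forall_eq 0 fun m => ?_
  choose g hg using hs
  exact congrFun (eq_zero_of_chain he (fun n => g^[n] m) fun n => by
    show g^[n] m = e (g^[n + 1] m)
    rw [Function.iterate_succ_apply', hg]) 0

theorem bijective_phi_of_pow {e : Module.End A M} {d : ℕ} (h : Function.Bijective (phi (e ^ d))) :
    Function.Bijective (phi e) := by
  rcases Nat.eq_zero_or_pos d with rfl | hd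
  · have : Subsingleton M := by
      refine subsingleton_of_forall_eq 0 fun m => ?_
      exact congrFun (eq_zero_of_chain h.1 (fun _ => m) fun n => rfl) 0
    exact ⟨fun _ _ _ => Subsingleton.elim _ _, fun b => ⟨b, Subsingleton.elim _ _⟩⟩
  have key : ∀ x : ℕ → M, (∀ m, x m = (e ^ d) (x (m + d))) → x = 0 := fun x hx => by
    funext m
    refine (show x m = x (m + d * 0) by rw [mul_zero, add_zero]).trans
      (congrFun (eq_zero_of_chain h.1 (fun k => x (m + d * k)) fun k => ?_) 0)
    show x (m + d * k) = (e ^ d) (x (m + d * (k + 1)))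
    rw [hx (m + d * k), mul_add, mul_one, add_assoc]
  refine ⟨(injective_iff_map_eq_zero _).2 fun x hx => key x fun m => ?_, fun b => ?_⟩
  · rw [phi_eq_zero_iff] at hx
    clear hd key h
    induction d with
    | zero => rfl
    | succ k ih =>
      rw [ih, hx (m + k), pow_succ]
      rfl
  · let s : ℕ → ℕ → M := fun j m => ∑ i ∈ Finset.range j, (e ^ i) (b (m + i))
    choose w hw using fun m => h.2 fun k => s d (m + d * k)
    simp only [phi_eq_iff] at hw
    have h1 : ∀ m k, w (m + d) k = w m (k + 1) := fun m => by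
      refine congrFun (h.1 ?_)
      funext k
      simp only [phi_apply]
      rw [hw (m + d) k, hw m (k + 1), add_sub_cancel_right, add_sub_cancel_right, mul_add, mul_one]
      congr 1
      omega
    have hX : ∀ m, w m 0 = s d m + (e ^ d) (w (m + d) 0) := fun m => by
      conv_lhs => rw [hw m 0, mul_zero, add_zero, ← h1]
    refine ⟨fun m => w m 0, sub_eq_zero.1 (key _ fun m => ?_)⟩
    have hs : s d m - e (s d (m + 1)) = b m - (e ^ d) (b (m + d)) := by
      clear hX h1 hw w key h hd
      induction d with
      | zero => simp [s]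
      | succ k ih =>
        have : ∀ j m, s (j + 1) m = s j m + (e ^ j) (b (m + j)) := fun j m => Finset.sum_range_succ _ _
        rw [this, this, map_add, pow_succ' e k, Module.End.mul_apply,
          show m + 1 + k = m + (k + 1) by omega]
        rw [sub_eq_iff_eq_add] at ih
        rw [ih]
        abel
    simp only [Pi.sub_apply, phi_apply]
    rw [hX m, hX (m + 1), map_add, map_sub, map_sub, show m + 1 + d = m + d + 1 by omega,
      show e ((e ^ d) (w (m + d + 1) 0)) = (e ^ d) (e (w (m + d + 1) 0)) from
        LinearMap.congr_fun ((Commute.refl e).pow_right d).eq _]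
    rw [sub_eq_iff_eq_add] at hs
    rw [hs]
    abel

/-! ### Scalars -/

/-- `f` acts derived-completely on `M`. -/
def DC (f : A) (M : Type*) [AddCommGroup M] [Module A M] : Prop :=
  Function.Bijective (phi (LinearMap.lsmul A M f))

theorem lsmul_mul (a b : A) :
    LinearMap.lsmul A M (a * b) = (LinearMap.lsmul A M a : Module.End A M) * LinearMap.lsmul A M b :=
  LinearMap.ext fun x => mul_smul a b x

theorem lsmul_pow (a : A) (n : ℕ) :
    LinearMap.lsmul A M (a ^ n) = (LinearMap.lsmul A M a : Module.End A M) ^ n := by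
  induction n with
  | zero => exact LinearMap.ext fun x => by simp
  | succ n ih => rw [pow_succ, pow_succ, lsmul_mul, ih]

theorem commute_lsmul (a : A) (e : Module.End A M) : Commute e (LinearMap.lsmul A M a) :=
  LinearMap.ext fun x => map_smul e a x

theorem DC.mul_left {f : A} (h : DC f M) (a : A) : DC (a * f) M := by
  rw [DC, lsmul_mul]
  exact bijective_phi_mul (commute_lsmul f _) h

theorem DC.of_pow {f : A} {n : ℕ} (h : DC (f ^ n) M) : DC f M := by
  rw [DC, lsmul_pow] at h
  exact bijective_phi_of_pow h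

theorem dc_of_subsingleton [Subsingleton M] (f : A) : DC f M :=
  ⟨fun _ _ _ => Subsingleton.elim _ _, fun b => ⟨b, Subsingleton.elim _ _⟩⟩

theorem DC.congr {f : A} (h : DC f M) (e : M ≃ₗ[A] N) : DC f N := by
  let E : (ℕ → M) ≃ (ℕ → N) := Equiv.piCongrRight fun _ => e.toEquiv
  have : phi (LinearMap.lsmul A N f) = E ∘ phi (LinearMap.lsmul A M f) ∘ E.symm := by
    funext x n
    simp [E]
  rw [DC, this]
  exact E.bijective.comp (h.comp E.symm.bijective)

theorem dc_congr (f : A) (e : M ≃ₗ[A] N) : DC f M ↔ DC f N :=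
  ⟨fun h => h.congr e, fun h => h.congr e.symm⟩

theorem dc_pi {ι : Type*} {M : ι → Type*} [∀ i, AddCommGroup (M i)] [∀ i, Module A (M i)] {f : A}
    (h : ∀ i, DC f (M i)) : DC f (∀ i, M i) := by
  refine ⟨(injective_iff_map_eq_zero _).2 fun x hx => ?_, fun b => ?_⟩
  · rw [phi_eq_zero_iff] at hx
    funext n i
    exact congrFun (eq_zero_of_chain (h i).1 (fun m => x m i) fun m => congrFun (hx m) i) n
  · choose y hy using fun i => (h i).2 fun m => b m i
    exact ⟨fun n i => y i n, by funext n i; refine Eq.trans ?_ (congrFun (hy i) n); simp⟩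

/-- Naturality. -/
theorem phi_comp (u : M →ₗ[A] N) (f : A) (x : ℕ → M) :
    phi (LinearMap.lsmul A N f) (fun n => u (x n)) = fun n => u (phi (LinearMap.lsmul A M f) x n) := by
  funext n
  simp

theorem DC.ker {f : A} (hM : DC f M) (u : M →ₗ[A] N) (hN : Function.Injective (phi (LinearMap.lsmul A N f))) :
    DC f (LinearMap.ker u) := by
  refine ⟨(injective_iff_map_eq_zero _).2 fun x hx => ?_, fun b => ?_⟩
  · rw [phi_eq_zero_iff] at hx
    funext n
    exact Subtype.ext (congrFun (eq_zero_of_chain hM.1 (fun m => (x m : M)) fun m =>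
      congrArg Subtype.val (hx m)) n)
  · obtain ⟨y, hy⟩ := hM.2 fun m => b m
    have h0 := @hN (fun n => u (y n)) 0 (by
      rw [phi_comp, hy, map_zero]; funext n; exact (b n).2)
    exact ⟨fun n => ⟨y n, congrFun h0 n⟩, by funext n; refine Subtype.ext (Eq.trans ?_ (congrFun hy n)); simp⟩

theorem DC.coker {f : A} (hN : DC f N) (u : M →ₗ[A] N) (hM : Function.Surjective (phi (LinearMap.lsmul A M f))) :
    DC f (N ⧸ LinearMap.range u) := by
  refine ⟨(injective_iff_map_eq_zero _).2 fun x hx => ?_, fun b => ?_⟩
  · choose y hy using fun n => Submodule.Quotient.mk_surjective _ (x n)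
    have : ∀ n, ∃ z, u z = phi (LinearMap.lsmul A N f) y n := fun n =>
      LinearMap.mem_range.1 ((Submodule.Quotient.mk_eq_zero _).1 (by
        refine Eq.trans ?_ (congrFun hx n)
        simp [← hy]))
    choose z hz using this
    obtain ⟨w, hw⟩ := hM z
    have h0 := hN.1 (show phi (LinearMap.lsmul A N f) (fun n => u (w n)) = phi (LinearMap.lsmul A N f) y by
      rw [phi_comp, hw]; exact funext hz)
    funext n
    rw [← hy n, ← congrFun h0 n]
    exact (Submodule.Quotient.mk_eq_zero _).2 ⟨w n, rfl⟩
  · choose y hy using fun n => Submodule.Quotient.mk_surjective _ (b n)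
    obtain ⟨x, hx⟩ := hN.2 y
    refine ⟨fun n => Submodule.Quotient.mk (x n), funext fun n => ?_⟩
    rw [← hy n, ← congrFun hx n]
    simp

theorem dc_of_exact {f : A} (i : M →ₗ[A] N) (p : N →ₗ[A] P) (hi : Function.Injective i)
    (hp : Function.Surjective p) (he : LinearMap.ker p = LinearMap.range i) (hM : DC f M) (hP : DC f P) :
    DC f N := by
  refine ⟨(injective_iff_map_eq_zero _).2 fun x hx => ?_, fun b => ?_⟩
  · have h0 := @hP.1 (fun n => p (x n)) 0 (by rw [phi_comp, hx, map_zero]; funext n; simp)
    have : ∀ n, ∃ z, i z = x n := fun n =>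
      LinearMap.mem_range.1 (he ▸ LinearMap.mem_ker.2 (congrFun h0 n))
    choose z hz using this
    have hz0 : z = 0 := hM.1 (funext fun n => hi (by
      rw [← congrFun (phi_comp i f z) n, map_zero, Pi.zero_apply, map_zero, show (fun n => i (z n)) = x from funext hz, hx]
      rfl))
    funext n
    rw [← hz n, hz0]
    simp
  · obtain ⟨q, hq⟩ := hP.2 fun n => p (b n)
    choose y hy using fun n => hp (q n)
    have : ∀ n, ∃ z, i z = b n - phi (LinearMap.lsmul A N f) y n := fun n =>
      LinearMap.mem_range.1 (he ▸ LinearMap.mem_ker.2 (by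
        rw [map_sub, ← congrFun (phi_comp p f y) n, show (fun n => p (y n)) = q from funext hy, congrFun hq n,
          sub_self]))
    choose z hz using this
    obtain ⟨w, hw⟩ := hM.2 z
    refine ⟨y + fun n => i (w n), ?_⟩
    rw [map_add, phi_comp, hw]
    funext n
    simp only [Pi.add_apply, hz, add_sub_cancel]

theorem subsingleton_of_bijective_smul_add {f g : A} (hfQ : DC f M) (hgQ : DC g M)
    (hb : Function.Bijective fun x : M => (f + g) • x) : Subsingleton M := by
  let E : M ≃ₗ[A] M := LinearEquiv.ofBijective (LinearMap.lsmul A M (f + g)) hb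
  let a : Module.End A M := E.symm.toLinearMap * LinearMap.lsmul A M f
  let b : Module.End A M := E.symm.toLinearMap * LinearMap.lsmul A M g
  have ha : Function.Bijective (phi a) := bijective_phi_mul (commute_lsmul f E.symm.toLinearMap) hfQ
  have hb' : Function.Bijective (phi b) := bijective_phi_mul (commute_lsmul g E.symm.toLinearMap) hgQ
  have hab : ∀ q, a q + b q = q := fun q => by
    show E.symm (f • q) + E.symm (g • q) = q
    rw [← map_add, ← add_smul]
    exact E.symm_apply_apply q
  refine subsingleton_of_surjective (e := b) hb'.1 fun m => ?_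
  obtain ⟨y, hy⟩ := ha.2 fun _ => m
  have h1 : y 1 = y 0 := congrFun (@ha.1 (fun n => y (n + 1)) y (funext fun n =>
    (congrFun hy (n + 1)).trans (congrFun hy n).symm)) 0
  refine ⟨y 0, ?_⟩
  have h0 := congrFun hy 0
  rw [phi_apply, zero_add, h1] at h0
  rw [← h0, eq_sub_iff_add_eq, add_comm]
  exact hab (y 0)

/-- The multiplications acting derived-completely are closed under sums. -/
theorem dc_add {f g : A} (hf : DC f M) (hg : DC g M) : DC (f + g) M := by
  let e : Module.End A M := LinearMap.lsmul A M (f + g)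
  let σ : (ℕ → M) →ₗ[A] (ℕ → M) := LinearMap.funLeft A M (· + 1)
  have hσ : ∀ x, phi e x = x - (f + g) • σ x := fun x => rfl
  have hff : DC f (ℕ → M) := dc_pi fun _ => hf
  have hgg : DC g (ℕ → M) := dc_pi fun _ => hg
  refine ⟨?_, ?_⟩
  · have hL : Subsingleton (LinearMap.ker (phi e)) := by
      refine subsingleton_of_bijective_smul_add (hff.ker _ hff.1) (hgg.ker _ hgg.1) ⟨fun x y hxy => Subtype.ext (funext fun n => ?_),
        fun x => ⟨⟨σ x, ?_⟩, Subtype.ext (funext fun n => ?_)⟩⟩
      · have hx := (phi_eq_zero_iff e x.1).1 x.2 n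
        have hy := (phi_eq_zero_iff e y.1).1 y.2 n
        rw [hx, hy]
        exact congrFun (congrArg Subtype.val hxy) (n + 1)
      · exact (phi_eq_zero_iff e _).2 fun n => (phi_eq_zero_iff e x.1).1 x.2 (n + 1)
      · exact ((phi_eq_zero_iff e x.1).1 x.2 n).symm
    exact LinearMap.ker_eq_bot.1 (Submodule.subsingleton_iff_eq_bot.1 hL)
  · have hC : Subsingleton ((ℕ → M) ⧸ LinearMap.range (phi e)) := by
      have hR : LinearMap.range (phi e) ≤ (LinearMap.range (phi e)).comap σ := by
        rintro x ⟨y, rfl⟩
        exact ⟨σ y, rfl⟩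
      let s := Submodule.mapQ _ _ σ hR
      have hr : ∀ x, (f + g) • s x = x := fun x => by
        obtain ⟨x, rfl⟩ := Submodule.Quotient.mk_surjective _ x
        exact ((Submodule.Quotient.eq _).2 (LinearMap.mem_range.2 ⟨x, hσ x⟩)).symm
      refine subsingleton_of_bijective_smul_add (hff.coker _ hff.2) (hgg.coker _ hgg.2) ⟨fun x y hxy => ?_, fun x => ⟨s x, hr x⟩⟩
      have := congrArg s hxy
      simp only [map_smul, hr] at this
      exact this
    exact LinearMap.range_eq_top.1 (Submodule.Quotient.subsingleton_iff.1 hC)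

/-- The ideal of the elements acting derived-completely. -/
def dcIdeal (A : Type*) [CommRing A] (M : Type*) [AddCommGroup M] [Module A M] : Ideal A where
  carrier := {f | DC f M}
  zero_mem' := by
    have : phi (LinearMap.lsmul A M (0 : A)) = LinearMap.id := by
      ext x n
      simp
    show Function.Bijective _
    rw [this]
    exact Function.bijective_id
  add_mem' := dc_add
  smul_mem' a _ h := h.mul_left a

theorem mem_dcIdeal {f : A} : f ∈ dcIdeal A M ↔ DC f M := Iff.rfl

theorem isRadical_dcIdeal : (dcIdeal A M).IsRadical := by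
  rintro f ⟨n, hn⟩
  exact hn.of_pow

theorem forall_dc_of_span {I : Ideal A} {s : Set A} (hs : Ideal.span s = I) (h : ∀ f ∈ s, DC f M) :
    ∀ f ∈ I, DC f M :=
  fun _ hf => (Ideal.span_le (I := dcIdeal A M)).2 h (hs ▸ hf)

end Groth.Agent.Lib.DR.DComp
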