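import Groth.Agent.Lib.DR.DComp.Seq
import Mathlib.Tactic.Ring

/-!
# Sequences as a model of power series
-/

namespace Groth.Agent.Lib.DR.DComp

variable {A : Type*} [CommRing A] {M : Type*} [AddCommGroup M] [Module A M]

/-- Shift to the right. -/
def rsh : (ℕ → M) →ₗ[A] (ℕ → M) where
  toFun y := fun n => match n with
    | 0 => 0
    | n + 1 => y n
  map_add' x y := funext fun n => by cases n <;> simp
  map_smul' a x := funext fun n => by cases n <;> simp

@[simp] theorem rsh_zero (y : ℕ → M) : rsh (A := A) y 0 = 0 := rfl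
@[simp] theorem rsh_succ (y : ℕ → M) (n : ℕ) : rsh (A := A) y (n + 1) = y n := rfl

/-- Multiplication by `t - f`. -/
def psiSeq (f : A) : (ℕ → M) →ₗ[A] (ℕ → M) := rsh - LinearMap.lsmul A (ℕ → M) f

theorem psiSeq_apply (f : A) (y : ℕ → M) (n : ℕ) : psiSeq f y n = rsh (A := A) y n - f • y n := rfl

theorem phi_rsh (f : A) (y : ℕ → M) : phi (LinearMap.lsmul A M f) (rsh (A := A) y) = psiSeq f y := by
  funext n
  simp [psiSeq_apply]

theorem bijective_phi_rsh : Function.Bijective (phi (rsh : (ℕ → M) →ₗ[A] (ℕ → M))) := by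
  refine ⟨(injective_iff_map_eq_zero _).2 fun x hx => ?_, fun b => ?_⟩
  · rw [phi_eq_zero_iff] at hx
    have : ∀ k n, x n k = 0 := fun k => by
      induction k with
      | zero => intro n; rw [hx n, rsh_zero]
      | succ k ih => intro n; rw [hx n, rsh_succ, ih]
    exact funext fun n => funext fun k => this k n
  · let g : ℕ → ℕ → M := fun k => Nat.rec (fun n => b n 0) (fun k gk n => b n (k + 1) + gk (n + 1)) k
    refine ⟨fun n k => g k n, (phi_eq_iff _ _ _).2 fun n => funext fun k => ?_⟩
    cases k with
    | zero => show b n 0 = b n 0 + 0; rw [add_zero]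
    | succ k => rfl

variable {P : Type*} [AddCommGroup P] [Module A P]

theorem dc_ker_coker_of_sub (R : Module.End A P) (f : A) (u : Module.End A P)
    (hu : ∀ x, u x = R x - f • x) (hR : Function.Bijective (phi R)) :
    DC f (LinearMap.ker u) ∧ DC f (P ⧸ LinearMap.range u) := by
  have hcomm : ∀ x, u (R x) = R (u x) := fun x => by rw [hu, hu, map_sub, map_smul]
  have hphi : ∀ x : ℕ → P, (fun n => u (phi R x n)) = phi R fun n => u (x n) := fun x => funext fun n => by
    simp [hcomm]
  constructor
  · refine ⟨(injective_iff_map_eq_zero _).2 fun x hx => ?_, fun b => ?_⟩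
    · rw [phi_eq_zero_iff] at hx
      funext n
      refine Subtype.ext (congrFun (eq_zero_of_chain hR.1 (fun m => (x m).1) fun m => ?_) n)
      have h0 := (x (m + 1)).2
      rw [LinearMap.mem_ker, hu, sub_eq_zero] at h0
      rw [h0]
      exact congrArg Subtype.val (hx m)
    · obtain ⟨y, hy⟩ := hR.2 fun n => (b n).1
      have h0 : (fun n => u (y n)) = 0 := hR.1 (by
        rw [← hphi, hy, map_zero]
        exact funext fun n => (b n).2)
      refine ⟨fun n => ⟨y n, congrFun h0 n⟩, funext fun n => Subtype.ext ?_⟩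
      have h1 := congrFun h0 (n + 1)
      rw [Pi.zero_apply, hu, sub_eq_zero] at h1
      show y n - f • y (n + 1) = (b n).1
      rw [← h1]
      exact congrFun hy n
  · refine ⟨(injective_iff_map_eq_zero _).2 fun x hx => ?_, fun b => ?_⟩
    · choose y hy using fun n => Submodule.Quotient.mk_surjective _ (x n)
      have : ∀ n, ∃ z, u z = phi R y n := fun n => LinearMap.mem_range.1 ((Submodule.Quotient.mk_eq_zero _).1 (by
        have e := congrFun hx n
        rw [phi_apply, Pi.zero_apply, LinearMap.lsmul_apply, ← hy n, ← hy (n + 1), ← Submodule.Quotient.mk_smul,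
          ← Submodule.Quotient.mk_sub, Submodule.Quotient.mk_eq_zero] at e
        rw [phi_apply, Submodule.Quotient.mk_eq_zero]
        have h2 : y n - R (y (n + 1)) = (y n - f • y (n + 1)) - u (y (n + 1)) := by rw [hu]; abel
        rw [h2]
        exact sub_mem e (LinearMap.mem_range_self _ _)))
      choose z hz using this
      obtain ⟨w, hw⟩ := hR.2 z
      have h0 : (fun n => u (w n)) = y := hR.1 (by rw [← hphi, hw]; exact funext hz)
      funext n
      rw [← hy n, ← congrFun h0 n]
      exact (Submodule.Quotient.mk_eq_zero _).2 (LinearMap.mem_range_self _ _)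
    · choose y hy using fun n => Submodule.Quotient.mk_surjective _ (b n)
      obtain ⟨x, hx⟩ := hR.2 y
      refine ⟨fun n => Submodule.Quotient.mk (x n), funext fun n => ?_⟩
      rw [← hy n, ← congrFun hx n, phi_apply, phi_apply, LinearMap.lsmul_apply, ← Submodule.Quotient.mk_smul,
        ← Submodule.Quotient.mk_sub]
      refine (Submodule.Quotient.eq _).2 ⟨x (n + 1), ?_⟩
      rw [hu]
      abel

theorem dc_ker_coker_psiSeq (f : A) :
    DC f (LinearMap.ker (psiSeq (M := M) f)) ∧ DC f ((ℕ → M) ⧸ LinearMap.range (psiSeq (M := M) f)) :=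
  dc_ker_coker_of_sub rsh f _ (fun _ => rfl) bijective_phi_rsh

end Groth.Agent.Lib.DR.DComp
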