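import Groth.Agent.Lib.DR.DComp.Crit
import Groth.Agent.Lib.DR.DComp.SeqAux

/-!
# The complex of sequences in a complex
-/

universe u

open CategoryTheory CategoryTheory.Limits
open Groth.Agent.Lib.RGamma

set_option backward.isDefEq.respectTransparency false

namespace Groth.Agent.Lib.DR.DComp

variable {A : Type u} [CommRing A] (X : CochainComplex (ModuleCat.{u} A) ℤ)

/-- Sequences, termwise. -/
noncomputable def seqCx : CochainComplex (ModuleCat.{u} A) ℤ where
  X i := ModuleCat.of A (ℕ → X.X i)
  d i j := ModuleCat.ofHom ((X.d i j).hom.compLeft ℕ)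
  shape i j h := ModuleCat.hom_ext (LinearMap.ext fun x => funext fun n => congr($(X.shape i j h) (x n)))
  d_comp_d' i j k _ _ := ModuleCat.hom_ext (LinearMap.ext fun x => funext fun n => congr($(X.d_comp_d i j k) (x n)))

/-- The `n`-th projection. -/
noncomputable def projHom (n : ℕ) : seqCx X ⟶ X where
  f i := ModuleCat.ofHom (LinearMap.proj n)
  comm' i j _ := ModuleCat.hom_ext (LinearMap.ext fun x => rfl)

/-- The insertion in degree `0` of sequences. -/
noncomputable def rshHom : seqCx X ⟶ seqCx X where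
  f i := ModuleCat.ofHom (rsh (A := A) (M := X.X i))
  comm' i j _ := ModuleCat.hom_ext (LinearMap.ext fun x => funext fun n => by
    cases n
    · exact map_zero (X.d i j).hom
    · rfl)

/-- `phi`, termwise. -/
noncomputable def phiHom (f : A) : seqCx X ⟶ seqCx X where
  f i := ModuleCat.ofHom (phi (LinearMap.lsmul A (X.X i) f))
  comm' i j _ := ModuleCat.hom_ext (LinearMap.ext fun x => funext fun n => by
    show (X.d i j).hom (x n - f • x (n + 1)) = (X.d i j).hom (x n) - f • (X.d i j).hom (x (n + 1))
    rw [map_sub, map_smul])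

/-- `t - f`, termwise. -/
noncomputable def psiHom (f : A) : seqCx X ⟶ seqCx X := rshHom X ≫ phiHom X f

/-- The kernel of `phiHom`. -/
noncomputable def kerCx (f : A) : CochainComplex (ModuleCat.{u} A) ℤ where
  X i := ModuleCat.of A (LinearMap.ker (phi (LinearMap.lsmul A (X.X i) f)))
  d i j := ModuleCat.ofHom (((seqCx X).d i j).hom.restrict (p := LinearMap.ker (phi (LinearMap.lsmul A (X.X i) f)))
    (q := LinearMap.ker (phi (LinearMap.lsmul A (X.X j) f))) fun x hx => by
      show phi (LinearMap.lsmul A (X.X j) f) (((seqCx X).d i j).hom x) = 0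
      exact (congr($((phiHom X f).comm i j) x)).symm.trans
        ((congrArg ((seqCx X).d i j).hom (show phi (LinearMap.lsmul A (X.X i) f) x = 0 from hx)).trans
          (map_zero _)))
  shape i j h := ModuleCat.hom_ext (LinearMap.ext fun x => Subtype.ext (congr($((seqCx X).shape i j h) x.1)))
  d_comp_d' i j k _ _ := ModuleCat.hom_ext (LinearMap.ext fun x =>
    Subtype.ext (congr($((seqCx X).d_comp_d i j k) x.1)))

theorem bijective_smul_kerCx (f : A) (i : ℤ) : Function.Bijective fun x : (kerCx X f).X i => f • x := by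
  refine ⟨fun y z h => Subtype.ext (funext fun k => ?_),
    fun y => ⟨⟨fun k => y.1 (k + 1), (phi_eq_zero_iff _ _).2 fun k => (phi_eq_zero_iff _ _).1 y.2 (k + 1)⟩,
      Subtype.ext (funext fun k => ((phi_eq_zero_iff _ _).1 y.2 k).symm)⟩⟩
  rw [(phi_eq_zero_iff _ _).1 y.2 k, (phi_eq_zero_iff _ _).1 z.2 k]
  exact congrFun (congrArg Subtype.val h) (k + 1)

/-- The inclusion of the kernel. -/
noncomputable def kerHom (f : A) : kerCx X f ⟶ seqCx X where
  f i := ModuleCat.ofHom (LinearMap.ker (phi (LinearMap.lsmul A (X.X i) f))).subtype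
  comm' i j _ := rfl

theorem shortExact_ker (f : A) (hX : ∀ i, Module.Injective A (X.X i)) :
    (ShortComplex.mk (kerHom X f) (phiHom X f) (HomologicalComplex.hom_ext _ _ fun _ =>
      ModuleCat.hom_ext (LinearMap.ext fun x => x.2))).ShortExact :=
  (HomologicalComplex.shortExact_iff_degreewise_shortExact _).2 fun i =>
    { exact := (ShortComplex.ShortExact.moduleCat_exact_iff_function_exact _).2
        (LinearMap.exact_subtype_ker_map _)
      mono_f := (ModuleCat.mono_iff_injective _).2 Subtype.val_injective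
      epi_g := (ModuleCat.epi_iff_surjective _).2 (surjective_phi_of_injective f (hX i)) }

theorem shortExact_rsh :
    (ShortComplex.mk (rshHom X) (projHom X 0) (HomologicalComplex.hom_ext _ _ fun _ =>
      ModuleCat.hom_ext (LinearMap.ext fun _ => rfl))).ShortExact :=
  (HomologicalComplex.shortExact_iff_degreewise_shortExact _).2 fun i =>
    { exact := (ShortComplex.ShortExact.moduleCat_exact_iff_function_exact _).2 fun x =>
        ⟨fun h => ⟨fun n => x (n + 1), funext fun n => by cases n <;> [exact h.symm; rfl]⟩,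
          by rintro ⟨y, rfl⟩; rfl⟩
      mono_f := (ModuleCat.mono_iff_injective _).2 fun x y h => funext fun n => congrFun h (n + 1)
      epi_g := (ModuleCat.epi_iff_surjective _).2 fun m => ⟨fun _ => m, rfl⟩ }

/-- Cohomology of the sequences: the componentwise map. -/
noncomputable def θ (i : ℤ) : (seqCx X).homology i →ₗ[A] (ℕ → X.homology i) :=
  LinearMap.pi fun n => (HomologicalComplex.homologyMap (projHom X n) i).hom

theorem θ_cls (i : ℤ) (z : Cyc (seqCx X) i) (n : ℕ) :
    θ X i (cls (seqCx X) i z) n = cls X i ⟨z.1 n, congrFun z.2 n⟩ :=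
  homologyMap_cls i (projHom X n) z

theorem bijective_θ (i : ℤ) : Function.Bijective (θ X i) := by
  refine ⟨(injective_iff_map_eq_zero _).2 fun c hc => ?_, fun b => ?_⟩
  · obtain ⟨z, rfl⟩ := cls_surjective (seqCx X) i c
    have : ∀ n, ∃ y : X.X (i - 1), (X.d (i - 1) i).hom y = z.1 n := fun n =>
      (cls_eq_zero_iff X i _).1 ((θ_cls X i z n).symm.trans (congrFun hc n))
    choose y hy using this
    exact (cls_eq_zero_iff _ i z).2 ⟨y, funext hy⟩
  · choose z hz using fun n => cls_surjective X i (b n)
    refine ⟨cls (seqCx X) i ⟨fun n => (z n).1, funext fun n => (z n).2⟩, funext fun n => ?_⟩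
    rw [θ_cls]
    exact hz n

/-- Cohomology of the sequences. -/
noncomputable def θEquiv (i : ℤ) : (seqCx X).homology i ≃ₗ[A] (ℕ → X.homology i) :=
  LinearEquiv.ofBijective (θ X i) (bijective_θ X i)

theorem θ_psiHom (f : A) (i : ℤ) (c : (seqCx X).homology i) :
    θ X i ((HomologicalComplex.homologyMap (psiHom X f) i).hom c) = psiSeq f (θ X i c) := by
  obtain ⟨z, rfl⟩ := cls_surjective (seqCx X) i c
  rw [homologyMap_cls]
  funext n
  rw [θ_cls, psiSeq_apply]
  have e : ((psiHom X f).f i).hom z.1 n = rsh (A := A) z.1 n - f • z.1 n := by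
    show phi (LinearMap.lsmul A (X.X i) f) (rsh (A := A) z.1) n = _
    exact (congrFun (phi_rsh (M := X.X i) f z.1) n).trans (psiSeq_apply f z.1 n)
  cases n with
  | zero =>
    rw [θ_cls, rsh_zero, zero_sub, ← map_smul, ← map_neg]
    refine congrArg (cls X i) (Subtype.ext ?_)
    exact e.trans ((congrArg (fun t => t - f • z.1 0) (rsh_zero z.1)).trans (zero_sub _))
  | succ n =>
    rw [rsh_succ, θ_cls, θ_cls, ← map_smul, ← map_sub]
    refine congrArg (cls X i) (Subtype.ext ?_)
    exact e.trans (congrArg (fun t => t - f • z.1 (n + 1)) (rsh_succ z.1 n))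

end Groth.Agent.Lib.DR.DComp
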