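import Groth.Agent.Lib.DR.DComp.SeqCx
import Groth.Agent.Lib.RGamma.Complete
import Mathlib.Algebra.Homology.DerivedCategory.ShortExact
import Mathlib.Algebra.Homology.DerivedCategory.HomologySequence
import Mathlib.CategoryTheory.Triangulated.Triangulated

/-!
# Derived completion along finitely many elements
-/

universe u

open CategoryTheory CategoryTheory.Limits Pretriangulated
open Groth.Agent.Lib.RGamma

attribute [local instance] HasDerivedCategory.standard

namespace Groth.Agent.Lib.DR.DComp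

variable {A : Type u} [CommRing A]

/-- The homology functor. -/
noncomputable abbrev hF (A : Type u) [CommRing A] (i : ℤ) : Dual.D A ⥤ ModuleCat.{u} A :=
  DerivedCategory.homologyFunctor (ModuleCat.{u} A) i

/-- The value of the homology functor on a complex map. -/
theorem hdIso_naturality {C C' : CochainComplex (ModuleCat.{u} A) ℤ} (g : C ⟶ C') (i : ℤ)
    (x : (hF A i).obj (DerivedCategory.Q.obj C)) :
    (hdIso C' i).hom.hom (((hF A i).map (DerivedCategory.Q.map g)).hom x) =
      (HomologicalComplex.homologyMap g i).hom ((hdIso C i).hom.hom x) :=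
  congr($((DerivedCategory.homologyFunctorFactors (ModuleCat.{u} A) i).hom.naturality g) x)

/-- The functor takes completion steps to maps inverted by morphisms into derived complete objects. -/
def StepPres (I : Ideal A) (Φ : Dual.D A ⥤ Dual.D A) : Prop :=
  ∀ T ∈ distTriang (Dual.D A), ∀ f ∈ I, ∀ W : CochainComplex (ModuleCat.{u} A) ℤ,
    (∀ i, Function.Bijective fun x : W.X i => f • x) → Nonempty (T.obj₃ ≅ DerivedCategory.Q.obj W) →
      PBij I (Φ.map T.mor₁)

theorem θ_phiHom (X : CochainComplex (ModuleCat.{u} A) ℤ) (f : A) (i : ℤ) (c : (seqCx X).homology i) :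
    θ X i ((HomologicalComplex.homologyMap (phiHom X f) i).hom c) =
      phi (LinearMap.lsmul A (X.homology i) f) (θ X i c) := by
  obtain ⟨z, rfl⟩ := cls_surjective (seqCx X) i c
  rw [homologyMap_cls]
  funext n
  rw [θ_cls, phi_apply, θ_cls, θ_cls, LinearMap.lsmul_apply, ← map_smul, ← map_sub]
  rfl

theorem exists_step (f : A) (K : Dual.D A) :
    ∃ (K' : Dual.D A) (η : K ⟶ K'), (∀ I : Ideal A, f ∈ I → PBij I η) ∧
      (∀ (I : Ideal A) (Φ : Dual.D A ⥤ Dual.D A), f ∈ I → StepPres I Φ → PBij I (Φ.map η)) ∧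
      (∀ i, DC f (Dual.HD A K' i)) ∧
      (∀ g : A, (∀ i, DC g (Dual.HD A K i)) → ∀ i, DC g (Dual.HD A K' i)) ∧
      (∀ i, Subsingleton (Dual.HD A K i) → Subsingleton (Dual.HD A K (i + 1)) →
        Subsingleton (Dual.HD A K' i)) ∧
      ∀ i, LinearMap.ker (psiSeq (M := Dual.HD A K (i + 1)) f) = ⊥ →
        ∃ p : ((ℕ → Dual.HD A K i) ⧸ LinearMap.range (psiSeq (M := Dual.HD A K i) f)) →ₗ[A] Dual.HD A K' i,
          Function.Bijective p ∧ ∀ x, ((hF A i).map η).hom x =
            p (Submodule.Quotient.mk (Pi.single (M := fun _ : ℕ => Dual.HD A K i) 0 x)) := by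
  obtain ⟨X, -, hinj, ⟨e⟩⟩ := exists_rep K
  have hX : ∀ i, Module.Injective A (X.X i) := fun i =>
    Module.injective_module_of_injective_object A _ (inj := hinj i)
  let Ψ := DerivedCategory.Q.map (psiHom X f)
  obtain ⟨K', π, δ₀, hT⟩ := distinguished_cocone_triangle Ψ
  have hR := DerivedCategory.triangleOfSES_distinguished (shortExact_rsh X)
  have hF := rot_of_distTriang _ (DerivedCategory.triangleOfSES_distinguished (shortExact_ker X f hX))
  let O := Triangulated.someOctahedron (u₁₃ := Ψ) (v₁₃ := π) (w₁₃ := δ₀)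
    (show DerivedCategory.Q.map (rshHom X) ≫ DerivedCategory.Q.map (phiHom X f) = Ψ from
      (Functor.map_comp _ _ _).symm) hR hF hT
  refine ⟨K', e.hom ≫ O.m₁, fun I hf => (pBij_of_isIso e.hom).comp (pBij_of_triangle _ O.mem
    ((perp_of_bijective f hf _ (bijective_smul_kerCx X f)).shift 1)), fun I Φ hf hΦ => ?_, ?_⟩
  · rw [Φ.map_comp]
    exact (pBij_of_isIso (Φ.map e.hom)).comp (hΦ _ O.mem f hf ((kerCx X f)⟦(1 : ℤ)⟧)
      (fun i => bijective_smul_kerCx X f (i + 1))
      ⟨((DerivedCategory.Q.commShiftIso (1 : ℤ)).app _).symm⟩)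
  let T := Triangle.mk Ψ π δ₀
  let eS : ∀ j, (Groth.Agent.Lib.DR.DComp.hF A j).obj (DerivedCategory.Q.obj (seqCx X)) ≃ₗ[A]
      (ℕ → Dual.HD A K j) := fun j =>
    (hdIso (seqCx X) j).toLinearEquiv ≪≫ₗ θEquiv X j ≪≫ₗ LinearEquiv.piCongrRight fun _ =>
      (((Groth.Agent.Lib.DR.DComp.hF A j).mapIso e) ≪≫ hdIso X j).symm.toLinearEquiv
  have hψ : ∀ j x, eS j (((Groth.Agent.Lib.DR.DComp.hF A j).map Ψ).hom x) = psiSeq f (eS j x) := fun j x => by
    let ε := (((Groth.Agent.Lib.DR.DComp.hF A j).mapIso e) ≪≫ hdIso X j).symm.toLinearEquiv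
    funext n
    show ε (θ X j ((hdIso (seqCx X) j).hom.hom _) n) = _
    rw [hdIso_naturality, θ_psiHom, psiSeq_apply, psiSeq_apply, map_sub, map_smul]
    cases n with
    | zero => rw [rsh_zero, rsh_zero, map_zero]; rfl
    | succ n => rfl
  have key : ∀ i, ∃ (p : ((ℕ → Dual.HD A K i) ⧸ LinearMap.range (psiSeq (M := Dual.HD A K i) f)) →ₗ[A] Dual.HD A K' i)
      (q : Dual.HD A K' i →ₗ[A] LinearMap.ker (psiSeq (M := Dual.HD A K (i + 1)) f)),
      Function.Injective p ∧ Function.Surjective q ∧ LinearMap.ker q = LinearMap.range p ∧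
      ∀ x, ((Groth.Agent.Lib.DR.DComp.hF A i).map (e.hom ≫ O.m₁)).hom x =
        p (Submodule.Quotient.mk (Pi.single (M := fun _ : ℕ => Dual.HD A K i) 0 x)) := by
    intro i
    let h := Groth.Agent.Lib.DR.DComp.hF A
    have e2 := (ShortComplex.ShortExact.moduleCat_exact_iff_function_exact _).1
      (DerivedCategory.HomologySequence.exact₂ T hT i)
    have e3 := (ShortComplex.ShortExact.moduleCat_exact_iff_function_exact _).1
      (DerivedCategory.HomologySequence.exact₃ T hT i (i + 1))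
    have e1 := (ShortComplex.ShortExact.moduleCat_exact_iff_function_exact _).1
      (DerivedCategory.HomologySequence.exact₁ T hT i (i + 1))
    let d : (h i).obj K' →ₗ[A] (h (i + 1)).obj (DerivedCategory.Q.obj (seqCx X)) :=
      (DerivedCategory.HomologySequence.δ T i (i + 1) rfl).hom
    let p₀ : (ℕ → Dual.HD A K i) →ₗ[A] Dual.HD A K' i := ((h i).map π).hom ∘ₗ (eS i).symm.toLinearMap
    have hp : LinearMap.range (psiSeq f) = LinearMap.ker p₀ := by
      refine Submodule.ext fun y => ⟨?_, fun hy => ?_⟩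
      · rintro ⟨z, rfl⟩
        show ((h i).map π).hom ((eS i).symm (psiSeq f z)) = 0
        rw [← (eS i).apply_symm_apply z, ← hψ, LinearEquiv.symm_apply_apply]
        exact (e2 _).2 ⟨_, rfl⟩
      · obtain ⟨z, hz⟩ := (e2 _).1 hy
        exact ⟨eS i z, (hψ i z).symm.trans ((congrArg (eS i) hz).trans ((eS i).apply_symm_apply y))⟩
    let q₀ : Dual.HD A K' i →ₗ[A] LinearMap.ker (psiSeq (M := Dual.HD A K (i + 1)) f) :=
      LinearMap.codRestrict _ ((eS (i + 1)).toLinearMap ∘ₗ d) fun w => by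
        show psiSeq f (eS (i + 1) (d w)) = 0
        rw [← hψ]
        exact (congrArg (eS (i + 1)) ((e1 _).2 ⟨w, rfl⟩)).trans (map_zero _)
    refine ⟨Submodule.liftQ _ p₀ hp.le, q₀, ?_, fun y => ?_, Submodule.ext fun w => ?_, fun x => ?_⟩
    · exact LinearMap.ker_eq_bot.1 (Submodule.ker_liftQ_eq_bot _ _ _ hp.ge)
    · obtain ⟨w, hw⟩ := (e1 ((eS (i + 1)).symm y.1)).1 ((eS (i + 1)).injective (by
        exact (hψ (i + 1) _).trans ((congrArg (psiSeq f) ((eS (i + 1)).apply_symm_apply y.1)).trans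
          ((show psiSeq f y.1 = 0 from y.2).trans (map_zero _).symm))))
      exact ⟨w, Subtype.ext ((congrArg (eS (i + 1)) hw).trans ((eS (i + 1)).apply_symm_apply _))⟩
    · rw [Submodule.range_liftQ, LinearMap.mem_ker]
      refine ⟨fun hw => ?_, ?_⟩
      · have h0 : d w = 0 := (eS (i + 1)).injective ((congrArg Subtype.val hw).trans (map_zero _).symm)
        obtain ⟨z, hz⟩ := (e3 w).1 h0
        exact ⟨eS i z, (congrArg ((h i).map π).hom ((eS i).symm_apply_apply z)).trans hz⟩
      · rintro ⟨z, rfl⟩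
        exact Subtype.ext ((congrArg (eS (i + 1)) ((e3 _).2 ⟨_, rfl⟩)).trans (map_zero _))
    · let s : ℕ → Dual.HD A K i := Pi.single (M := fun _ : ℕ => Dual.HD A K i) 0 x
      let w := (eS i).symm s
      let ε := (((Groth.Agent.Lib.DR.DComp.hF A i).mapIso e) ≪≫ hdIso X i).symm.toLinearEquiv
      have hw : ∀ n, ε (θ X i ((hdIso (seqCx X) i).hom.hom w) n) = s n := fun n =>
        congrFun ((eS i).apply_symm_apply s) n
      have h1 : ((h i).map e.hom).hom x = ((h i).map (DerivedCategory.Q.map (projHom X 0))).hom w := by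
        apply (hdIso X i).toLinearEquiv.injective
        show (hdIso X i).hom.hom _ = (hdIso X i).hom.hom _
        rw [hdIso_naturality]
        apply ε.injective
        refine ((((Groth.Agent.Lib.DR.DComp.hF A i).mapIso e) ≪≫ hdIso X i).toLinearEquiv.symm_apply_apply x).trans ?_
        exact ((hw 0).trans (show s 0 = x from Pi.single_eq_same (M := fun _ : ℕ => Dual.HD A K i) 0 x)).symm
      have h2 : ((h i).map (DerivedCategory.Q.map (phiHom X f))).hom w = w := by
        apply (eS i).injective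
        funext n
        show ε (θ X i ((hdIso (seqCx X) i).hom.hom _) n) = eS i w n
        rw [hdIso_naturality, θ_phiHom, phi_apply, LinearMap.lsmul_apply, map_sub, map_smul, hw, hw,
          show eS i w n = s n from congrFun ((eS i).apply_symm_apply s) n,
          show s (n + 1) = 0 from Pi.single_eq_of_ne (Nat.succ_ne_zero n) x, smul_zero, sub_zero]
      show _ = ((h i).map π).hom w
      rw [Functor.map_comp]
      show ((h i).map O.m₁).hom (((h i).map e.hom).hom x) = _
      rw [h1]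
      refine Eq.trans (Eq.trans ?_ (congr($(congrArg (h i).map O.comm₁) w))) ?_
      · exact (ConcreteCategory.congr_hom ((h i).map_comp (DerivedCategory.Q.map (projHom X 0)) O.m₁) w).symm
      · exact (ConcreteCategory.congr_hom ((h i).map_comp (DerivedCategory.Q.map (phiHom X f)) π) w).trans
          (congrArg ((h i).map π).hom h2)
  refine ⟨fun i => ?_, fun g hg i => ?_, fun i h0 h1 => ?_, fun i hker => ?_⟩ <;> obtain ⟨p, q, hp, hq, hpq, hη⟩ := key i
  · exact dc_of_exact p q hp hq hpq (dc_ker_coker_psiSeq f).2 (dc_ker_coker_psiSeq f).1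
  · exact dc_of_exact p q hp hq hpq ((dc_pi fun _ => hg i).coker _ (dc_pi fun _ => hg i).2)
      ((dc_pi fun _ => hg (i + 1)).ker _ (dc_pi fun _ => hg (i + 1)).1)
  · refine subsingleton_of_forall_eq 0 fun w => ?_
    obtain ⟨y, rfl⟩ : w ∈ LinearMap.range p := hpq ▸ LinearMap.mem_ker.2 (Subsingleton.elim _ _)
    rw [Subsingleton.elim y 0, map_zero]
  · refine ⟨p, ⟨hp, fun w => ?_⟩, hη⟩
    have : w ∈ LinearMap.range p := hpq ▸ LinearMap.mem_ker.2 (Subtype.ext ((Submodule.eq_bot_iff _).1 hker _ (q w).2))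
    exact this

/-- A completion along a list of elements, with its cohomological amplitude. -/
theorem exists_completion_list (I : Ideal A) : ∀ (l : List A), (∀ f ∈ l, f ∈ I) → ∀ K : Dual.D A,
    ∃ (K' : Dual.D A) (η : K ⟶ K'), (PBij I η ∧ ∀ Φ : Dual.D A ⥤ Dual.D A, StepPres I Φ → PBij I (Φ.map η)) ∧
      (∀ f ∈ l, ∀ i, DC f (Dual.HD A K' i)) ∧
      ∀ i : ℤ, (∀ j : ℤ, i ≤ j → j ≤ i + l.length → Subsingleton (Dual.HD A K j)) → Subsingleton (Dual.HD A K' i)
  | [], _, K => ⟨K, 𝟙 K, ⟨pBij_of_isIso _, fun _ _ => pBij_of_isIso _⟩, by simp, fun i h => h i le_rfl (by simp)⟩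
  | f :: l, hl, K => by
    obtain ⟨K₁, η₁, ⟨h1, h1'⟩, h2, h3⟩ := exists_completion_list I l (fun g hg => hl g (List.mem_cons_of_mem _ hg)) K
    obtain ⟨K₂, η₂, g1, g1', g2, g3, g4, -⟩ := exists_step f K₁
    refine ⟨K₂, η₁ ≫ η₂, ⟨h1.comp (g1 I (hl f List.mem_cons_self)), fun Φ hΦ => Φ.map_comp η₁ η₂ ▸
      (h1' Φ hΦ).comp (g1' I Φ (hl f List.mem_cons_self) hΦ)⟩, fun g hg i => ?_, fun i h => g4 i ?_ ?_⟩
    · rcases List.mem_cons.1 hg with rfl | hg
      exacts [g2 i, g3 g (h2 g hg) i]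
    · exact h3 i fun j hj hj' => h j hj (by simp only [List.length_cons]; omega)
    · exact h3 (i + 1) fun j hj hj' => h j (by omega) (by simp only [List.length_cons]; omega)

/-- Derived completion along a finitely generated ideal. -/
theorem exists_completion {I : Ideal A} (s : Finset A) (hs : Ideal.span (s : Set A) = I) (K : Dual.D A) :
    ∃ (K' : Dual.D A) (η : K ⟶ K'), DRing.IsDerivedComplete I K' ∧ PBij I η ∧
      ∀ i : ℤ, (∀ j : ℤ, i ≤ j → j ≤ i + (s.card : ℤ) → Subsingleton (Dual.HD A K j)) → Subsingleton (Dual.HD A K' i) := by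
  obtain ⟨K', η, h1, h2, h3⟩ := exists_completion_list I s.toList
    (fun f hf => hs ▸ Ideal.subset_span (Finset.mem_toList.1 hf)) K
  refine ⟨K', η, isDerivedComplete_iff.2 fun f hf i =>
    forall_dc_of_span hs (fun g hg => h2 g (Finset.mem_toList.2 hg) i) f hf, h1.1, fun i h => h3 i ?_⟩
  simpa using h

/-- Functors preserving completion steps preserve completion maps. -/
theorem exists_completion_stepPres {I : Ideal A} (s : Finset A) (hs : Ideal.span (s : Set A) = I) (K : Dual.D A) :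
    ∃ (K' : Dual.D A) (η : K ⟶ K'), DRing.IsDerivedComplete I K' ∧ PBij I η ∧
      ∀ Φ : Dual.D A ⥤ Dual.D A, StepPres I Φ → PBij I (Φ.map η) := by
  obtain ⟨K', η, h1, h2, -⟩ := exists_completion_list I s.toList
    (fun f hf => hs ▸ Ideal.subset_span (Finset.mem_toList.1 hf)) K
  exact ⟨K', η, isDerivedComplete_iff.2 fun f hf i =>
    forall_dc_of_span hs (fun g hg => h2 g (Finset.mem_toList.2 hg) i) f hf, h1.1, h1.2⟩

end Groth.Agent.Lib.DR.DComp
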