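import Groth.Agent.Lib.DR.DComp.Completion
import Groth.Agent.Lib.DR.EvalHom
import Groth.Agent.Lib.DR.EvalHomCx
import Groth.Agent.Lib.DR.RelHom
import Groth.Agent.Lib.DR.RelHomInv
import Groth.Agent.Lib.DR.Invertible
import Groth.Agent.Lib.DR.LTensorCx
import Groth.Agent.Lib.DR.FlatBC
import Mathlib.CategoryTheory.Adjunction.Unique

/-!
# Derived completeness of Hom and tensor complexes
-/

universe u

open CategoryTheory CategoryTheory.Limits MonoidalCategory
open Groth.Agent.Lib.RGamma
open Groth.Agent.Lib.TensorCx.Basic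
open scoped TensorProduct

attribute [local instance] HasDerivedCategory.standard

set_option backward.isDefEq.respectTransparency false

namespace Groth.Agent.Lib.DR.DComp

variable {A : Type u} [CommRing A] {I : Ideal A}

/-- Hom complexes out of K-flat complexes into K-injective ones are K-injective. -/
theorem isKInjective_homCx {F : DRing.Cx A} (hF : DRing.IsKFlat A F) (J : DRing.Cx A) [J.IsKInjective] :
    CochainComplex.IsKInjective (DRing.homCx F J) := by
  refine ⟨fun {S} g hS => ?_⟩
  have hSF : (S ⊗ F).Acyclic := (KFlat.isKFlat_iff F).1 hF S hS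
  obtain ⟨h⟩ := (HomCx.homotopy_iff (HomCx.homEquiv.symm g) (0 : S ⊗ F ⟶ J)).2
    ⟨CochainComplex.IsKInjective.homotopyZero _ hSF⟩
  have h0 : HomCx.homEquiv (0 : S ⊗ F ⟶ J) = 0 := by
    refine HomologicalComplex.hom_ext _ _ fun i => ModuleCat.hom_ext (LinearMap.ext fun x =>
      HomCx.lv_ext fun p q hpq => LinearMap.ext fun k => ?_)
    rw [HomCx.homEquiv_apply]
    rfl
  exact ⟨(Homotopy.ofEq (HomCx.homEquiv.apply_symm_apply g).symm).trans (h.trans (Homotopy.ofEq h0))⟩

/-- Precomposition transfers along the tensor-Hom adjunction. -/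
theorem bijective_comp_tensor {F : DRing.Cx A} (hF : DRing.IsKFlat A F) (J : DRing.Cx A) [J.IsKInjective]
    {T T' : DRing.Cx A} (g : T ⟶ T')
    (hg : Function.Bijective fun x : DerivedCategory.Q.obj T' ⟶ DerivedCategory.Q.obj (DRing.homCx F J) =>
      DerivedCategory.Q.map g ≫ x) :
    Function.Bijective fun x : DerivedCategory.Q.obj (T' ⊗ F) ⟶ DerivedCategory.Q.obj J =>
      DerivedCategory.Q.map (g ▷ F) ≫ x := by
  have := isKInjective_homCx hF J
  constructor
  · intro a b hab
    obtain ⟨a, rfl⟩ := EvalHom.exists_Q_map_eq_injective a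
    obtain ⟨b, rfl⟩ := EvalHom.exists_Q_map_eq_injective b
    simp only [← Functor.map_comp] at hab
    obtain ⟨H⟩ := EvalHom.nonempty_homotopy_of_Q_map_eq_injective hab
    obtain ⟨H'⟩ := (HomCx.homotopy_iff _ _).2 ⟨H⟩
    have h1 : DerivedCategory.Q.map g ≫ DerivedCategory.Q.map (HomCx.homEquiv a) =
        DerivedCategory.Q.map g ≫ DerivedCategory.Q.map (HomCx.homEquiv b) := by
      rw [← Functor.map_comp, ← Functor.map_comp, ← HomCx.homEquiv_naturality_left, ← HomCx.homEquiv_naturality_left]
      exact DerivedCategory.Q_map_eq_of_homotopy _ H'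
    obtain ⟨H₂⟩ := EvalHom.nonempty_homotopy_of_Q_map_eq_injective (hg.1 h1)
    obtain ⟨H₃⟩ := (HomCx.homotopy_iff _ _).1 ⟨H₂⟩
    exact DerivedCategory.Q_map_eq_of_homotopy _ H₃
  · intro c
    obtain ⟨c, rfl⟩ := EvalHom.exists_Q_map_eq_injective c
    obtain ⟨x, hx⟩ := hg.2 (DerivedCategory.Q.map (HomCx.homEquiv c))
    obtain ⟨x, rfl⟩ := EvalHom.exists_Q_map_eq_injective x
    simp only [← Functor.map_comp] at hx
    obtain ⟨H⟩ := EvalHom.nonempty_homotopy_of_Q_map_eq_injective hx
    refine ⟨DerivedCategory.Q.map (HomCx.homEquiv.symm x), ?_⟩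
    simp only [← Functor.map_comp]
    have e : HomCx.homEquiv (g ▷ F ≫ HomCx.homEquiv.symm x) = g ≫ x := by
      rw [HomCx.homEquiv_naturality_left, Equiv.apply_symm_apply]
    obtain ⟨H'⟩ := (HomCx.homotopy_iff _ _).1 ⟨(Homotopy.ofEq e).trans H⟩
    exact DerivedCategory.Q_map_eq_of_homotopy _ H'

theorem bijective_smul_tensor (f : A) {C : DRing.Cx A} (hC : ∀ i, Function.Bijective fun x : C.X i => f • x)
    (F : DRing.Cx A) (n : ℤ) : Function.Bijective fun x : (C ⊗ F).X n => f • x := by
  have hi : ∀ i, IsIso ((f • 𝟙 C : C ⟶ C).f i) := fun i => by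
    rw [ConcreteCategory.isIso_iff_bijective]
    exact hC i
  have : IsIso (f • 𝟙 C) := HomologicalComplex.Hom.isIso_of_components _
  have : IsIso ((f • 𝟙 C) ▷ F) := ((tensorRight F).mapIso (asIso (f • 𝟙 C))).isIso_hom
  have : IsIso (((f • 𝟙 C) ▷ F).f n) :=
    ((HomologicalComplex.eval _ _ n).mapIso (asIso ((f • 𝟙 C) ▷ F))).isIso_hom
  have e : ∀ x : (tens C F).X n, ((f • 𝟙 C) ▷ F).f n x = f • x := fun x => by
    induction x using Groth.Agent.Lib.TensorCx.Basic.induction with
    | zero => rw [map_zero, smul_zero]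
    | add a b ha hb => rw [map_add, ha, hb, smul_add]
    | inc i j hij y =>
      induction y using TensorProduct.induction_on with
      | zero => simp only [map_zero, smul_zero]
      | add a b ha hb => simp only [map_add, smul_add, ha, hb]
      | tmul c x =>
        refine (RelHom.mapL_incl (f • 𝟙 C) i j n hij c x).trans ?_
        exact (congrArg (incl C F i j n hij) (TensorProduct.smul_tmul' f c x).symm).trans
          (map_smul (incl C F i j n hij) f (c ⊗ₜ x))
  have h := (ConcreteCategory.isIso_iff_bijective (((f • 𝟙 C) ▷ F).f n)).1 this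
  have e' : (fun x : (C ⊗ F).X n => f • x) = fun x => ((f • 𝟙 C) ▷ F).f n x := funext fun x => (e x).symm
  rw [e']
  exact h

theorem perp_homCx {F : DRing.Cx A} (hF : DRing.IsKFlat A F) (J : DRing.Cx A) [J.IsKInjective]
    (hJ : DRing.IsDerivedComplete I (DerivedCategory.Q.obj J)) {f : A} (hf : f ∈ I) (C : DRing.Cx A)
    (hC : ∀ i, Function.Bijective fun x : C.X i => f • x)
    (φ : DerivedCategory.Q.obj C ⟶ DerivedCategory.Q.obj (DRing.homCx F J)) : φ = 0 := by
  have := isKInjective_homCx hF J
  obtain ⟨g, rfl⟩ := EvalHom.exists_Q_map_eq_injective φ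
  have h0 : DerivedCategory.Q.map (HomCx.homEquiv.symm g) = DerivedCategory.Q.map 0 := by
    rw [Functor.map_zero]
    exact perp_of_bijective f hf (C ⊗ F) (bijective_smul_tensor f hC F) _ hJ _
  obtain ⟨H⟩ := EvalHom.nonempty_homotopy_of_Q_map_eq_injective h0
  obtain ⟨H'⟩ := (HomCx.homotopy_iff _ _).2 ⟨H⟩
  have h1 : HomCx.homEquiv (0 : C ⊗ F ⟶ J) = 0 := by
    refine HomologicalComplex.hom_ext _ _ fun i => ModuleCat.hom_ext (LinearMap.ext fun x =>
      HomCx.lv_ext fun p q hpq => LinearMap.ext fun k => ?_)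
    rw [HomCx.homEquiv_apply]
    rfl
  rw [DerivedCategory.Q_map_eq_of_homotopy _ ((Homotopy.ofEq (HomCx.homEquiv.apply_symm_apply g).symm).trans
    (H'.trans (Homotopy.ofEq h1))), Functor.map_zero]

/-- A test for derived completeness. -/
theorem isDerivedComplete_of_perp {Y : Dual.D A} (h : ∀ f ∈ I, ∀ C : DRing.Cx A,
    (∀ i, Function.Bijective fun x : C.X i => f • x) → ∀ φ : DerivedCategory.Q.obj C ⟶ Y, φ = 0) :
    DRing.IsDerivedComplete I Y := fun f hf n => by
  let M := ModuleCat.of A (Localization.Away f)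
  let C := (HomologicalComplex.single (ModuleCat.{u} A) (ComplexShape.up ℤ) n).obj M
  have hC : ∀ i, Function.Bijective fun x : C.X i => f • x := fun i => by
    by_cases hi : i = n
    · subst hi
      let s := (HomologicalComplex.singleObjXSelf (ComplexShape.up ℤ) i M).toLinearEquiv
      have e : (fun x : C.X i => f • x) = s.symm ∘ (fun x : Localization.Away f => f • x) ∘ s := funext fun x => by
        show f • x = s.symm (f • s x)
        rw [map_smul, LinearEquiv.symm_apply_apply]
      have h2 : Function.Bijective fun x : Localization.Away f => f • x := by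
        have : (fun x : Localization.Away f => f • x) = fun x => algebraMap A (Localization.Away f) f • x :=
          funext fun x => (algebraMap_smul (Localization.Away f) f x).symm
        rw [this]
        exact (IsLocalization.Away.algebraMap_isUnit (S := Localization.Away f) f).smul_bijective
      rw [e]
      exact s.symm.bijective.comp (h2.comp s.bijective)
    · have := ModuleCat.subsingleton_of_isZero
        (HomologicalComplex.isZero_single_obj_X (ComplexShape.up ℤ) n M i hi)
      exact ⟨fun _ _ _ => Subsingleton.elim _ _, fun b => ⟨b, Subsingleton.elim _ _⟩⟩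
  have h0 : Subsingleton ((DerivedCategory.singleFunctor (ModuleCat.{u} A) n).obj M ⟶ Y) :=
    subsingleton_of_forall_eq 0 fun φ => by
      apply (cancel_epi ((DerivedCategory.singleFunctorIsoCompQ (ModuleCat.{u} A) n).app M).inv).1
      rw [comp_zero]
      exact h f hf C hC _
  let e := ((DerivedCategory.singleFunctors (ModuleCat.{u} A)).shiftIso n 0 n (add_zero n)).app M
  have h1 : Subsingleton ((DerivedCategory.singleFunctor (ModuleCat.{u} A) n).obj M⟦n⟧ ⟶ Y⟦n⟧) :=
    (shiftEquiv (Dual.D A) n).fullyFaithfulFunctor.homEquiv.symm.subsingleton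
  exact @Equiv.subsingleton _ _ e.homFromEquiv.symm h1

theorem isDerivedComplete_homCx {F : DRing.Cx A} (hF : DRing.IsKFlat A F) (J : DRing.Cx A) [J.IsKInjective]
    (hJ : DRing.IsDerivedComplete I (DerivedCategory.Q.obj J)) :
    DRing.IsDerivedComplete I (DerivedCategory.Q.obj (DRing.homCx F J)) :=
  isDerivedComplete_of_perp fun _ hf C hC φ => perp_homCx hF J hJ hf C hC φ

theorem pBij_tensor {F : DRing.Cx A} (hF : DRing.IsKFlat A F) {T T' : DRing.Cx A} (g : T ⟶ T')
    (hg : PBij I (DerivedCategory.Q.map g)) : PBij I (DerivedCategory.Q.map (g ▷ F)) := fun Y hY => by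
  obtain ⟨J, hJ, -, ⟨e⟩⟩ := exists_rep Y
  have hJc : DRing.IsDerivedComplete I (DerivedCategory.Q.obj J) := by
    rw [isDerivedComplete_iff] at hY ⊢
    exact fun f hf i => (hY f hf i).congr ((Groth.Agent.Lib.DR.DComp.hF A i).mapIso e).toLinearEquiv
  have h := bijective_comp_tensor hF J g (hg _ (isDerivedComplete_homCx hF J hJc))
  have e' : (fun φ : DerivedCategory.Q.obj (T' ⊗ F) ⟶ Y => DerivedCategory.Q.map (g ▷ F) ≫ φ) =
      e.homToEquiv.symm ∘ (fun x => DerivedCategory.Q.map (g ▷ F) ≫ x) ∘ e.homToEquiv := funext fun φ => by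
    simp
  rw [e']
  exact e.homToEquiv.symm.bijective.comp (h.comp e.homToEquiv.bijective)

/-- Derived completeness is invariant under isomorphisms. -/
theorem isDerivedComplete_of_iso {X Y : Dual.D A} (e : X ≅ Y) (hX : DRing.IsDerivedComplete I X) :
    DRing.IsDerivedComplete I Y := by
  rw [isDerivedComplete_iff] at hX ⊢
  exact fun f hf i => (hX f hf i).congr ((Groth.Agent.Lib.DR.DComp.hF A i).mapIso e).toLinearEquiv

theorem isDerivedComplete_homCx_of_isKProjective (P : DRing.Cx A) [P.IsKProjective] (G : DRing.Cx A)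
    (hG : DRing.IsDerivedComplete I (DerivedCategory.Q.obj G)) :
    DRing.IsDerivedComplete I (DerivedCategory.Q.obj (DRing.homCx P G)) := by
  obtain ⟨J, η, hJ, hη, -⟩ := exists_res G
  have := DTenBasic.isIso_Q_map η hη
  have h2 : IsIso ((DRing.homCxQ P).map η) := RHom.inverts_homCxQ P η hη
  exact isDerivedComplete_of_iso (asIso ((DRing.homCxQ P).map η)).symm
    (isDerivedComplete_homCx (KFlat.isKFlat_of_isKProjective P) J
      (isDerivedComplete_of_iso (asIso (DerivedCategory.Q.map η)) hG))

/-- `Hom(A, Y) = Y`. -/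
noncomputable def homUnitIso : 𝟭 (DRing.Cx A) ≅ DRing.homCxFunctor (𝟙_ (DRing.Cx A)) :=
  Adjunction.rightAdjointUniq Adjunction.id
    ((HomCx.adjunction (𝟙_ (DRing.Cx A))).ofNatIsoLeft (rightUnitorNatIso (DRing.Cx A)))

/-- Tensoring with a bounded complex of finite projectives preserves derived completeness. -/
theorem isDerivedComplete_tensor_bounded (G S : DRing.Cx A) (T : Finset ℤ) (hT : ∀ p, p ∉ T → IsZero (S.X p))
    (hS : ∀ p, Module.Finite A (S.X p) ∧ Module.Projective A (S.X p))
    (hG : DRing.IsDerivedComplete I (DerivedCategory.Q.obj G)) :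
    DRing.IsDerivedComplete I (DerivedCategory.Q.obj (G ⊗ S)) := by
  classical
  let U : DRing.Cx A := 𝟙_ (DRing.Cx A)
  let P := DRing.homCx S U
  have hP0 : ∀ q, q ∉ T.image (fun p => -p) → IsZero (P.X q) := fun q hq =>
    RelHomInv.isZero_homCx_X S q (-q) (by omega) (hT _ fun h => hq (Finset.mem_image.2 ⟨-q, h, by omega⟩))
  have hPp : ∀ q, Module.Finite A (P.X q) ∧ Module.Projective A (P.X q) := fun q => by
    have := (hS (-q)).1
    have := (hS (-q)).2
    let e := LinearEquiv.ofBijective _ (RelHomInv.bijective_dual S q (-q) (by omega))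
    exact ⟨Module.Finite.equiv e.symm, Module.Projective.of_equiv e.symm⟩
  have : ∀ q, Projective (P.X q) := fun q =>
    have := (hPp q).2
    (IsProjective.iff_projective (R := A) (P.X q)).1 this
  obtain ⟨b, hb'⟩ := (T.image fun p : ℤ => -p).bddAbove
  have hb : ∀ q ∈ T.image (fun p => -p), q ≤ b := fun q h => hb' (Finset.mem_coe.2 h)
  have : P.IsStrictlyLE b := (CochainComplex.isStrictlyLE_iff _ _).2 fun q hq =>
    hP0 q fun h => absurd (hb q h) (not_le.2 hq)
  have hPK : P.IsKProjective := CochainComplex.isKProjective_of_projective P b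
  have h1 := EvalHomCx.isIso_evalHomCx S U U hS (EvalHomCx.finitary_of_bounded S U U T hT)
  have h2 := HomCxFinite.isIso_evalTenCx_of_right G P U _ hP0 hPp
  let e : G ⊗ S ≅ DRing.homCx P G :=
    whiskerLeftIso G ((λ_ S).symm ≪≫ whiskerRightIso (homUnitIso.app U) S ≪≫ asIso (EvalHomCx.evalHomCx S U U)) ≪≫
      asIso (HomCxFinite.evalTenCx G P U) ≪≫ (DRing.homCxFunctor P).mapIso (ρ_ G)
  exact isDerivedComplete_of_iso (DerivedCategory.Q.mapIso e.symm) (isDerivedComplete_homCx_of_isKProjective P G hG)

theorem bijective_whiskerLeft_f (G : DRing.Cx A) {S F : DRing.Cx A} (φ : S ⟶ F) (n : ℤ)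
    (h : ∀ i q, i + q = n → IsZero (G.X i) ∨ IsIso (φ.f q)) : Function.Bijective ((G ◁ φ).f n).hom := by
  classical
  let r : ∀ i q, i + q = n → (G.X i ⊗[A] F.X q →ₗ[A] (tens G S).X n) := fun i q hiq =>
    if hG : IsZero (G.X i) then 0 else
      incl G S i q n hiq ∘ₗ (@inv _ _ _ _ (φ.f q) ((h i q hiq).resolve_left hG)).hom.lTensor (G.X i)
  let R : (tens G F).X n →ₗ[A] (tens G S).X n :=
    (HomologicalComplex.mapBifunctorDesc (F := curriedTensor (ModuleCat.{u} A))
      (A := (tens G S).X n) fun i q (hiq : i + q = n) => ModuleCat.ofHom (r i q hiq)).hom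
  have hR : ∀ i q (hiq : i + q = n) t, R (incl G F i q n hiq t) = r i q hiq t := fun i q hiq t =>
    ConcreteCategory.congr_hom (HomologicalComplex.ι_mapBifunctorDesc (K₁ := G) (K₂ := F)
      (F := curriedTensor (ModuleCat.{u} A)) (c := ComplexShape.up ℤ) (j := n) _ i q hiq) t
  refine ⟨Function.LeftInverse.injective (g := R) fun y => ?_,
    Function.RightInverse.surjective (g := R) fun y => ?_⟩
  · induction y using Groth.Agent.Lib.TensorCx.Basic.induction with
    | zero => rw [map_zero, map_zero]
    | add a b ha hb => rw [map_add, map_add, ha, hb]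
    | inc i q hiq t =>
      induction t using TensorProduct.induction_on with
      | zero => simp only [map_zero]
      | add a b ha hb => simp only [map_add, ha, hb]
      | tmul g s =>
        refine (congrArg R (RelHom.whiskerLeft_incl G φ i q n hiq g s)).trans ((hR i q hiq _).trans ?_)
        simp only [r]
        split_ifs with hG
        · have := ModuleCat.subsingleton_of_isZero hG
          rw [Subsingleton.elim g 0]
          exact ((congrArg (incl G S i q n hiq) (TensorProduct.zero_tmul (G.X i) s)).trans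
            (map_zero (incl G S i q n hiq))).symm
        · have := (h i q hiq).resolve_left hG
          rw [LinearMap.comp_apply, LinearMap.lTensor_tmul]
          exact congrArg (fun z => incl G S i q n hiq (g ⊗ₜ z)) (congr($(IsIso.hom_inv_id (φ.f q)) s))
  · induction y using Groth.Agent.Lib.TensorCx.Basic.induction with
    | zero => rw [map_zero, map_zero]
    | add a b ha hb => rw [map_add, map_add, ha, hb]
    | inc i q hiq t =>
      rw [hR]
      simp only [r]
      split_ifs with hG
      · have := ModuleCat.subsingleton_of_isZero hG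
        have : Subsingleton (G.X i ⊗[A] F.X q) := TensorProduct.uniqueLeft.instSubsingleton
        rw [LinearMap.zero_apply, map_zero, Subsingleton.elim t 0, map_zero]
      · have := (h i q hiq).resolve_left hG
        induction t using TensorProduct.induction_on with
        | zero => simp only [map_zero]
        | add a b ha hb => simp only [map_add, ha, hb]
        | tmul g s =>
          rw [LinearMap.comp_apply, LinearMap.lTensor_tmul]
          refine (RelHom.whiskerLeft_incl G φ i q n hiq g _).trans ?_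
          exact congrArg (fun z => incl G F i q n hiq (g ⊗ₜ z)) (congr($(IsIso.inv_hom_id (φ.f q)) s))

theorem bijective_homologyMap_of_bijective {C D : DRing.Cx A} (g : C ⟶ D) (n : ℤ)
    (h : ∀ i, n - 1 ≤ i → Function.Bijective (g.f i).hom) : IsIso (HomologicalComplex.homologyMap g n) := by
  rw [← quasiIsoAt_iff_isIso_homologyMap]
  refine quasiIsoAt_of_cycles n g (fun x hx => ?_) fun z hz ⟨w, hw⟩ => ?_
  · obtain ⟨z, rfl⟩ := (h n (by omega)).2 x
    refine ⟨z, 0, (h (n + 1) (by omega)).1 ?_, by rw [map_zero, add_zero]⟩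
    rw [map_zero]
    exact (congr($(g.comm n (n + 1)) z)).symm.trans hx
  · obtain ⟨y, rfl⟩ := (h (n - 1) le_rfl).2 w
    exact ⟨y, (h n (by omega)).1 ((congr($(g.comm (n - 1) n) y)).symm.trans hw)⟩

/-- Tensoring a bounded above complex with a bounded above complex of finite projectives preserves
derived completeness. -/
theorem isDerivedComplete_tensor (G F : DRing.Cx A) (b c : ℤ) (hGb : ∀ i, b < i → IsZero (G.X i))
    (hFc : ∀ i, c < i → IsZero (F.X i)) (hFp : ∀ i, PseudoCoherent.fproj A (F.X i))
    (hG : DRing.IsDerivedComplete I (DerivedCategory.Q.obj G)) :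
    DRing.IsDerivedComplete I (DerivedCategory.Q.obj (G ⊗ F)) := by
  rw [isDerivedComplete_iff]
  intro f hf n
  obtain ⟨S, φ, hz, hSp, hSz, hiso, -⟩ := FiniteComplex.exists_stupidTrunc PseudoCoherent.good_fproj F (n - 1 - b)
    hFp
  have hS := isDerivedComplete_tensor_bounded G S (Finset.Icc (n - 1 - b) c)
    (fun p hp => by
      rw [Finset.mem_Icc, not_and_or, not_le, not_le] at hp
      exact hp.elim (hz p) fun hp => hSz p (hFc p hp)) hSp hG
  have hiso' : IsIso (HomologicalComplex.homologyMap (G ◁ φ) n) :=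
    bijective_homologyMap_of_bijective _ n fun j hj => bijective_whiskerLeft_f G φ j fun i q hiq => by
      by_cases hi : b < i
      · exact Or.inl (hGb i hi)
      · exact Or.inr (hiso q (by omega))
  exact (isDerivedComplete_iff.1 hS f hf n).congr (hdIso (G ⊗ S) n ≪≫
    @asIso _ _ _ _ (HomologicalComplex.homologyMap (G ◁ φ) n) hiso' ≪≫ (hdIso (G ⊗ F) n).symm).toLinearEquiv

end Groth.Agent.Lib.DR.DComp
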