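import Groth.Agent.Lib.DR.DComp.TensorHom
import Groth.Agent.Lib.DR.Representative
import Groth.Agent.Lib.DR.TwoTerm
import Groth.Agent.Lib.DR.DTenBasic

/-!
# Derived completion of derived tensor products with pseudo-coherent complexes
-/

universe u

open CategoryTheory CategoryTheory.Limits MonoidalCategory
open Groth.Agent.Lib.RGamma
open Groth.Agent.Lib.TensorCx.Basic
open Groth.Agent.Lib.DR.PseudoCoherent

attribute [local instance] HasDerivedCategory.standard

set_option backward.isDefEq.respectTransparency false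

namespace Groth.Agent.Lib.DR.DComp

variable {A : Type u} [CommRing A] {I : Ideal A}

theorem pBij_comp {X Y Z : Dual.D A} {g : X ⟶ Y} {g' : Y ⟶ Z} (h : PBij I g) (h' : PBij I g') :
    PBij I (g ≫ g') := fun W hW => by
  have e : (fun φ : Z ⟶ W => (g ≫ g') ≫ φ) = (fun x => g ≫ x) ∘ fun φ => g' ≫ φ :=
    funext fun φ => Category.assoc g g' φ
  rw [e]
  exact (h W hW).comp (h' W hW)

theorem pBij_of_isIso {X Y : Dual.D A} (g : X ⟶ Y) [IsIso g] : PBij I g := fun W _ =>
  ⟨fun _ _ h => (cancel_epi g).1 h, fun φ => ⟨inv g ≫ φ, IsIso.hom_inv_id_assoc g φ⟩⟩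

/-- A functor computed by tensoring K-projective complexes with a bounded above complex of finite projectives
commutes with derived completion on bounded above objects. -/
theorem tensor_completion (LF : Dual.D A ⥤ Dual.D A) (F : DRing.Cx A) (c : ℤ)
    (hFc : ∀ i, c < i → IsZero (F.X i)) (hFp : ∀ i, fproj A (F.X i))
    (α : ∀ (P : DRing.Cx A) [P.IsKProjective], LF.obj (DerivedCategory.Q.obj P) ≅ DerivedCategory.Q.obj (P ⊗ F))
    (hα : ∀ (P G : DRing.Cx A) [P.IsKProjective] [G.IsKProjective] (h : P ⟶ G),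
      LF.map (DerivedCategory.Q.map h) ≫ (α G).hom = (α P).hom ≫ DerivedCategory.Q.map (h ▷ F))
    {K K' : Dual.D A} (η : K ⟶ K') (hη : PBij I η) (hc : DRing.IsDerivedComplete I K') (b : ℤ)
    (hb : ∀ i, b < i → Subsingleton (Dual.HD A K' i)) :
    DRing.IsDerivedComplete I (LF.obj K') ∧ PBij I (LF.map η) := by
  have hle : K'.IsLE b := (isLE_iff_subsingleton K' b).2 hb
  obtain ⟨G, hGz, hGp, ⟨e⟩⟩ := Representative.ba_proj hle
  have : ∀ q, Projective (G.X q) := fun q => projective_of_proj _ (hGp q)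
  have : G.IsStrictlyLE b := (CochainComplex.isStrictlyLE_iff _ _).2 hGz
  have : G.IsKProjective := CochainComplex.isKProjective_of_projective G b
  have h1 : DRing.IsDerivedComplete I (DerivedCategory.Q.obj G) := isDerivedComplete_of_iso e.symm hc
  refine ⟨isDerivedComplete_of_iso ((α G).symm ≪≫ LF.mapIso e)
    (isDerivedComplete_tensor G F b c hGz hFc hFp h1), ?_⟩
  obtain ⟨P, hP, ⟨e'⟩⟩ := DTenBasic.exists_rep K
  obtain ⟨h, hh⟩ := Basic.exists_Q_map_eq (e'.hom ≫ η ≫ e.inv)
  have h2 : PBij I (DerivedCategory.Q.map h) := by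
    rw [hh]
    exact pBij_comp (pBij_of_isIso _) (pBij_comp hη (pBij_of_isIso _))
  have hF : DRing.IsKFlat A F := KFlat.isKFlat_of_flat F c hFc fun i =>
    have := (hFp i).2
    inferInstance
  have h3 := pBij_tensor hF h h2
  have h4 : LF.map η = LF.map e'.inv ≫ (α P).hom ≫ DerivedCategory.Q.map (h ▷ F) ≫ (α G).inv ≫ LF.map e.hom := by
    rw [← reassoc_of% (hα P G h), Iso.hom_inv_id_assoc, hh, ← Functor.map_comp, ← Functor.map_comp]
    congr 1
    simp
  rw [h4]
  exact pBij_comp (pBij_of_isIso _) (pBij_comp (pBij_of_isIso _) (pBij_comp h3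
    (pBij_comp (pBij_of_isIso _) (pBij_of_isIso _))))

end Groth.Agent.Lib.DR.DComp
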